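import Mathlib.RingTheory.Polynomial.Cyclotomic.Roots
import Mathlib.RingTheory.Polynomial.Cyclotomic.Expand
import Mathlib.LinearAlgebra.Matrix.Charpoly.Basic
import Mathlib.LinearAlgebra.Matrix.Charpoly.Coeff

/-!
A finite order integral matrix with an eigenvalue of order `e` modulo a prime, in rank `φ(e)`.
-/

set_option autoImplicit false
set_option linter.dupNamespace false

namespace CfsgLib.CoxTorus

open Polynomial Matrix

variable {r : ℕ}

theorem aeval_mulVec_eigen {R : Type*} [CommRing R] (A : Matrix (Fin r) (Fin r) R) {v : Fin r → R} {c : R}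
    (h : A *ᵥ v = c • v) (P : R[X]) : (aeval A P) *ᵥ v = P.eval c • v := by
  induction P using Polynomial.induction_on' with
  | add P Q hP hQ => rw [map_add, Matrix.add_mulVec, hP, hQ, eval_add, add_smul]
  | monomial n a =>
    have hpow : ∀ n : ℕ, (A ^ n) *ᵥ v = c ^ n • v := by
      intro n
      induction n with
      | zero => simp
      | succ n ih => rw [pow_succ, ← Matrix.mulVec_mulVec, h, Matrix.mulVec_smul, ih, smul_smul, pow_succ']
    rw [aeval_monomial, eval_monomial, ← Algebra.smul_def, Matrix.smul_mulVec, hpow, smul_smul]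

theorem map_aeval_int {S : Type*} [CommRing S] (A : Matrix (Fin r) (Fin r) ℤ) (P : ℤ[X]) :
    (aeval A P).map (Int.castRingHom S) = aeval (A.map (Int.castRingHom S)) (P.map (Int.castRingHom S)) := by
  induction P using Polynomial.induction_on' with
  | add P Q hP hQ =>
    rw [map_add, Polynomial.map_add, map_add, ← hP, ← hQ]
    exact Matrix.map_add _ (map_add _) _ _
  | monomial n a =>
    rw [aeval_monomial, Polynomial.map_monomial, aeval_monomial]
    show (Int.castRingHom S).mapMatrix (algebraMap ℤ (Matrix (Fin r) (Fin r) ℤ) a * A ^ n) = _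
    rw [map_mul, map_pow]
    congr 1
    simp

/-- The characteristic polynomial is the cyclotomic polynomial. -/
theorem charpoly_eq_cyclotomic {e m ℓ : ℕ} [Fact ℓ.Prime] (he : 0 < e) (hr : e.totient = r)
    (A : Matrix (Fin r) (Fin r) ℤ) (hm : 0 < m) (hA : A ^ m = 1) (hlm : ¬ ℓ ∣ m)
    {c : ZMod ℓ} (hc : IsPrimitiveRoot c e) {v : Fin r → ZMod ℓ} (hv : v ≠ 0)
    (hAv : A.map (Int.castRingHom (ZMod ℓ)) *ᵥ v = c • v) : A.charpoly = cyclotomic e ℤ := by
  classical
  have hr0 : 0 < r := hr ▸ Nat.totient_pos.2 he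
  set B := A.map (Int.castRingHom ℚ) with hB
  have hBm : B ^ m = 1 := by
    rw [hB, show A.map (Int.castRingHom ℚ) = (Int.castRingHom ℚ).mapMatrix A from rfl, ← map_pow, hA, map_one]
  set R : ℤ[X] := ∏ d ∈ m.divisors.erase e, cyclotomic d ℤ with hR
  have hirr := cyclotomic.irreducible_rat he
  have hdvd : cyclotomic e ℚ ∣ minpoly ℚ B := by
    by_contra hnd
    have hcop : IsCoprime (cyclotomic e ℚ) (minpoly ℚ B) := hirr.coprime_iff_not_dvd.2 hnd
    have hX : minpoly ℚ B ∣ X ^ m - 1 := minpoly.dvd ℚ B (by simp [hBm])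
    have hdR : minpoly ℚ B ∣ R.map (Int.castRingHom ℚ) := by
      rw [hR, Polynomial.map_prod]
      simp only [map_cyclotomic]
      rw [← prod_cyclotomic_eq_X_pow_sub_one hm ℚ] at hX
      by_cases hem : e ∈ m.divisors
      · rw [← Finset.mul_prod_erase _ _ hem] at hX
        exact hcop.symm.dvd_of_dvd_mul_left hX
      · rwa [Finset.erase_eq_of_notMem hem]
    have h0 : aeval A R = 0 := by
      have h1 : aeval B (R.map (Int.castRingHom ℚ)) = 0 := by
        obtain ⟨P, hP⟩ := hdR
        rw [hP, map_mul, minpoly.aeval, zero_mul]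
      rw [hB, ← map_aeval_int] at h1
      exact Matrix.map_injective Int.cast_injective (h1.trans (Matrix.map_zero _ Int.cast_zero).symm)
    have h2 := congrArg (fun M : Matrix (Fin r) (Fin r) ℤ => M.map (Int.castRingHom (ZMod ℓ))) h0
    simp only [map_aeval_int] at h2
    have h3 := aeval_mulVec_eigen _ hAv (R.map (Int.castRingHom (ZMod ℓ)))
    rw [h2, Matrix.map_zero _ (map_zero _), Matrix.zero_mulVec, hR, Polynomial.map_prod, eval_prod] at h3
    simp only [map_cyclotomic] at h3
    obtain ⟨d, hd, hd0⟩ := Finset.prod_eq_zero_iff.1 ((smul_eq_zero.1 h3.symm).resolve_right hv)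
    obtain ⟨hde, hdm⟩ := Finset.mem_erase.1 hd
    have hdm' := Nat.dvd_of_mem_divisors hdm
    haveI : NeZero (d : ZMod ℓ) := ⟨fun h => hlm (dvd_trans ((ZMod.natCast_eq_zero_iff _ _).1 h) hdm')⟩
    exact hde ((isRoot_cyclotomic_iff.1 hd0).unique hc)
  have hmon : (cyclotomic e ℚ).Monic := cyclotomic.monic e ℚ
  have hcp : B.charpoly = cyclotomic e ℚ := by
    refine (eq_of_monic_of_dvd_of_natDegree_le hmon (Matrix.charpoly_monic B)
      (hdvd.trans (Matrix.minpoly_dvd_charpoly B)) ?_)
    rw [Matrix.charpoly_natDegree_eq_dim, Fintype.card_fin, natDegree_cyclotomic, hr]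
  refine Polynomial.map_injective (Int.castRingHom ℚ) Int.cast_injective ?_
  rw [← Matrix.charpoly_map, map_cyclotomic]
  exact hcp

theorem aeval_cyclotomic_eq_zero {e : ℕ} {A : Matrix (Fin r) (Fin r) ℤ} (h : A.charpoly = cyclotomic e ℤ) :
    aeval A (cyclotomic e ℤ) = 0 := h ▸ Matrix.aeval_self_charpoly A

/-- A matrix with irreducible characteristic polynomial has no invariant hyperplane. -/
theorem eq_zero_of_forall_pow {e : ℕ} (he : 0 < e) (hr : e.totient = r) {A : Matrix (Fin r) (Fin r) ℤ}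
    (h : A.charpoly = cyclotomic e ℤ) {u y : Fin r → ℤ} (hy : y ≠ 0)
    (hu : ∀ i < r, u ⬝ᵥ (A ^ i) *ᵥ y = 0) : u = 0 := by
  classical
  set B := A.map (Int.castRingHom ℚ) with hB
  set y' : Fin r → ℚ := fun i => (y i : ℚ) with hy'
  have hB0 : aeval B (cyclotomic e ℚ) = 0 := by
    rw [← map_cyclotomic e (Int.castRingHom ℚ), hB, ← map_aeval_int, aeval_cyclotomic_eq_zero h,
      Matrix.map_zero _ (map_zero _)]
  have hy0 : y' ≠ 0 := fun h0 => hy (funext fun i => by
    simpa [hy'] using congrFun h0 i)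
  have hli : LinearIndependent ℚ fun i : Fin r => (B ^ (i : ℕ)) *ᵥ y' := by
    rw [Fintype.linearIndependent_iff]
    intro g hg i
    by_contra hgi
    set P : ℚ[X] := ∑ j : Fin r, monomial (j : ℕ) (g j) with hP
    have hPB : aeval B P *ᵥ y' = 0 := by
      rw [hP, map_sum, Matrix.sum_mulVec, ← hg]
      refine Finset.sum_congr rfl fun j _ => ?_
      rw [aeval_monomial, ← Algebra.smul_def, Matrix.smul_mulVec]
    have hPd : ¬ cyclotomic e ℚ ∣ P := by
      intro hd
      have hne : P ≠ 0 := fun h0 => hgi (by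
        have := congrArg (fun Q => Polynomial.coeff Q (i : ℕ)) h0
        simpa [hP, Polynomial.coeff_monomial, Fin.val_inj, Finset.sum_ite_eq'] using this)
      have h1 := Polynomial.degree_le_of_dvd hd hne
      have h2 : P.degree < (r : WithBot ℕ) := by
        refine (Polynomial.degree_sum_le _ _).trans_lt ?_
        refine (Finset.sup_lt_iff (WithBot.bot_lt_coe _)).2 fun j _ => ?_
        exact (Polynomial.degree_monomial_le _ _).trans_lt (WithBot.coe_lt_coe.2 j.isLt)
      rw [degree_cyclotomic, hr] at h1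
      exact absurd (lt_of_le_of_lt h1 h2) (lt_irrefl _)
    obtain ⟨a, b, hab⟩ := ((cyclotomic.irreducible_rat he).coprime_iff_not_dvd.2 hPd)
    refine hy0 ?_
    have h3 := congrArg (fun Q => aeval B Q *ᵥ y') hab
    simp only [map_add, map_mul, map_one, Matrix.one_mulVec, hB0, mul_zero, zero_add,
      ← Matrix.mulVec_mulVec, hPB, Matrix.mulVec_zero] at h3
    exact h3.symm
  have htop : Submodule.span ℚ (Set.range fun i : Fin r => (B ^ (i : ℕ)) *ᵥ y') = ⊤ := by
    haveI : Nonempty (Fin r) := ⟨⟨0, hr ▸ Nat.totient_pos.2 he⟩⟩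
    exact hli.span_eq_top_of_card_eq_finrank (by simp)
  set u' : Fin r → ℚ := fun i => (u i : ℚ) with hu'
  have hall : ∀ z : Fin r → ℚ, u' ⬝ᵥ z = 0 := by
    intro z
    have hz : z ∈ Submodule.span ℚ (Set.range fun i : Fin r => (B ^ (i : ℕ)) *ᵥ y') := htop ▸ Submodule.mem_top
    induction hz using Submodule.span_induction with
    | mem x hx =>
      obtain ⟨i, rfl⟩ := hx
      have := congrArg (Int.castRingHom ℚ) (hu i i.isLt)
      rw [map_zero, RingHom.map_dotProduct] at this
      rw [← this, hB]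
      refine congrArg (u' ⬝ᵥ ·) (funext fun k => ?_)
      show ((Int.castRingHom ℚ).mapMatrix A ^ (i : ℕ) *ᵥ y') k = Int.castRingHom ℚ ((A ^ (i : ℕ) *ᵥ y) k)
      rw [RingHom.map_mulVec, ← map_pow]
      rfl
    | zero => simp
    | add x y _ _ hx hy => rw [dotProduct_add, hx, hy, add_zero]
    | smul a x _ hx => rw [dotProduct_smul, hx, smul_zero]
  funext i
  have := hall (Pi.single i 1)
  simpa [hu'] using this

end CfsgLib.CoxTorus
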