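import Cfsg.Agent.Lib.Chev.TorusOrder
import Cfsg.Agent.Lib.CoxTorus.Cyclotomic
import Mathlib.LinearAlgebra.FreeModule.Finite.CardQuotient
import Mathlib.LinearAlgebra.Eigenspace.Zero
import Mathlib.FieldTheory.Finite.Basic

/-!
The kernel of an integral matrix acting on tuples from a cyclic group.
-/

set_option autoImplicit false
set_option linter.dupNamespace false
set_option linter.unusedSectionVars false

namespace CfsgLib.CoxTorus

open Matrix Polynomial CfsgLib.Chev

variable {r : ℕ} {A : Type*} [CommGroup A]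

/-- The index of the image of an integral matrix. -/
theorem index_range_mulVec (T : Matrix (Fin r) (Fin r) ℤ) (hT : T.det ≠ 0) :
    (LinearMap.range T.toLin').toAddSubgroup.index = T.det.natAbs := by
  have hinj : Function.Injective T.toLin' := by
    intro x y h
    by_contra hne
    refine hT (Matrix.exists_mulVec_eq_zero_iff.1 ⟨x - y, sub_ne_zero.2 hne, ?_⟩)
    rw [Matrix.mulVec_sub, sub_eq_zero]
    simpa using h
  let e : (Fin r → ℤ) ≃ₗ[ℤ] LinearMap.range T.toLin' := LinearEquiv.ofInjective T.toLin' hinj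
  have := Submodule.natAbs_det_equiv (LinearMap.range T.toLin') e
  refine this.symm.trans (congrArg Int.natAbs ?_)
  rw [← LinearMap.det_toLin' T]
  rfl

/-- The order of the kernel of an integral matrix on tuples from a cyclic group. -/
theorem card_ker_expM_det [Finite A] [IsCyclic A] (T : Matrix (Fin r) (Fin r) ℤ) (hT : T.det ≠ 0)
    (hdvd : T.det.natAbs ∣ Nat.card A) : Nat.card (expM (A := A) T).ker = T.det.natAbs := by
  classical
  obtain ⟨γ, hγ⟩ := IsCyclic.exists_generator (α := A)
  have hoγ : orderOf γ = Nat.card A := orderOf_eq_card_of_forall_mem_zpowers hγ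
  obtain ⟨m, hm⟩ := hdvd
  set N := T.det.natAbs with hN
  have hm0 : m ≠ 0 := fun h => by
    rw [h, mul_zero] at hm
    exact Nat.card_pos.ne' hm
  set ω := γ ^ m with hω
  have hoω : orderOf ω = N := by
    rw [hω, orderOf_pow_of_dvd hm0 (by rw [hoγ, hm]; exact dvd_mul_left m N), hoγ, hm,
      Nat.mul_div_cancel _ (Nat.pos_of_ne_zero hm0)]
  have hωdet : ∀ z : ℤ, ω ^ z = 1 ↔ T.det ∣ z := fun z => by
    rw [← orderOf_dvd_iff_zpow_eq_one, hoω, hN, Int.natAbs_dvd]
  let φ : Multiplicative (Fin r → ℤ) →* (Fin r → A) :=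
    { toFun := fun z k => ω ^ (T.adjugate *ᵥ z.toAdd) k
      map_one' := by funext k; simp
      map_mul' := fun a b => by
        funext k
        simp [Matrix.mulVec_add, _root_.zpow_add] }
  have hγz : ∀ (X : Matrix (Fin r) (Fin r) ℤ) (b : A) (y : Fin r → ℤ) (j : Fin r),
      expM X (fun k => b ^ y k) j = b ^ (X *ᵥ y) j := fun X b y j => by
    simp only [expM_apply, ← _root_.zpow_mul, Matrix.mulVec, dotProduct, mul_comm (X j _)]
    induction (Finset.univ : Finset (Fin r)) using Finset.induction_on with
    | empty => simp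
    | insert k s hk ih => rw [Finset.prod_insert hk, Finset.sum_insert hk, _root_.zpow_add, ih]
  have hrange : φ.range = (expM (A := A) T).ker := by
    ext x
    constructor
    · rintro ⟨z, rfl⟩
      rw [MonoidHom.mem_ker]
      funext j
      show expM T (fun k => ω ^ (T.adjugate *ᵥ z.toAdd) k) j = 1
      rw [hγz, Matrix.mulVec_mulVec, Matrix.mul_adjugate, Matrix.smul_mulVec, Matrix.one_mulVec,
        Pi.smul_apply, smul_eq_mul, _root_.zpow_mul, (hωdet _).2 dvd_rfl, _root_.one_zpow]
    · intro hx
      choose y hy using fun k => Subgroup.mem_zpowers_iff.1 (hγ (x k))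
      have hx' : (fun k => γ ^ y k) = x := funext hy
      have hdiv : ∀ j, (Nat.card A : ℤ) ∣ (T *ᵥ y) j := fun j => by
        have := congrFun (MonoidHom.mem_ker.1 hx) j
        rw [← hx', hγz] at this
        rw [← hoγ, orderOf_dvd_iff_zpow_eq_one]
        exact this
      choose z hz using hdiv
      have hzy : T.det • y = (Nat.card A : ℤ) • (T.adjugate *ᵥ z) := by
        have : T.adjugate *ᵥ (T *ᵥ y) = T.adjugate *ᵥ ((Nat.card A : ℤ) • z) := congrArg _ (funext hz)
        rwa [Matrix.mulVec_mulVec, Matrix.adjugate_mul, Matrix.smul_mulVec, Matrix.one_mulVec,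
          Matrix.mulVec_smul] at this
      refine ⟨Multiplicative.ofAdd (Int.sign T.det • z), funext fun k => ?_⟩
      show ω ^ (T.adjugate *ᵥ (Int.sign T.det • z)) k = x k
      rw [Matrix.mulVec_smul, Pi.smul_apply, ← hx', hω, ← zpow_natCast, ← _root_.zpow_mul]
      congr 1
      have h1 := congrFun hzy k
      simp only [Pi.smul_apply, smul_eq_mul] at h1 ⊢
      refine mul_left_cancel₀ hT ?_
      rw [h1, hm]
      push_cast
      rw [hN]
      calc T.det * (↑m * (T.det.sign * (T.adjugate *ᵥ z) k))
          = T.det.sign * T.det * (↑m * (T.adjugate *ᵥ z) k) := by ring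
        _ = _ := by rw [Int.sign_mul_self]; ring
  have hker : φ.ker = AddSubgroup.toSubgroup (LinearMap.range T.toLin').toAddSubgroup := by
    ext z
    rw [MonoidHom.mem_ker]
    constructor
    · intro hz
      have hd : ∀ k, T.det ∣ (T.adjugate *ᵥ z.toAdd) k := fun k => (hωdet _).1 (congrFun hz k)
      choose w hw using hd
      refine ⟨w, ?_⟩
      have h2 : T *ᵥ (T.adjugate *ᵥ z.toAdd) = T *ᵥ (T.det • w) := congrArg _ (funext hw)
      rw [Matrix.mulVec_mulVec, Matrix.mul_adjugate, Matrix.smul_mulVec, Matrix.one_mulVec,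
        Matrix.mulVec_smul] at h2
      rw [Matrix.toLin'_apply]
      exact (smul_right_injective _ hT h2).symm
    · rintro ⟨w, hw⟩
      funext k
      show ω ^ (T.adjugate *ᵥ z.toAdd) k = 1
      rw [hωdet, show z.toAdd = T *ᵥ w from hw.symm.trans (Matrix.toLin'_apply T w),
        Matrix.mulVec_mulVec, Matrix.adjugate_mul, Matrix.smul_mulVec, Matrix.one_mulVec]
      exact ⟨w k, rfl⟩
  rw [← hrange, ← Subgroup.index_ker, hker]
  exact index_range_mulVec T hT

/-- A finite commutative group with at most `p` solutions of `x^p = 1` for each prime `p` is cyclic. -/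
theorem isCyclic_of_prime_card_le {G : Type*} [CommGroup G] [Finite G]
    (h : ∀ p : ℕ, p.Prime → Nat.card (powMonoidHom p : G →* G).ker ≤ p) : IsCyclic G := by
  classical
  haveI := Fintype.ofFinite G
  have key : ∀ n, 0 < n → Nat.card (powMonoidHom n : G →* G).ker ≤ n := by
    intro n
    induction n using Nat.recOnMul with
    | zero => intro h; exact absurd h (lt_irrefl 0)
    | one =>
      intro _
      have : (powMonoidHom 1 : G →* G).ker = ⊥ := by
        ext x; simp [MonoidHom.mem_ker]
      rw [this, Subgroup.card_bot]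
    | prime p hp => exact fun _ => h p hp
    | mul a b iha ihb =>
      intro hab
      rw [CanonicallyOrderedAdd.mul_pos] at hab
      set f : (powMonoidHom (a * b) : G →* G).ker →* G :=
        (powMonoidHom b : G →* G).comp (Subgroup.subtype _) with hf
      have h1 : Nat.card f.range ≤ Nat.card (powMonoidHom a : G →* G).ker := by
        refine Subgroup.card_le_of_le ?_
        rintro _ ⟨⟨x, hx⟩, rfl⟩
        show (x ^ b) ^ a = 1
        rw [← pow_mul, mul_comm]
        exact hx
      have h2 : Nat.card f.ker ≤ Nat.card (powMonoidHom b : G →* G).ker := by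
        refine Nat.card_le_card_of_injective (fun y => ⟨y.1.1, y.2⟩) fun y z e => ?_
        exact Subtype.ext (Subtype.ext (congrArg (fun u => u.1) e :))
      rw [← f.ker.index_mul_card, Subgroup.index_ker]
      exact Nat.mul_le_mul (h1.trans (iha hab.1)) (h2.trans (ihb hab.2))
  refine isCyclic_of_card_pow_eq_one_le fun n hn => ?_
  refine le_trans (le_of_eq ?_) (key n hn)
  rw [Nat.card_eq_fintype_card, Fintype.card_subtype]
  congr 1
  ext x
  simp [MonoidHom.mem_ker]

/-- Few elements of prime order in the twisted kernel when the prime does not divide `e`. -/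
theorem card_torsion_le {K : Type*} [Field K] [Finite K] {e p : ℕ} [Fact p.Prime] (hpe : ¬ p ∣ e)
    (P : Matrix (Fin r) (Fin r) ℤ) (hP : P.charpoly = cyclotomic e ℤ) (q : ℤ) (hpK : p ∣ Nat.card Kˣ) :
    Nat.card (powMonoidHom p : (expM (A := Kˣ) (Matrix.scalar (Fin r) q - P)).ker →* _).ker ≤ p := by
  classical
  obtain ⟨η, hη⟩ := exists_prime_orderOf_dvd_card' p hpK
  have hprim : IsPrimitiveRoot η p := IsPrimitiveRoot.iff_orderOf.2 hη
  haveI : NeZero p := ⟨(Fact.out : p.Prime).ne_zero⟩
  have hmem : ∀ u : Kˣ, u ^ p = 1 → ∃ z : ℤ, η ^ z = u := fun u hu => by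
    have : u ∈ Subgroup.zpowers η := by
      rw [hprim.zpowers_eq, mem_rootsOfUnity]
      exact hu
    exact Subgroup.mem_zpowers_iff.1 this
  set T := Matrix.scalar (Fin r) q - P with hT
  set Pp : Matrix (Fin r) (Fin r) (ZMod p) := P.map (Int.castRingHom (ZMod p)) with hPp
  let S := (powMonoidHom p : (expM (A := Kˣ) T).ker →* _).ker
  have hpow : ∀ (d : S) (k : Fin r), (d.1.1 k) ^ p = 1 := fun d k => by
    have h := congrArg (fun x : (expM (A := Kˣ) T).ker => x.1 k) (MonoidHom.mem_ker.1 d.2)
    simpa using h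
  choose y hy using fun (d : S) (k : Fin r) => hmem _ (hpow d k)
  let E := Module.End.eigenspace (Matrix.toLin' Pp) (q : ZMod p)
  have hmapsto : ∀ d : S, (fun k => (y d k : ZMod p)) ∈ E := fun d => by
    rw [Module.End.mem_eigenspace_iff, Matrix.toLin'_apply]
    funext k
    have h := congrFun (MonoidHom.mem_ker.1 d.1.2) k
    have h' : η ^ (∑ j, T k j * y d j) = 1 := by
      refine Eq.trans ?_ h
      rw [expM_apply]
      simp only [← hy, ← _root_.zpow_mul, mul_comm (T k _)]
      induction (Finset.univ : Finset (Fin r)) using Finset.induction_on with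
      | empty => simp
      | insert j s hj ih => rw [Finset.prod_insert hj, Finset.sum_insert hj, _root_.zpow_add, ih]
    rw [← orderOf_dvd_iff_zpow_eq_one, hη, ← ZMod.intCast_zmod_eq_zero_iff_dvd] at h'
    push_cast at h'
    simp only [hT, Matrix.sub_apply, Matrix.scalar_apply, Matrix.diagonal_apply, Int.cast_sub, sub_mul,
      Finset.sum_sub_distrib, apply_ite (fun z : ℤ => (z : ZMod p)), Int.cast_zero, ite_mul, zero_mul,
      Finset.sum_ite_eq, Finset.mem_univ, if_true, sub_eq_zero] at h'
    simp only [Matrix.mulVec, dotProduct, hPp, Matrix.map_apply, Pi.smul_apply, smul_eq_mul,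
      eq_intCast, h']
  refine (Nat.card_le_card_of_injective (fun d : S => (⟨_, hmapsto d⟩ : E)) fun d d' h => ?_).trans ?_
  · refine Subtype.ext (Subtype.ext (funext fun k => ?_))
    have hk : (y d k : ZMod p) = (y d' k : ZMod p) := congrFun (congrArg (fun u : E => u.1) h) k
    rw [← hy d k, ← hy d' k, zpow_eq_zpow_iff_modEq, hη]
    exact (ZMod.intCast_eq_intCast_iff _ _ _).1 hk
  · haveI : NeZero (e : ZMod p) := ⟨fun h => hpe ((ZMod.natCast_eq_zero_iff _ _).1 h)⟩
    have hcp : Pp.charpoly = cyclotomic e (ZMod p) := by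
      rw [hPp, Matrix.charpoly_map, hP, map_cyclotomic]
    have h1 := LinearMap.finrank_eigenspace_le (Matrix.toLin' Pp) (q : ZMod p)
    rw [Matrix.charpoly_toLin', hcp] at h1
    have h2 := h1.trans (rootMultiplicity_le_one_of_separable (separable_cyclotomic e (ZMod p)) _)
    rw [Module.natCard_eq_pow_finrank (K := ZMod p), Nat.card_zmod]
    calc p ^ Module.finrank (ZMod p) E ≤ p ^ 1 := Nat.pow_le_pow_right (Fact.out : p.Prime).pos h2
      _ = p := pow_one p

end CfsgLib.CoxTorus
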