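import Cfsg.Agent.Lib.InvTorus.RootRefl
import Cfsg.Agent.Lib.CoxTorus.Cyclotomic

/-!
Functionals on the root lattice modulo a prime: the alcove, regularity and stabilisers.
-/

set_option autoImplicit false
set_option linter.dupNamespace false
set_option linter.unusedSectionVars false

namespace CfsgLib.CoxTorus

open Cfsg.Lie Matrix CfsgLib.Chev CfsgLib.Chev.Chev CfsgLib.InvTorus

variable {D : ChevalleyDatum} (Φ : Chev D)

/-- The matrix of an element of the Weyl group. -/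
def Pm (π : Equiv.Perm (Fin D.nroots)) : Matrix (Fin D.rank) (Fin D.rank) ℤ :=
  Matrix.of fun k j => Φ.V (π (Φ.p k)) j

theorem V_vecMul {π : Equiv.Perm (Fin D.nroots)} (hπ : π ∈ Φ.WL) (r : Fin D.nroots) :
    Φ.V (π r) = Φ.V r ᵥ* Pm Φ π := funext fun j => Φ.V_map hπ r j

theorem Pm_one : Pm Φ 1 = 1 := by
  ext k j
  simp [Pm, Φ.V_p, Matrix.one_apply]

theorem Pm_mul {π σ : Equiv.Perm (Fin D.nroots)} (hπ : π ∈ Φ.WL) : Pm Φ (π * σ) = Pm Φ σ * Pm Φ π := by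
  ext k j
  rw [Matrix.mul_apply]
  exact Φ.V_map hπ (σ (Φ.p k)) j

theorem Pm_pow {π : Equiv.Perm (Fin D.nroots)} (hπ : π ∈ Φ.WL) : ∀ n : ℕ, Pm Φ (π ^ n) = Pm Φ π ^ n
  | 0 => by rw [pow_zero, pow_zero, Pm_one]
  | n + 1 => by rw [pow_succ', Pm_mul Φ hπ, Pm_pow hπ n, pow_succ]

/-- The value at a root of an integral functional. -/
def Fv (f : Fin D.rank → ℤ) (r : Fin D.nroots) : ℤ := ∑ i, Φ.V r i * f i

theorem Fv_p (f : Fin D.rank → ℤ) (i : Fin D.rank) : Fv Φ f (Φ.p i) = f i := by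
  simp [Fv, Φ.V_p]

theorem Fv_rev (f : Fin D.rank → ℤ) (r : Fin D.nroots) : Fv Φ f r.rev = -Fv Φ f r := by
  simp [Fv, Φ.V_neg r]

theorem Fv_map {π : Equiv.Perm (Fin D.nroots)} (hπ : π ∈ Φ.WL) (f : Fin D.rank → ℤ) (r : Fin D.nroots) :
    Fv Φ f (π r) = Fv Φ (fun k => Fv Φ f (π (Φ.p k))) r := by
  simp only [Fv, Finset.mul_sum]
  rw [Finset.sum_comm]
  refine Finset.sum_congr rfl fun i _ => ?_
  rw [Φ.V_map hπ, Finset.sum_mul]
  exact Finset.sum_congr rfl fun k _ => mul_assoc _ _ _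

variable {ℓ : ℕ} [Fact ℓ.Prime]

/-- The value at a root of a functional modulo `ℓ`. -/
def lam (v : Fin D.rank → ZMod ℓ) (r : Fin D.nroots) : ZMod ℓ := ∑ i, (Φ.V r i : ZMod ℓ) * v i

theorem lam_p (v : Fin D.rank → ZMod ℓ) (i : Fin D.rank) : lam Φ v (Φ.p i) = v i := by
  simp [lam, Φ.V_p]

theorem lam_rev (v : Fin D.rank → ZMod ℓ) (r : Fin D.nroots) : lam Φ v r.rev = -lam Φ v r := by
  simp [lam, Φ.V_neg r]

theorem lam_map {π : Equiv.Perm (Fin D.nroots)} (hπ : π ∈ Φ.WL) (v : Fin D.rank → ZMod ℓ) (r : Fin D.nroots) :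
    lam Φ v (π r) = ∑ k, (Φ.V r k : ZMod ℓ) * lam Φ v (π (Φ.p k)) := by
  simp only [lam, Finset.mul_sum]
  rw [Finset.sum_comm]
  refine Finset.sum_congr rfl fun i _ => ?_
  rw [Φ.V_map hπ, Int.cast_sum, Finset.sum_mul]
  exact Finset.sum_congr rfl fun k _ => by rw [Int.cast_mul, mul_assoc]

/-- An integral lift of the functional moved by `σ`. -/
def IsLift (v : Fin D.rank → ZMod ℓ) (σ : Equiv.Perm (Fin D.nroots)) (f : Fin D.rank → ℤ) : Prop :=
  σ ∈ Φ.WL ∧ ∀ i, (f i : ZMod ℓ) = lam Φ v (σ (Φ.p i))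

theorem IsLift.cast {v : Fin D.rank → ZMod ℓ} {σ : Equiv.Perm (Fin D.nroots)} {f : Fin D.rank → ℤ}
    (h : IsLift Φ v σ f) (r : Fin D.nroots) : (Fv Φ f r : ZMod ℓ) = lam Φ v (σ r) := by
  rw [lam_map Φ h.1, Fv, Int.cast_sum]
  exact Finset.sum_congr rfl fun k _ => by rw [Int.cast_mul, h.2 k]

/-- The number of positive roots with negative value. -/
noncomputable def negs (f : Fin D.rank → ℤ) : Finset (Fin D.nroots) :=
  letI := Classical.decPred fun r => Φ.toTables.Pos r ∧ Fv Φ f r < 0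
  Finset.univ.filter fun r => Φ.toTables.Pos r ∧ Fv Φ f r < 0

theorem mem_negs {f : Fin D.rank → ℤ} {r : Fin D.nroots} :
    r ∈ negs Φ f ↔ Φ.toTables.Pos r ∧ Fv Φ f r < 0 := by
  simp [negs]

/-- A negative simple value can be reflected. -/
theorem negs_lt {f : Fin D.rank → ℤ} {i : Fin D.rank} (h : f i < 0) :
    (negs Φ fun k => Fv Φ f (Φ.reflPerm i (Φ.p k))).card < (negs Φ f).card := by
  classical
  have hv : ∀ r, Fv Φ (fun k => Fv Φ f (Φ.reflPerm i (Φ.p k))) r = Fv Φ f (Φ.refl i r) := fun r =>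
    (Fv_map Φ (Φ.reflPerm_mem_WL i) f r).symm
  have hi : Φ.p i ∈ negs Φ f := (mem_negs Φ).2 ⟨Φ.p_pos i, by rwa [Fv_p]⟩
  refine lt_of_le_of_lt ?_ (Finset.card_erase_lt_of_mem hi)
  refine Finset.card_le_card_of_injOn (fun r => Φ.refl i r) (fun r hr => ?_)
    (fun a _ b _ hab => (Φ.reflPerm i).injective hab)
  obtain ⟨hp, hneg⟩ := (mem_negs Φ).1 hr
  rw [hv] at hneg
  have hne : r ≠ Φ.p i := fun e => by
    rw [e, Φ.refl_p, Fv_rev, Fv_p] at hneg
    omega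
  obtain ⟨h1, h2⟩ := Φ.refl_pos hp hne
  exact Finset.mem_coe.2 (Finset.mem_erase.2 ⟨h2, (mem_negs Φ).2 ⟨h1, hneg⟩⟩)

theorem pr_linear (b r : Fin D.nroots) : pr Φ b r = ∑ k, Φ.V r k * pr Φ b (Φ.p k) := by
  simp only [pr, Φ.A_lin _ r, Finset.mul_sum]
  rw [Finset.sum_comm]
  exact Finset.sum_congr rfl fun k _ => Finset.sum_congr rfl fun j _ => by ring

theorem Fv_rootRefl (f : Fin D.rank → ℤ) (b r : Fin D.nroots) :
    Fv Φ f (rootRefl Φ b r) = Fv Φ f r - pr Φ b r * Fv Φ f b := by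
  simp only [Fv, V_rootRefl, sub_mul, Finset.sum_sub_distrib, mul_assoc, ← Finset.mul_sum]

/-- Every functional modulo `ℓ` can be moved into the alcove. -/
theorem exists_alcove (v : Fin D.rank → ZMod ℓ) (th : Fin D.nroots) :
    ∃ σ f, IsLift Φ v σ f ∧ (∀ i, 0 ≤ f i) ∧ Fv Φ f th ≤ ℓ := by
  classical
  let μ : (Fin D.rank → ℤ) → ℕ := fun f =>
    (∑ r, Fv Φ f r ^ 2).toNat * (D.nroots + 1) + (negs Φ f).card
  have hex : ∃ n σ f, IsLift Φ v σ f ∧ μ f = n :=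
    ⟨_, 1, fun i => ((v i).val : ℤ), ⟨one_mem _, fun i => by rw [Equiv.Perm.one_apply, lam_p]; simp⟩, rfl⟩
  obtain ⟨σ, f, hL, hμ⟩ := Nat.find_spec hex
  have hmin : ∀ σ' f', IsLift Φ v σ' f' → μ f ≤ μ f' := fun σ' f' h =>
    hμ ▸ Nat.find_min' hex ⟨σ', f', h, rfl⟩
  refine ⟨σ, f, hL, fun i => ?_, ?_⟩
  · by_contra hneg
    set f' : Fin D.rank → ℤ := fun k => Fv Φ f (Φ.reflPerm i (Φ.p k)) with hf'
    have hL' : IsLift Φ v (σ * Φ.reflPerm i) f' := ⟨mul_mem hL.1 (Φ.reflPerm_mem_WL i), fun k => hL.cast Φ _⟩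
    have hE : ∑ r, Fv Φ f' r ^ 2 = ∑ r, Fv Φ f r ^ 2 :=
      Fintype.sum_equiv (Φ.reflPerm i) _ _ fun r => by rw [hf', ← Fv_map Φ (Φ.reflPerm_mem_WL i)]
    have h1 := hmin _ _ hL'
    have h2 : (negs Φ f').card < (negs Φ f).card := negs_lt Φ (not_le.1 hneg)
    simp only [μ, hE] at h1
    omega
  · by_contra hgt
    set s := rootRefl Φ th
    set δ := Fv Φ f th - ℓ with hδ
    set f' : Fin D.rank → ℤ := fun k => Fv Φ f (s (Φ.p k)) + (ℓ : ℤ) * pr Φ th (Φ.p k) with hf'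
    have hF : ∀ r, Fv Φ f' r = Fv Φ f r - pr Φ th r * δ := by
      intro r
      have : Fv Φ f' r = Fv Φ f (s r) + (ℓ : ℤ) * pr Φ th r := by
        rw [Fv_map Φ (rootRefl_mem Φ th), pr_linear Φ th r, Finset.mul_sum, Fv, Fv, ← Finset.sum_add_distrib]
        exact Finset.sum_congr rfl fun k _ => by simp only [hf']; ring
      rw [this, Fv_rootRefl, hδ]
      ring
    have hL' : IsLift Φ v (σ * s) f' := ⟨mul_mem hL.1 (rootRefl_mem Φ th), fun k => by
      rw [hf']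
      push_cast
      rw [ZMod.natCast_self, zero_mul, add_zero]
      exact hL.cast Φ _⟩
    have hS : 2 * ∑ r, pr Φ th r * Fv Φ f r = Fv Φ f th * ∑ r, pr Φ th r ^ 2 := by
      have h1 : ∑ r, pr Φ th r * Fv Φ f r = ∑ r, pr Φ th (s r) * Fv Φ f (s r) :=
        (Equiv.sum_comp s (fun r => pr Φ th r * Fv Φ f r)).symm
      rw [Finset.mul_sum Finset.univ (fun r => pr Φ th r ^ 2), two_mul]
      conv_lhs => arg 2; rw [h1]
      rw [← Finset.sum_add_distrib]
      exact Finset.sum_congr rfl fun r _ => by rw [pr_rootRefl, Fv_rootRefl]; ring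
    have hP : 0 < ∑ r, pr Φ th r ^ 2 :=
      Finset.sum_pos' (fun r _ => sq_nonneg _) ⟨th, Finset.mem_univ _, by rw [pr_self]; norm_num⟩
    have hE : ∑ r, Fv Φ f' r ^ 2 < ∑ r, Fv Φ f r ^ 2 := by
      have h2 : ∑ r, Fv Φ f' r ^ 2 = ∑ r, Fv Φ f r ^ 2 - δ * (2 * ∑ r, pr Φ th r * Fv Φ f r) +
          δ ^ 2 * ∑ r, pr Φ th r ^ 2 := by
        simp only [Finset.mul_sum, ← Finset.sum_sub_distrib, ← Finset.sum_add_distrib, hF]
        exact Finset.sum_congr rfl fun r _ => by ring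
      rw [h2, hS]
      have hd : 0 < δ := by omega
      have hl : (0 : ℤ) < ℓ := by exact_mod_cast (Fact.out : ℓ.Prime).pos
      have : 0 < δ * (ℓ : ℤ) * ∑ r, pr Φ th r ^ 2 := by positivity
      rw [hδ] at this ⊢
      linarith [this]
    have h0 : (0 : ℤ) ≤ ∑ r, Fv Φ f' r ^ 2 := Finset.sum_nonneg fun r _ => sq_nonneg _
    have h3 := hmin _ _ hL'
    have h4 : (negs Φ f').card ≤ D.nroots := (Finset.card_le_univ _).trans (le_of_eq (Fintype.card_fin _))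
    simp only [μ] at h3
    have h5 : (∑ r, Fv Φ f' r ^ 2).toNat + 1 ≤ (∑ r, Fv Φ f r ^ 2).toNat := by omega
    have h6 := Nat.mul_le_mul_right (D.nroots + 1) h5
    rw [Nat.succ_mul] at h6
    omega

/-- The roots where the functional vanishes lie in a hyperplane. -/
theorem exists_hyperplane {v : Fin D.rank → ZMod ℓ} (hv : v ≠ 0) {th : Fin D.nroots}
    (htop : ∀ r j, Φ.V r j ≤ Φ.V th j) (h2 : ∀ k, 2 ≤ Φ.V th k) (hℓ : ∀ k, Φ.V th k < ℓ) :
    ∃ y : Fin D.rank → ℤ, y ≠ 0 ∧ ∀ r, lam Φ v r = 0 → Φ.V r ⬝ᵥ y = 0 := by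
  classical
  obtain ⟨σ, f, hL, hf, hth⟩ := exists_alcove Φ v th
  suffices H : ∃ y : Fin D.rank → ℤ, y ≠ 0 ∧
      ∀ r, Φ.toTables.Pos r → (Fv Φ f r = 0 ∨ Fv Φ f r = ℓ) → Φ.V r ⬝ᵥ y = 0 by
    obtain ⟨y, hy, hyr⟩ := H
    have hall : ∀ r, lam Φ v (σ r) = 0 → Φ.V r ⬝ᵥ y = 0 := by
      have key : ∀ r, Φ.toTables.Pos r → lam Φ v (σ r) = 0 → Φ.V r ⬝ᵥ y = 0 := fun r hp h => by
        have h0 : 0 ≤ Fv Φ f r := Finset.sum_nonneg fun i _ => mul_nonneg (Φ.V_nonneg r hp i) (hf i)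
        have h1 : Fv Φ f r ≤ ℓ :=
          le_trans (Finset.sum_le_sum fun i _ => mul_le_mul_of_nonneg_right (htop r i) (hf i)) hth
        obtain ⟨c, hc⟩ := (ZMod.intCast_zmod_eq_zero_iff_dvd _ ℓ).1 ((hL.cast Φ r).trans h)
        have hl : (0 : ℤ) < ℓ := by exact_mod_cast (Fact.out : ℓ.Prime).pos
        refine hyr r hp ?_
        rcases (show c = 0 ∨ c = 1 by
          rw [hc] at h0 h1
          have : 0 ≤ c := nonneg_of_mul_nonneg_right h0 hl
          have : c ≤ 1 := le_of_mul_le_mul_left (by linarith) hl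
          omega) with rfl | rfl
        · exact Or.inl (by rw [hc, mul_zero])
        · exact Or.inr (by rw [hc, mul_one])
      intro r h
      by_cases hp : Φ.toTables.Pos r
      · exact key r hp h
      · have := key r.rev ((Φ.pos_rev_iff r).2 hp) (by rw [Φ.map_rev hL.1, lam_rev, h, neg_zero])
        simpa [dotProduct, Φ.V_neg r] using this
    refine ⟨Pm Φ σ⁻¹ *ᵥ y, fun h0 => hy ?_, fun r h => ?_⟩
    · have := congrArg (Pm Φ σ *ᵥ ·) h0
      simp only [Matrix.mulVec_mulVec, Matrix.mulVec_zero] at this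
      rwa [← Pm_mul Φ (inv_mem hL.1), inv_mul_cancel, Pm_one, Matrix.one_mulVec] at this
    · rw [Matrix.dotProduct_mulVec, ← V_vecMul Φ (inv_mem hL.1)]
      exact hall _ (by rwa [show σ (σ⁻¹ r) = r from σ.apply_symm_apply r])
  by_cases hK : ∀ i, f i = 0
  · exfalso
    refine hv (funext fun i => ?_)
    have h0 : ∀ r, lam Φ v (σ r) = 0 := fun r => by
      rw [← hL.cast Φ r]
      simp [Fv, hK]
    have := h0 (σ⁻¹ (Φ.p i))
    rwa [show σ (σ⁻¹ (Φ.p i)) = Φ.p i from σ.apply_symm_apply _, lam_p] at this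
  push Not at hK
  obtain ⟨a, ha⟩ := hK
  have hterm : ∀ r, Φ.toTables.Pos r → (Fv Φ f r = 0 → ∀ i, f i ≠ 0 → Φ.V r i = 0) ∧
      (Fv Φ f r = ℓ → ∀ i, f i ≠ 0 → Φ.V r i = Φ.V th i) := by
    intro r hp
    refine ⟨fun h i hi => ?_, fun h i hi => ?_⟩
    · have := (Finset.sum_eq_zero_iff_of_nonneg
        (fun j _ => mul_nonneg (Φ.V_nonneg r hp j) (hf j))).1 h i (Finset.mem_univ i)
      exact (mul_eq_zero.1 this).resolve_right hi
    · have hz : ∑ j, (Φ.V th j - Φ.V r j) * f j = 0 := by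
        refine le_antisymm ?_ (Finset.sum_nonneg fun j _ => mul_nonneg (sub_nonneg.2 (htop r j)) (hf j))
        simp only [sub_mul, Finset.sum_sub_distrib]
        exact sub_nonpos.2 (le_trans hth (le_of_eq h.symm))
      have := (Finset.sum_eq_zero_iff_of_nonneg
        (fun j _ => mul_nonneg (sub_nonneg.2 (htop r j)) (hf j))).1 hz i (Finset.mem_univ i)
      exact (sub_eq_zero.1 ((mul_eq_zero.1 this).resolve_right hi)).symm
  by_cases hb : ∃ b, b ≠ a ∧ f b ≠ 0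
  · obtain ⟨b, hba, hb⟩ := hb
    refine ⟨fun j => (if j = a then Φ.V th b else 0) - (if j = b then Φ.V th a else 0), fun h0 => ?_,
      fun r hp h => ?_⟩
    · have := congrFun h0 a
      simp [hba.symm] at this
      have := h2 b
      omega
    · simp only [dotProduct, mul_sub, mul_ite, mul_zero, Finset.sum_sub_distrib, Finset.sum_ite_eq',
        Finset.mem_univ, if_true]
      rcases h with h | h
      · rw [(hterm r hp).1 h a ha, (hterm r hp).1 h b hb]; ring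
      · rw [(hterm r hp).2 h a ha, (hterm r hp).2 h b hb]; ring
  · push Not at hb
    refine ⟨fun j => if j = a then 1 else 0, fun h0 => by simpa using congrFun h0 a, fun r hp h => ?_⟩
    simp only [dotProduct, mul_ite, mul_one, mul_zero, Finset.sum_ite_eq', Finset.mem_univ, if_true]
    rcases h with h | h
    · exact (hterm r hp).1 h a ha
    · exfalso
      have e1 : Φ.V th a * f a = ℓ := by
        rw [← (hterm r hp).2 h a ha, ← h, Fv, Finset.sum_eq_single a]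
        · intro j _ hj; rw [hb j hj, mul_zero]
        · simp
      have := h2 a
      obtain ⟨n, hn⟩ : ∃ n : ℕ, (n : ℤ) = Φ.V th a := ⟨_, Int.toNat_of_nonneg (by omega)⟩
      have hn' : n ∣ ℓ := Int.natCast_dvd_natCast.1 ⟨f a, by rw [hn, e1]⟩
      rcases (Fact.out : ℓ.Prime).eq_one_or_self_of_dvd n hn' with h1 | h1
      · omega
      · have := hℓ a
        omega

/-- A functional with an eigen element of cyclotomic characteristic polynomial is regular. -/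
theorem regular_of_eigen {e : ℕ} (he : 0 < e) (hr : e.totient = D.rank) {π : Equiv.Perm (Fin D.nroots)}
    (hπ : π ∈ Φ.WL) (hcp : (Pm Φ π).charpoly = Polynomial.cyclotomic e ℤ) {v : Fin D.rank → ZMod ℓ} (hv : v ≠ 0)
    {c : ZMod ℓ} (hc : ∀ r, lam Φ v (π r) = c * lam Φ v r)
    {th : Fin D.nroots} (htop : ∀ r j, Φ.V r j ≤ Φ.V th j) (h2 : ∀ k, 2 ≤ Φ.V th k) (hℓ : ∀ k, Φ.V th k < ℓ)
    (r : Fin D.nroots) : lam Φ v r ≠ 0 := by
  intro h
  obtain ⟨y, hy, hyr⟩ := exists_hyperplane Φ hv htop h2 hℓ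
  have hiter : ∀ n : ℕ, lam Φ v ((π ^ n) r) = 0 := by
    intro n
    induction n with
    | zero => simpa using h
    | succ n ih => rw [pow_succ', Equiv.Perm.mul_apply, hc, ih, mul_zero]
  have hu : Φ.V r = 0 := eq_zero_of_forall_pow he hr hcp hy fun i _ => by
    have := hyr _ (hiter i)
    rwa [V_vecMul Φ (pow_mem hπ i), Pm_pow Φ hπ, ← Matrix.dotProduct_mulVec] at this
  by_cases hp : Φ.toTables.Pos r
  · obtain ⟨j, hj⟩ := Φ.exists_V_pos hp
    rw [hu] at hj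
    exact absurd hj (lt_irrefl _)
  · obtain ⟨j, hj⟩ := Φ.exists_V_pos ((Φ.pos_rev_iff r).2 hp)
    rw [Φ.V_neg r, hu] at hj
    exact absurd hj (by simp)

/-- The stabiliser of a regular functional is trivial. -/
theorem stab_trivial {v : Fin D.rank → ZMod ℓ} (hreg : ∀ r, lam Φ v r ≠ 0) {π : Equiv.Perm (Fin D.nroots)}
    (hπ : π ∈ Φ.WL) (hord : ¬ ℓ ∣ orderOf π) (hfix : ∀ r, lam Φ v (π r) = lam Φ v r) : π = 1 := by
  classical
  set m := orderOf π with hm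
  set g : Fin D.rank → ℤ := fun i => ((v i).val : ℤ) with hg
  set f0 : Fin D.rank → ℤ := fun k => ∑ i ∈ Finset.range m, Fv Φ g ((π ^ i) (Φ.p k)) with hf0
  have hF0 : ∀ r, Fv Φ f0 r = ∑ i ∈ Finset.range m, Fv Φ g ((π ^ i) r) := fun r => by
    rw [Finset.sum_congr rfl fun i _ => Fv_map Φ (pow_mem hπ i) g r]
    simp only [Fv, hf0, Finset.mul_sum]
    exact Finset.sum_comm
  have hinv : ∀ r, Fv Φ f0 (π r) = Fv Φ f0 r := fun r => by
    rw [hF0, hF0]
    set h := fun i : ℕ => Fv Φ g ((π ^ i) r) with hh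
    have e : ∀ i, Fv Φ g ((π ^ i) (π r)) = h (i + 1) := fun i => by
      simp only [hh, pow_succ, Equiv.Perm.mul_apply]
    simp only [e]
    have h0 : h m = h 0 := by simp only [hh, hm, pow_orderOf_eq_one, pow_zero]
    have h1 := Finset.sum_range_succ' h m
    have h3 := Finset.sum_range_succ h m
    show ∑ i ∈ Finset.range m, h (i + 1) = ∑ i ∈ Finset.range m, h i
    linarith
  have hne : ∀ r, Fv Φ f0 r ≠ 0 := fun r h0 => by
    have h1 : ∀ i : ℕ, lam Φ v ((π ^ i) r) = lam Φ v r := by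
      intro i
      induction i with
      | zero => simp
      | succ i ih => rw [pow_succ', Equiv.Perm.mul_apply, hfix, ih]
    have h3 := congrArg (fun z : ℤ => (z : ZMod ℓ)) ((hF0 r).symm.trans h0)
    have hcast : ∀ s, (Fv Φ g s : ZMod ℓ) = lam Φ v s := fun s => by
      simp [Fv, lam, hg]
    simp only [Int.cast_sum, hcast, h1, Finset.sum_const, Finset.card_range, nsmul_eq_mul, Int.cast_zero] at h3
    rcases mul_eq_zero.1 h3 with h4 | h4
    · exact hord ((ZMod.natCast_eq_zero_iff _ _).1 h4)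
    · exact hreg r h4
  have hex : ∃ n, ∃ σ ∈ Φ.WL, (negs Φ fun k => Fv Φ f0 (σ (Φ.p k))).card = n := ⟨_, 1, one_mem _, rfl⟩
  obtain ⟨σ, hσ, hcard⟩ := Nat.find_spec hex
  set F := fun k => Fv Φ f0 (σ (Φ.p k)) with hFdef
  have hF : ∀ r, Fv Φ F r = Fv Φ f0 (σ r) := fun r => (Fv_map Φ hσ f0 r).symm
  have hnn : ∀ i, 0 ≤ F i := fun i => by
    by_contra hi
    have hlt := negs_lt Φ (not_le.1 hi)
    simp only [hF] at hlt
    rw [hcard] at hlt
    exact Nat.find_min hex hlt ⟨σ * Φ.reflPerm i, mul_mem hσ (Φ.reflPerm_mem_WL i), rfl⟩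
  have hpos : ∀ r, Φ.toTables.Pos r ↔ 0 < Fv Φ f0 (σ r) := fun r => by
    have key : ∀ s, Φ.toTables.Pos s → 0 < Fv Φ f0 (σ s) := fun s hs =>
      lt_of_le_of_ne (by rw [← hF]; exact Finset.sum_nonneg fun i _ => mul_nonneg (Φ.V_nonneg s hs i) (hnn i))
        (hne _).symm
    refine ⟨key r, fun h => by_contra fun hn => ?_⟩
    have := key r.rev ((Φ.pos_rev_iff r).2 hn)
    rw [Φ.map_rev hσ, Fv_rev] at this
    omega
  have h1 : σ⁻¹ * π * σ = 1 := by
    refine Φ.eq_one_of_pos (mul_mem (mul_mem (inv_mem hσ) hπ) hσ) fun r hr => ?_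
    rw [hpos, Equiv.Perm.mul_apply, Equiv.Perm.mul_apply, show σ (σ⁻¹ (π (σ r))) = π (σ r) from σ.apply_symm_apply _,
      hinv]
    exact (hpos r).1 hr
  calc π = σ * (σ⁻¹ * π * σ) * σ⁻¹ := by group
    _ = 1 := by rw [h1, mul_one, mul_inv_cancel]

end CfsgLib.CoxTorus
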