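import Cfsg.Agent.Lib.CoxTorus.Alcove
import Cfsg.Agent.Lib.Chev.Inst
import Cfsg.Agent.Lib.Chev.OrderE6

/-!
An eigenfunctional of order twelve on the root system of type E6 is regular: the orbit of one of the
twenty-seven weights supplies the missing quadratic factor of the characteristic polynomial.
-/

set_option autoImplicit false
set_option linter.dupNamespace false
set_option linter.unusedSectionVars false
set_option maxRecDepth 100000
set_option maxHeartbeats 500000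

namespace CfsgLib.CoxTorus

open Cfsg.Lie Matrix Polynomial CfsgLib.Chev CfsgLib.Chev.Chev CfsgLib.InvTorus

section Annihilator

variable {D : ChevalleyDatum} (Φ : Chev D) {ℓ : ℕ} [Fact ℓ.Prime]

/-- An integral functional proportional to `v` modulo `ℓ`, vanishing where `v` vanishes. -/
theorem exists_annihilator {v : Fin D.rank → ZMod ℓ} {th : Fin D.nroots}
    (htop : ∀ r j, Φ.V r j ≤ Φ.V th j) (h1 : ∀ k, 1 ≤ Φ.V th k) (hℓ : ∀ k, Φ.V th k < ℓ) :
    ∃ (y : Fin D.rank → ℤ) (m : ℤ), (m : ZMod ℓ) ≠ 0 ∧ (∀ k, (y k : ZMod ℓ) = m * v k) ∧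
      ∀ r, lam Φ v r = 0 → Φ.V r ⬝ᵥ y = 0 := by
  classical
  obtain ⟨σ, f, hL, hf, hth⟩ := exists_alcove Φ v th
  suffices H : ∃ (y : Fin D.rank → ℤ) (m : ℤ), (m : ZMod ℓ) ≠ 0 ∧ (∀ k, (y k : ZMod ℓ) = m * f k) ∧
      ∀ r, Φ.toTables.Pos r → (Fv Φ f r = 0 ∨ Fv Φ f r = ℓ) → Φ.V r ⬝ᵥ y = 0 by
    obtain ⟨y, m, hm, hym, hyr⟩ := H
    have key : ∀ r, Φ.toTables.Pos r → lam Φ v (σ r) = 0 → Φ.V r ⬝ᵥ y = 0 := fun r hp h => by
      have h0 : 0 ≤ Fv Φ f r := Finset.sum_nonneg fun i _ => mul_nonneg (Φ.V_nonneg r hp i) (hf i)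
      have h1 : Fv Φ f r ≤ ℓ :=
        le_trans (Finset.sum_le_sum fun i _ => mul_le_mul_of_nonneg_right (htop r i) (hf i)) hth
      obtain ⟨c, hc⟩ := (ZMod.intCast_zmod_eq_zero_iff_dvd _ ℓ).1 ((hL.cast Φ r).trans h)
      have hl : (0 : ℤ) < ℓ := by exact_mod_cast (Fact.out : ℓ.Prime).pos
      refine hyr r hp ?_
      rcases (show c = 0 ∨ c = 1 by
        rw [hc] at h0 h1
        have : 0 ≤ c := nonneg_of_mul_nonneg_right h0 hl
        have : c ≤ 1 := le_of_mul_le_mul_left (by linarith) hl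
        omega) with rfl | rfl
      · exact Or.inl (by rw [hc, mul_zero])
      · exact Or.inr (by rw [hc, mul_one])
    have hall : ∀ r, lam Φ v (σ r) = 0 → Φ.V r ⬝ᵥ y = 0 := fun r h => by
      by_cases hp : Φ.toTables.Pos r
      · exact key r hp h
      · have := key r.rev ((Φ.pos_rev_iff r).2 hp) (by rw [Φ.map_rev hL.1, lam_rev, h, neg_zero])
        simpa [dotProduct, Φ.V_neg r] using this
    refine ⟨Pm Φ σ⁻¹ *ᵥ y, m, hm, fun k => ?_, fun r h => ?_⟩
    · have e := hL.cast Φ (σ⁻¹ (Φ.p k))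
      rw [show σ (σ⁻¹ (Φ.p k)) = Φ.p k from σ.apply_symm_apply _, lam_p] at e
      rw [← e, Fv]
      simp only [Matrix.mulVec, dotProduct, Pm, Matrix.of_apply, Int.cast_sum, Int.cast_mul, hym, Finset.mul_sum]
      exact Finset.sum_congr rfl fun j _ => by ring
    · rw [Matrix.dotProduct_mulVec, ← V_vecMul Φ (inv_mem hL.1)]
      exact hall _ (by rwa [show σ (σ⁻¹ r) = r from σ.apply_symm_apply r])
  have hterm0 : ∀ r, Φ.toTables.Pos r → Fv Φ f r = 0 → ∀ i, f i ≠ 0 → Φ.V r i = 0 := fun r hp h i hi =>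
    (mul_eq_zero.1 ((Finset.sum_eq_zero_iff_of_nonneg
      (fun j _ => mul_nonneg (Φ.V_nonneg r hp j) (hf j))).1 h i (Finset.mem_univ i))).resolve_right hi
  by_cases hlt : Fv Φ f th < ℓ
  · refine ⟨f, 1, by simp, by simp, fun r hp h => ?_⟩
    show Fv Φ f r = 0
    refine h.resolve_right fun hr => ?_
    have : Fv Φ f r ≤ Fv Φ f th :=
      Finset.sum_le_sum fun i _ => mul_le_mul_of_nonneg_right (htop r i) (hf i)
    omega
  · have hEq : Fv Φ f th = ℓ := le_antisymm hth (not_lt.1 hlt)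
    obtain ⟨a, ha⟩ : ∃ a, f a ≠ 0 := by
      by_contra! hK
      simp [Fv, hK] at hEq
      exact (Fact.out : ℓ.Prime).ne_zero (by exact_mod_cast hEq.symm)
    refine ⟨fun j => Φ.V th a * f j - if j = a then (ℓ : ℤ) else 0, Φ.V th a, fun h => ?_, fun k => ?_,
      fun r hp h => ?_⟩
    · have h' := Int.le_of_dvd (by have := h1 a; omega) ((ZMod.intCast_zmod_eq_zero_iff_dvd _ ℓ).1 h)
      have := hℓ a
      omega
    · push_cast
      split_ifs <;> simp
    · have e : Φ.V r ⬝ᵥ (fun j => Φ.V th a * f j - if j = a then (ℓ : ℤ) else 0) =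
          Φ.V th a * Fv Φ f r - Φ.V r a * ℓ := by
        simp only [dotProduct, Fv, mul_sub, Finset.sum_sub_distrib, mul_ite, mul_zero, Finset.sum_ite_eq',
          Finset.mem_univ, if_true, Finset.mul_sum]
        exact congrArg (· - _) (Finset.sum_congr rfl fun j _ => by ring)
      rw [e]
      rcases h with h | h
      · rw [h, hterm0 r hp h a ha]; ring
      · have hz : ∑ j, (Φ.V th j - Φ.V r j) * f j = 0 := by
          simp only [sub_mul, Finset.sum_sub_distrib]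
          exact sub_eq_zero.2 (hEq.trans h.symm)
        have h2 := (Finset.sum_eq_zero_iff_of_nonneg
          (fun j _ => mul_nonneg (sub_nonneg.2 (htop r j)) (hf j))).1 hz a (Finset.mem_univ a)
        rw [h, ← sub_eq_zero.1 ((mul_eq_zero.1 h2).resolve_right ha)]
        ring

end Annihilator

section Recurrence

/-- A periodic solution of the recurrence of `Φ₁₂` has period a multiple of twelve. -/
theorem seq_zero (f : ℕ → ℤ) (hrec : ∀ i, f (i + 4) = f (i + 2) - f i) {k : ℕ}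
    (hk : ∀ i, f (i + k) = f i) (h12 : ¬ 12 ∣ k) (i : ℕ) : f i = 0 := by
  have h6 : ∀ i, f (i + 6) = -f i := fun i => by
    have a := hrec (i + 2)
    have b := hrec i
    rw [show i + 2 + 4 = i + 6 from rfl, show i + 2 + 2 = i + 4 from rfl] at a
    omega
  have hp : ∀ n i, f (i + 12 * n) = f i := by
    intro n
    induction n with
    | zero => simp
    | succ n ih => intro i; rw [show i + 12 * (n + 1) = i + 12 * n + 6 + 6 by ring, h6, h6, neg_neg, ih]
  have hj : ∀ j i, f (i + j * k) = f i := by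
    intro j
    induction j with
    | zero => simp
    | succ j ih => intro i; rw [Nat.succ_mul, ← add_assoc, hk, ih]
  obtain ⟨j, hj12⟩ : ∃ j, j * k % 12 = 4 ∨ j * k % 12 = 6 := by
    have key : ∀ r < 12, r ≠ 0 → ∃ j < 12, j * r % 12 = 4 ∨ j * r % 12 = 6 := by decide
    obtain ⟨j, -, hj⟩ := key (k % 12) (Nat.mod_lt _ (by norm_num)) fun h => h12 (Nat.dvd_of_mod_eq_zero h)
    exact ⟨j, by simpa [Nat.mul_mod] using hj⟩
  have hper : ∀ i, f (i + j * k % 12) = f i := fun i => by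
    rw [← hp (j * k / 12), add_assoc, Nat.mod_add_div, hj]
  rcases hj12 with h | h <;> rw [h] at hper
  · have a := hper i
    have b := hper (i + 2)
    have c := hrec i
    have d := hrec (i + 2)
    rw [show i + 2 + 4 = i + 6 from rfl] at b d
    have e := h6 i
    rw [show i + 2 + 2 = i + 4 from rfl] at d
    omega
  · have a := hper i
    have e := h6 i
    omega

end Recurrence

section Cyclotomic

theorem cyclotomic_twelve {R : Type*} [CommRing R] : cyclotomic 12 R = X ^ 4 - X ^ 2 + 1 := by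
  rw [show (12 : ℕ) = 6 * 2 from rfl, ← cyclotomic_expand_eq_cyclotomic Nat.prime_two (by norm_num), cyclotomic_six]
  simp [map_add, map_sub, map_pow, ← pow_mul]

theorem eq_zero_of_not_dvd {r e : ℕ} (he : 0 < e) {A : Matrix (Fin r) (Fin r) ℤ} {y : Fin r → ℤ}
    (h0 : aeval A (cyclotomic e ℤ) *ᵥ y = 0) {Q : ℚ[X]}
    (hQ : aeval (A.map (Int.castRingHom ℚ)) Q *ᵥ (fun i => (y i : ℚ)) = 0)
    (hd : ¬ cyclotomic e ℚ ∣ Q) : y = 0 := by
  set B := A.map (Int.castRingHom ℚ)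
  set y' : Fin r → ℚ := fun i => (y i : ℚ)
  have hB0 : aeval B (cyclotomic e ℚ) *ᵥ y' = 0 := by
    rw [← map_cyclotomic e (Int.castRingHom ℚ), ← map_aeval_int]
    funext i
    rw [show y' = Int.castRingHom ℚ ∘ y from rfl, ← RingHom.map_mulVec, h0]
    simp
  obtain ⟨a, b, hab⟩ := (cyclotomic.irreducible_rat he).coprime_iff_not_dvd.2 hd
  have h3 := congrArg (fun Q => aeval B Q *ᵥ y') hab
  simp only [map_add, map_mul, map_one, Matrix.one_mulVec, Matrix.add_mulVec, ← Matrix.mulVec_mulVec, hQ, hB0,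
    Matrix.mulVec_zero, add_zero] at h3
  funext i
  simpa [y'] using congrFun h3.symm i

theorem dvd_minpoly_of_mulVec {r e : ℕ} (he : 0 < e) {A : Matrix (Fin r) (Fin r) ℤ} {y : Fin r → ℤ}
    (hy : y ≠ 0) (h0 : aeval A (cyclotomic e ℤ) *ᵥ y = 0) :
    cyclotomic e ℚ ∣ minpoly ℚ (A.map (Int.castRingHom ℚ)) := by
  by_contra hd
  exact hy (eq_zero_of_not_dvd he h0 (by rw [minpoly.aeval, Matrix.zero_mulVec]) hd)

end Cyclotomic

namespace E6

/-- The rank of the datum. -/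
abbrev n6 : ℕ := Cfsg.Lie.chevE6.rank

/-- The number of roots of the datum. -/
abbrev N6 : ℕ := Cfsg.Lie.chevE6.nroots

/-- The highest root. -/
def top6 : Fin N6 := ⟨71, by decide +kernel⟩

/-- The Cartan matrix. -/
def m6 (i j : Fin n6) : ℤ :=
  ([[2, 0, -1, 0, 0, 0], [0, 2, 0, -1, 0, 0], [-1, 0, 2, -1, 0, 0], [0, -1, -1, 2, -1, 0],
    [0, 0, 0, -1, 2, -1], [0, 0, 0, 0, -1, 2]].getD i.val []).getD j.val 0

/-- The Cartan matrix as a matrix. -/
def M6 : Matrix (Fin n6) (Fin n6) ℤ := Matrix.of m6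

/-- Three times its inverse. -/
def A6 (i j : Fin n6) : ℤ :=
  ([[4, 3, 5, 6, 4, 2], [3, 6, 6, 9, 6, 3], [5, 6, 10, 12, 8, 4], [6, 9, 12, 18, 12, 6],
    [4, 6, 8, 12, 10, 5], [2, 3, 4, 6, 5, 4]].getD i.val []).getD j.val 0

/-- Three times the weights of the minimal representation, in the coordinates of the roots. -/
def wl : List (List ℤ) :=
 [[4, 3, 5, 6, 4, 2],
  [1, 3, 5, 6, 4, 2],
  [1, 3, 2, 6, 4, 2],
  [1, 3, 2, 3, 4, 2],
  [1, 0, 2, 3, 4, 2],
  [1, 3, 2, 3, 1, 2],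
  [1, 0, 2, 3, 1, 2],
  [1, 3, 2, 3, 1, -1],
  [1, 0, 2, 0, 1, 2],
  [1, 0, 2, 3, 1, -1],
  [1, 0, -1, 0, 1, 2],
  [1, 0, 2, 0, 1, -1],
  [-2, 0, -1, 0, 1, 2],
  [1, 0, -1, 0, 1, -1],
  [1, 0, 2, 0, -2, -1],
  [-2, 0, -1, 0, 1, -1],
  [1, 0, -1, 0, -2, -1],
  [-2, 0, -1, 0, -2, -1],
  [1, 0, -1, -3, -2, -1],
  [-2, 0, -1, -3, -2, -1],
  [1, -3, -1, -3, -2, -1],
  [-2, -3, -1, -3, -2, -1],
  [-2, 0, -4, -3, -2, -1],
  [-2, -3, -4, -3, -2, -1],
  [-2, -3, -4, -6, -2, -1],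
  [-2, -3, -4, -6, -5, -1],
  [-2, -3, -4, -6, -5, -4]]

/-- A weight. -/
def W (a : Fin 27) (j : Fin n6) : ℤ := (wl.getD a.val []).getD j.val 0

/-- The invariant form. -/
def Bf (u w : Fin n6 → ℤ) : ℤ := u ⬝ᵥ M6 *ᵥ w

/-- The matrix of a fundamental reflection. -/
def R6 (i : Fin n6) : Matrix (Fin n6) (Fin n6) ℤ :=
  Matrix.of fun k j => (if k = j then 1 else 0) - if j = i then M6 i k else 0

theorem W_self : ∀ a, Bf (W a) (W a) = 12 := by decide +kernel

theorem W_ne : ∀ a b, a ≠ b → Bf (W a) (W b) = 3 ∨ Bf (W a) (W b) = -6 := by decide +kernel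

theorem W_common : ∀ a b : Fin 27, a ≠ b → ∃ c, Bf (W a) (W c) = -6 ∧ Bf (W b) (W c) = -6 := by decide +kernel

theorem W_triangle : ∀ a b c : Fin 27, Bf (W a) (W b) = -6 → Bf (W a) (W c) = -6 → Bf (W b) (W c) = -6 →
    ∀ j, W c j = -W a j - W b j := by decide +kernel

theorem W_nbrs : ∀ a : Fin 27, (Finset.univ.filter fun c => Bf (W a) (W c) = -6).card = 10 := by decide +kernel

theorem W_refl : ∀ (i : Fin n6) (a : Fin 27), ∃ b, ∀ j, W b j = (W a ᵥ* R6 i) j := by decide +kernel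

theorem W_coroot : ∀ (i : Fin n6) (a : Fin 27),
    Bf (Pi.single i 1) (W a) = -3 ∨ Bf (Pi.single i 1) (W a) = 0 ∨ Bf (Pi.single i 1) (W a) = 3 := by
  decide +kernel

theorem R6_M6 : ∀ i, R6 i * M6 * (R6 i)ᵀ = M6 := by decide +kernel

theorem M6_diag : ∀ i, Bf (Pi.single i 1) (Pi.single i 1) = 2 := by decide +kernel

theorem W_inj {a b : Fin 27} (h : W a = W b) : a = b := by
  by_contra hne
  have := W_self b
  rcases W_ne a b hne with e | e <;> rw [h, this] at e <;> exact absurd e (by norm_num)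

variable (Φ : Chev Cfsg.Lie.chevE6)

theorem cartan_eq : ∀ a b : Fin n6, Cfsg.Lie.chevE6.cartan a.val (Cfsg.Lie.chevE6.simple b.val) = m6 a b := by
  decide +kernel

theorem A_p (a b : Fin n6) : Φ.A a (Φ.p b) = M6 a b :=
  (Φ.cartan_val a (Φ.p b)).symm.trans
    ((congrArg (Cfsg.Lie.chevE6.cartan a.val) (Φ.simple_val b).symm).trans (cartan_eq a b))

/-- The coordinates of a root in the table. -/
def crd (r : Fin N6) (j : Fin n6) : ℤ := (Cfsg.Lie.chevE6.coroot.getD r.val #[]).getD j.val 0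

theorem cartan_crd : ∀ (i : Fin n6) (r : Fin N6), Cfsg.Lie.chevE6.cartan i.val r.val = ∑ k, M6 i k * crd r k := by
  decide +kernel

theorem A6_inv : ∀ j k, ∑ i, A6 j i * M6 i k = if j = k then 3 else 0 := by decide +kernel

theorem V_eq (r : Fin N6) (j : Fin n6) : Φ.V r j = crd r j := by
  have h : ∀ i, ∑ k, M6 i k * Φ.V r k = ∑ k, M6 i k * crd r k := fun i => by
    refine Eq.trans ?_ (cartan_crd i r)
    rw [Φ.cartan_val i r, Φ.A_lin i r]
    exact Finset.sum_congr rfl fun k _ => by rw [A_p Φ i k]; exact mul_comm _ _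
  have h2 : ∀ g : Fin n6 → ℤ, ∑ i, A6 j i * ∑ k, M6 i k * g k = 3 * g j := fun g => by
    simp only [Finset.mul_sum, ← mul_assoc]
    rw [Finset.sum_comm]
    simp only [← Finset.sum_mul, A6_inv, ite_mul, zero_mul, Finset.sum_ite_eq, Finset.mem_univ, if_true]
  refine mul_left_cancel₀ (show (3 : ℤ) ≠ 0 by norm_num) ?_
  rw [← h2 (Φ.V r), ← h2 (crd r)]
  exact Finset.sum_congr rfl fun i _ => congrArg _ (h i)

theorem crd_le : ∀ (r : Fin N6) (j : Fin n6), crd r j ≤ crd top6 j := by decide +kernel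

theorem crd_top : ∀ j : Fin n6, 1 ≤ crd top6 j ∧ crd top6 j ≤ 3 := by decide +kernel

theorem Pm_refl (i : Fin n6) : Pm Φ (Φ.reflPerm i) = R6 i := by
  ext k j
  show Φ.V (Φ.refl i (Φ.p k)) j = _
  rw [Φ.V_refl, Φ.V_p]
  show _ = (if k = j then (1 : ℤ) else 0) - if j = i then M6 i k else 0
  split_ifs <;> simp_all [A_p Φ]

theorem WL_induction {Q : Matrix (Fin n6) (Fin n6) ℤ → Prop} (h1 : Q 1) (hmul : ∀ A B, Q A → Q B → Q (A * B))
    (hR : ∀ i, Q (R6 i)) {π : Equiv.Perm (Fin N6)} (hπ : π ∈ Φ.WL) : Q (Pm Φ π) := by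
  induction hπ using Subgroup.closure_induction with
  | mem x hx => obtain ⟨i, -, rfl⟩ := hx; rw [Pm_refl Φ i]; exact hR i
  | one => rw [Pm_one]; exact h1
  | mul x y hx _ ihx ihy => rw [Pm_mul Φ hx]; exact hmul _ _ ihy ihx
  | inv x hx ih =>
    have hpow : ∀ n : ℕ, Q (Pm Φ (x ^ n)) := by
      intro n
      induction n with
      | zero => rw [pow_zero, Pm_one]; exact h1
      | succ n ihn => rw [pow_succ', Pm_mul Φ hx]; exact hmul _ _ ihn ih
    have : x⁻¹ = x ^ (orderOf x - 1) := by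
      refine inv_eq_of_mul_eq_one_right ?_
      rw [← pow_succ', Nat.sub_add_cancel (orderOf_pos x), pow_orderOf_eq_one]
    rw [this]; exact hpow _

theorem form_inv {π : Equiv.Perm (Fin N6)} (hπ : π ∈ Φ.WL) : Pm Φ π * M6 * (Pm Φ π)ᵀ = M6 := by
  refine WL_induction Φ (Q := fun A => A * M6 * Aᵀ = M6) (by simp) (fun A B hA hB => ?_)
    R6_M6 hπ
  rw [Matrix.transpose_mul, show A * B * M6 * (Bᵀ * Aᵀ) = A * (B * M6 * Bᵀ) * Aᵀ by simp only [Matrix.mul_assoc],
    hB, hA]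

theorem Bf_map {π : Equiv.Perm (Fin N6)} (hπ : π ∈ Φ.WL) (u w : Fin n6 → ℤ) :
    Bf (u ᵥ* Pm Φ π) (w ᵥ* Pm Φ π) = Bf u w := by
  conv_rhs => rw [Bf, ← form_inv Φ hπ]
  rw [Bf, ← Matrix.mulVec_mulVec, ← Matrix.mulVec_mulVec, Matrix.mulVec_transpose, Matrix.dotProduct_mulVec u]

theorem W_map {π : Equiv.Perm (Fin N6)} (hπ : π ∈ Φ.WL) : ∀ a, ∃ b, W b = W a ᵥ* Pm Φ π := by
  refine WL_induction Φ (Q := fun A => ∀ a, ∃ b, W b = W a ᵥ* A) (fun a => ⟨a, (Matrix.vecMul_one _).symm⟩)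
    (fun A B hA hB a => ?_) (fun i a => (W_refl i a).imp fun b hb => funext hb) hπ
  obtain ⟨b, hb⟩ := hA a
  obtain ⟨c, hc⟩ := hB b
  exact ⟨c, by rw [hc, hb, Matrix.vecMul_vecMul]⟩

theorem root_form (r : Fin N6) : Bf (Φ.V r) (Φ.V r) = 2 ∧
    ∀ a, Bf (Φ.V r) (W a) = -3 ∨ Bf (Φ.V r) (W a) = 0 ∨ Bf (Φ.V r) (W a) = 3 := by
  induction r using Φ.root_induction with
  | hp i =>
    have e : Φ.V (Φ.p i) = Pi.single i 1 := funext fun j => by
      rw [Φ.V_p, Pi.single_apply]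
      exact if_congr eq_comm rfl rfl
    rw [e]
    exact ⟨M6_diag i, W_coroot i⟩
  | hstep i r ih =>
    have hm := Φ.reflPerm_mem_WL i
    have e : Φ.V (Φ.refl i r) = Φ.V r ᵥ* Pm Φ (Φ.reflPerm i) := V_vecMul Φ hm r
    rw [e]
    refine ⟨(Bf_map Φ hm _ _).trans ih.1, fun a => ?_⟩
    obtain ⟨b, hb⟩ := W_map Φ (inv_mem hm) a
    have e2 : W a = W b ᵥ* Pm Φ (Φ.reflPerm i) := by
      rw [hb, Matrix.vecMul_vecMul, ← Pm_mul Φ hm, mul_inv_cancel, Pm_one, Matrix.vecMul_one]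
    rw [e2, Bf_map Φ hm]
    exact ih.2 b

/-- Three vectors orthogonal to four independent ones have vanishing Gram determinant. -/
theorem gram_zero {x : Fin 3 → Fin n6 → ℤ} {Y : Fin 4 → Fin n6 → ℤ} (hY : LinearIndependent ℤ Y)
    (h : ∀ a b, x a ⬝ᵥ Y b = 0) : (Matrix.of fun a b => Bf (x a) (x b)).det = 0 := by
  by_contra hdet
  set G := Matrix.of fun a b => Bf (x a) (x b)
  have hli : LinearIndependent ℤ (Sum.elim (fun a => M6 *ᵥ x a) Y) := by
    rw [Fintype.linearIndependent_iff]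
    intro g hg
    rw [Fintype.sum_sum_type] at hg
    simp only [Sum.elim_inl, Sum.elim_inr] at hg
    have hG : G *ᵥ (fun a => g (Sum.inl a)) = 0 := funext fun k => by
      have := congrArg (x k ⬝ᵥ ·) hg
      simp only [dotProduct_add, dotProduct_sum, dotProduct_smul, smul_eq_mul, h, mul_zero,
        Finset.sum_const_zero, add_zero, dotProduct_zero] at this
      rw [Pi.zero_apply, ← this]
      show ∑ a, Bf (x k) (x a) * g (Sum.inl a) = _
      exact Finset.sum_congr rfl fun a _ => (show Bf (x k) (x a) * g (Sum.inl a) = g (Sum.inl a) * Bf (x k) (x a) from mul_comm _ _)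
    have ha : ∀ a, g (Sum.inl a) = 0 := fun a => congrFun (Matrix.eq_zero_of_mulVec_eq_zero hdet hG) a
    simp only [ha, zero_smul, Finset.sum_const_zero, zero_add] at hg
    rintro (a | b)
    · exact ha a
    · exact Fintype.linearIndependent_iff.1 hY _ hg b
  have := hli.fintype_card_le_finrank
  simp at this
  exact absurd this (by decide +kernel)

theorem M6_symm : M6ᵀ = M6 := by decide +kernel

theorem Bf_comm (u w : Fin n6 → ℤ) : Bf u w = Bf w u := by
  rw [Bf, Bf, Matrix.dotProduct_mulVec, ← Matrix.mulVec_transpose, M6_symm, dotProduct_comm]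

theorem det_gram (x : Fin 3 → Fin n6 → ℤ) {a b c d e f : ℤ} (h00 : Bf (x 0) (x 0) = a) (h11 : Bf (x 1) (x 1) = b)
    (h22 : Bf (x 2) (x 2) = c) (h01 : Bf (x 0) (x 1) = d) (h02 : Bf (x 0) (x 2) = e) (h12 : Bf (x 1) (x 2) = f) :
    (Matrix.of fun i j => Bf (x i) (x j)).det = a * b * c + 2 * d * e * f - a * f ^ 2 - b * e ^ 2 - c * d ^ 2 := by
  have hs := Bf_comm
  simp only [Matrix.det_fin_three, Matrix.of_apply, hs (x 1) (x 0), hs (x 2) (x 0), hs (x 2) (x 1), h00, h11,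
    h22, h01, h02, h12]
  ring

theorem exists_period {τ : Equiv.Perm (Fin 27)} {S : Finset (Fin 27)} (hS : ∀ c ∈ S, τ c ∈ S) (hcard : S.card < 12)
    {c : Fin 27} (hc : c ∈ S) : ∃ k, ¬ 12 ∣ k ∧ (τ ^ k) c = c := by
  have hmem : ∀ i : ℕ, (τ ^ i) c ∈ S := fun i => by
    induction i with
    | zero => simpa using hc
    | succ i ih => rw [pow_succ', Equiv.Perm.mul_apply]; exact hS _ ih
  obtain ⟨i, hi, j, hj, hne, heq⟩ := Finset.exists_ne_map_eq_of_card_lt_of_maps_to (s := Finset.range 12) (t := S)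
    (by simpa using hcard) (fun i _ => hmem i)
  have key : ∀ i j, i < j → j < 12 → (τ ^ i) c = (τ ^ j) c → ∃ k, ¬ 12 ∣ k ∧ (τ ^ k) c = c := by
    intro i j hij hj h
    refine ⟨j - i, fun hd => absurd (Nat.le_of_dvd (by omega) hd) (by omega), (τ ^ i).injective ?_⟩
    rw [← Equiv.Perm.mul_apply, ← pow_add, show i + (j - i) = j by omega, ← h]
  rcases lt_or_gt_of_ne hne with h | h
  · exact key i j h (Finset.mem_range.1 hj) heq
  · exact key j i h (Finset.mem_range.1 hi) heq.symm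

/-- Regularity and the characteristic polynomial of an eigenfunctional of order twelve. -/
theorem regular_twelve {ℓ : ℕ} [Fact ℓ.Prime] (hℓ : 12 < ℓ) {π : Equiv.Perm (Fin N6)} (hπ : π ∈ Φ.WL)
    {v : Fin n6 → ZMod ℓ} (hv : v ≠ 0) {c : ZMod ℓ} (hc : IsPrimitiveRoot c 12)
    (hlam : ∀ r : Fin N6, lam Φ v (π r) = c * lam Φ v r) :
    (Pm Φ π).charpoly = cyclotomic 12 ℤ * cyclotomic 3 ℤ ∧ ∀ r : Fin N6, lam Φ v r ≠ 0 := by
  classical
  haveI : NeZero (12 : ℕ) := ⟨by norm_num⟩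
  set P : Matrix (Fin n6) (Fin n6) ℤ := Pm Φ π with hPdef
  obtain ⟨N, hN⟩ : ∃ N, N = 2 ^ 7 * (3 ^ 4 * 5) := ⟨_, rfl⟩
  have hcard : Nat.card Φ.WL = N := by rw [hN]; exact (cardWE6 Φ).trans (by norm_num)
  have hN0 : 0 < N := by rw [hN]; norm_num
  have h12N : 12 ∣ N := by rw [hN]; norm_num
  have hPm : P ^ N = 1 := by
    rw [hPdef, ← Pm_pow Φ hπ, ← hcard,
      show π ^ Nat.card Φ.WL = 1 from congrArg Subtype.val (pow_card_eq_one' (x := (⟨π, hπ⟩ : Φ.WL)))]
    exact Pm_one Φ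
  have hPv : P.map (Int.castRingHom (ZMod ℓ)) *ᵥ v = c • v := funext fun k => by
    rw [Pi.smul_apply, smul_eq_mul, ← lam_p Φ v k, ← hlam]
    rfl
  obtain ⟨y, m, hm, hym, hyr⟩ := exists_annihilator Φ (v := v) (th := top6)
    (fun r j => by rw [V_eq Φ, V_eq Φ]; exact crd_le r j) (fun k => by rw [V_eq Φ]; exact (crd_top k).1)
    (fun k => by rw [V_eq Φ]; have := (crd_top k).2; omega)
  set R : ℤ[X] := ∏ d ∈ N.divisors.erase 12, cyclotomic d ℤ with hR
  have hRX : cyclotomic 12 ℤ * R = X ^ N - 1 := by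
    rw [hR, Finset.mul_prod_erase _ (fun d => cyclotomic d ℤ)
      (Nat.mem_divisors.2 ⟨h12N, hN0.ne'⟩), prod_cyclotomic_eq_X_pow_sub_one hN0]
  set y12 := aeval P R *ᵥ y with hy12
  have h12 : aeval P (cyclotomic 12 ℤ) *ᵥ y12 = 0 := by
    rw [hy12, Matrix.mulVec_mulVec, ← map_mul, hRX, map_sub, map_pow, aeval_X, map_one, hPm, sub_self,
      Matrix.zero_mulVec]
  have hy12ne : y12 ≠ 0 := by
    intro h0
    have h1 : (Int.castRingHom (ZMod ℓ)) ∘ y12 = 0 := by rw [h0]; exact funext fun i => map_zero _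
    have h2 : (Int.castRingHom (ZMod ℓ)) ∘ y = (m : ZMod ℓ) • v := funext fun k => hym k
    rw [hy12, show (Int.castRingHom (ZMod ℓ)) ∘ (aeval P R *ᵥ y) =
      (aeval P R).map (Int.castRingHom (ZMod ℓ)) *ᵥ (Int.castRingHom (ZMod ℓ) ∘ y) from
        funext fun i => RingHom.map_mulVec _ _ _ i, map_aeval_int, h2, Matrix.mulVec_smul,
      aeval_mulVec_eigen _ hPv, smul_smul] at h1
    have h3 := (smul_eq_zero.1 h1).resolve_right hv
    rw [hR, Polynomial.map_prod, eval_prod] at h3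
    simp only [map_cyclotomic] at h3
    obtain ⟨d, hd, hd0⟩ := Finset.prod_eq_zero_iff.1 ((mul_eq_zero.1 h3).resolve_left hm)
    obtain ⟨hde, hdm⟩ := Finset.mem_erase.1 hd
    haveI : NeZero (d : ZMod ℓ) := ⟨fun h => by
      have h5 : ℓ ∣ 2 ^ 7 * (3 ^ 4 * 5) :=
        hN ▸ dvd_trans ((ZMod.natCast_eq_zero_iff _ _).1 h) (Nat.dvd_of_mem_divisors hdm)
      have hl : ℓ.Prime := Fact.out
      rcases (Nat.Prime.dvd_mul hl).1 h5 with h6 | h6
      · have := Nat.le_of_dvd (by norm_num) (hl.dvd_of_dvd_pow h6); omega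
      · rcases (Nat.Prime.dvd_mul hl).1 h6 with h7 | h7
        · have := Nat.le_of_dvd (by norm_num) (hl.dvd_of_dvd_pow h7); omega
        · have := Nat.le_of_dvd (by norm_num) h7; omega⟩
    exact hde ((isRoot_cyclotomic_iff.1 hd0).unique hc)
  -- the recurrence
  have hrec : ∀ (u : Fin n6 → ℤ) i, u ⬝ᵥ (P ^ (i + 4) *ᵥ y12) =
      u ⬝ᵥ (P ^ (i + 2) *ᵥ y12) - u ⬝ᵥ (P ^ i *ᵥ y12) := fun u i => by
    have h := congrArg (fun z => u ⬝ᵥ (P ^ i *ᵥ z)) h12
    simp only [cyclotomic_twelve, map_add, map_sub, map_pow, aeval_X, map_one, Matrix.add_mulVec,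
      Matrix.sub_mulVec, Matrix.one_mulVec, Matrix.mulVec_add, Matrix.mulVec_sub, Matrix.mulVec_mulVec,
      ← pow_add, dotProduct_add, dotProduct_sub, Matrix.mulVec_zero, dotProduct_zero] at h
    omega
  have hY : LinearIndependent ℤ fun b : Fin 4 => P ^ (b : ℕ) *ᵥ y12 := by
    rw [Fintype.linearIndependent_iff]
    intro g hg i
    by_contra hgi
    set Q : ℚ[X] := ∑ b : Fin 4, monomial (b : ℕ) (g b : ℚ) with hQ
    refine hy12ne (eq_zero_of_not_dvd (by norm_num) h12 (Q := Q) ?_ ?_)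
    · rw [hQ, map_sum, Matrix.sum_mulVec]
      funext k
      have hk := congrArg (fun z : ℤ => (z : ℚ)) (congrFun hg k)
      simp only [Finset.sum_apply, Pi.smul_apply, smul_eq_mul, Int.cast_sum, Int.cast_mul, Pi.zero_apply,
        Int.cast_zero] at hk
      rw [Finset.sum_apply, Pi.zero_apply, ← hk]
      refine Finset.sum_congr rfl fun b _ => ?_
      rw [aeval_monomial, ← Algebra.smul_def, Matrix.smul_mulVec, Pi.smul_apply, smul_eq_mul]
      congr 1
      rw [show P.map (Int.castRingHom ℚ) = (Int.castRingHom ℚ).mapMatrix P from rfl, ← map_pow]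
      exact (RingHom.map_mulVec (Int.castRingHom ℚ) _ y12 k).symm
    · intro hd
      have hne : Q ≠ 0 := fun h0 => hgi (by
        have := congrArg (fun Q => Polynomial.coeff Q (i : ℕ)) h0
        simpa [hQ, Polynomial.coeff_monomial, Fin.val_inj, Finset.sum_ite_eq'] using this)
      have h1 := Polynomial.degree_le_of_dvd hd hne
      have h2 : Q.degree < ((4 : ℕ) : WithBot ℕ) := by
        refine (Polynomial.degree_sum_le _ _).trans_lt ?_
        refine (Finset.sup_lt_iff (WithBot.bot_lt_coe _)).2 fun j _ => ?_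
        exact (Polynomial.degree_monomial_le _ _).trans_lt (WithBot.coe_lt_coe.2 j.isLt)
      rw [degree_cyclotomic, show Nat.totient 12 = 4 from by decide] at h1
      exact absurd (lt_of_le_of_lt h1 h2) (lt_irrefl _)
  -- the permutation of the weights
  choose t ht using W_map Φ hπ
  have htinj : Function.Injective t := fun a b h => by
    have h' : W a ᵥ* P = W b ᵥ* P := by rw [← ht, ← ht, h]
    have := congrArg (· ᵥ* Pm Φ π⁻¹) h'
    simp only [Matrix.vecMul_vecMul, hPdef, ← Pm_mul Φ (inv_mem hπ), inv_mul_cancel] at this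
    rw [show Pm Φ (1 : Equiv.Perm (Fin N6)) = 1 from Pm_one Φ, Matrix.vecMul_one, Matrix.vecMul_one] at this
    exact W_inj this
  let τ : Equiv.Perm (Fin 27) := Equiv.ofBijective t (Finite.injective_iff_bijective.1 htinj)
  have hτ : ∀ a, W (τ a) = W a ᵥ* P := ht
  have hτn : ∀ n a, W ((τ ^ n) a) = W a ᵥ* P ^ n := by
    intro n
    induction n with
    | zero => simp
    | succ n ih =>
      intro a
      rw [pow_succ', Equiv.Perm.mul_apply, hτ, ih, Matrix.vecMul_vecMul, pow_succ]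
  have hτB : ∀ a b, Bf (W (τ a)) (W (τ b)) = Bf (W a) (W b) := fun a b => by
    rw [hτ, hτ]; exact Bf_map Φ hπ _ _
  let InU : Fin 27 → Prop := fun a => ∀ i, W a ⬝ᵥ (P ^ i *ᵥ y12) = 0
  have hper : ∀ k a, ¬ 12 ∣ k → (τ ^ k) a = a → InU a := fun k a hk h i => by
    refine seq_zero (fun i => W a ⬝ᵥ (P ^ i *ᵥ y12)) (hrec _) (k := k) (fun i => ?_) hk i
    conv_rhs => rw [← h, hτn, ← Matrix.dotProduct_mulVec, Matrix.mulVec_mulVec, ← pow_add, add_comm]
  have hUτ : ∀ a, InU a → InU (τ a) := fun a ha i => by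
    rw [hτ, ← Matrix.dotProduct_mulVec, Matrix.mulVec_mulVec, ← pow_succ']
    exact ha (i + 1)
  have hU3 : ∀ a b d, InU a → InU b → InU d → a ≠ b → a ≠ d → b ≠ d → ∀ j, W d j = -W a j - W b j := by
    intro a b d ha hb hd hab had hbd
    have h0 := gram_zero (x := ![W a, W b, W d]) hY (fun i b' => by
      fin_cases i
      exacts [ha _, hb _, hd _])
    rw [det_gram _ (W_self a) (W_self b) (W_self d) rfl rfl rfl] at h0
    refine W_triangle a b d ?_ ?_ ?_ <;>
      rcases W_ne a b hab with e1 | e1 <;> rcases W_ne a d had with e2 | e2 <;>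
      rcases W_ne b d hbd with e3 | e3 <;>
      simp [e1, e2, e3] at h0 ⊢
  have hsmall : ∀ S : Finset (Fin 27), (∀ d ∈ S, InU d) → S.card ≤ 3 := by
    intro S hS
    by_contra hlt
    obtain ⟨T, hT, hTc⟩ := Finset.exists_subset_card_eq (show 4 ≤ S.card by omega)
    obtain ⟨a, b, d, e, hab, had, hae, hbd, hbe, hde, rfl⟩ := Finset.card_eq_four.1 hTc
    have m : ∀ {z}, z ∈ ({a, b, d, e} : Finset (Fin 27)) → InU z := fun hz => hS _ (hT hz)
    have e1 := hU3 a b d (m (by simp)) (m (by simp)) (m (by simp)) hab had hbd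
    have e2 := hU3 a b e (m (by simp)) (m (by simp)) (m (by simp)) hab hae hbe
    exact hde (W_inj (funext fun j => (e1 j).trans (e2 j).symm))
  have hstable : ∀ S : Finset (Fin 27), (∀ d ∈ S, τ d ∈ S) → S.card < 12 → ∀ d ∈ S, InU d := by
    intro S hS hlt d hd
    obtain ⟨k, hk, hk'⟩ := exists_period hS hlt hd
    exact hper k d hk hk'
  have hnofix : ∀ a, τ a ≠ a := by
    intro a ha
    set N := Finset.univ.filter fun d => Bf (W a) (W d) = -6 with hN
    have hst : ∀ d ∈ N, τ d ∈ N := fun d hd => by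
      rw [hN, Finset.mem_filter] at hd ⊢
      refine ⟨Finset.mem_univ _, ?_⟩
      rw [← hd.2, ← hτB a d, ha]
    have := hsmall N (hstable N hst (by rw [hN, W_nbrs]; norm_num))
    rw [hN, W_nbrs] at this
    omega
  obtain ⟨a, ha⟩ : ∃ a, InU a := by
    haveI : Fact (Nat.Prime 2) := ⟨Nat.prime_two⟩
    have h1 : (τ ^ 405) ^ 2 ^ 7 = 1 := Equiv.ext fun d => W_inj <| by
      rw [← pow_mul, hτn, show 405 * 2 ^ 7 = N by rw [hN]; norm_num, hPm, Matrix.vecMul_one, Equiv.Perm.one_apply]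
    obtain ⟨a, ha⟩ := Equiv.Perm.exists_fixed_point_of_prime (p := 2) (n := 7) (by simp) h1
    exact ⟨a, hper 405 a (by norm_num) ha⟩
  set b := τ a with hb
  set d := τ b with hd
  have hba : b ≠ a := hnofix a
  have hdb : d ≠ b := hnofix b
  have hda : d ≠ a := by
    intro h
    obtain ⟨z, hz1, hz2⟩ := W_common a b hba.symm
    set C := Finset.univ.filter fun z => Bf (W a) (W z) = -6 ∧ Bf (W b) (W z) = -6 with hC
    have hst : ∀ z ∈ C, τ z ∈ C := fun z hz => by
      rw [hC, Finset.mem_filter] at hz ⊢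
      refine ⟨Finset.mem_univ _, ?_, ?_⟩
      · rw [← h, hd, hτB]; exact hz.2.2
      · rw [hb, hτB]; exact hz.2.1
    have hCc : C.card < 12 := by
      refine lt_of_le_of_lt (Finset.card_le_card ?_) (lt_of_eq_of_lt (W_nbrs a) (by norm_num))
      intro w hw
      rw [hC, Finset.mem_filter] at hw
      exact Finset.mem_filter.2 ⟨Finset.mem_univ _, hw.2.1⟩
    have hzU : InU z := hstable C hst hCc z (Finset.mem_filter.2 ⟨Finset.mem_univ _, hz1, hz2⟩)
    have hza : a ≠ z := fun e => by rw [← e, W_self] at hz1; norm_num at hz1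
    have hzb : b ≠ z := fun e => by rw [← e, W_self] at hz2; norm_num at hz2
    have ez : W z = -W a - W b := funext (hU3 a b z ha (hUτ a ha) hzU hba.symm hza hzb)
    refine hnofix z (W_inj ?_)
    rw [hτ, ez, Matrix.sub_vecMul, Matrix.neg_vecMul, ← hτ, ← hτ, ← hb, ← hd, h]
    abel
  have hsum : W a + W b + W d = 0 := funext fun j => by
    have := hU3 a b d ha (hUτ a ha) (hUτ b (hUτ a ha)) hba.symm hda.symm hdb.symm j
    simp only [Pi.add_apply, Pi.zero_apply]
    omega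
  -- the characteristic polynomial
  have hstep : ∀ w, P *ᵥ (M6 *ᵥ (w ᵥ* P)) = M6 *ᵥ w := fun w => by
    conv_rhs => rw [← form_inv Φ hπ, ← Matrix.mulVec_mulVec, ← Matrix.mulVec_mulVec, Matrix.mulVec_transpose]
  have hz : aeval P (cyclotomic 3 ℤ) *ᵥ (M6 *ᵥ W d) = 0 := by
    have e1 : P *ᵥ (M6 *ᵥ W d) = M6 *ᵥ W b := by rw [hd, hτ]; exact hstep _
    have e2 : P *ᵥ (M6 *ᵥ W b) = M6 *ᵥ W a := by rw [hb, hτ]; exact hstep _
    simp only [cyclotomic_three, map_add, map_pow, aeval_X, map_one, Matrix.add_mulVec,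
      Matrix.one_mulVec]
    rw [pow_two, ← Matrix.mulVec_mulVec, e1, e2, ← Matrix.mulVec_add, ← Matrix.mulVec_add, hsum, Matrix.mulVec_zero]
  have hz0 : M6 *ᵥ W d ≠ 0 := fun h => by
    have := W_self d
    rw [Bf, h, dotProduct_zero] at this
    norm_num at this
  set B := P.map (Int.castRingHom ℚ) with hB
  have hdvd : cyclotomic 12 ℚ * cyclotomic 3 ℚ ∣ B.charpoly :=
    (IsCoprime.mul_dvd (cyclotomic.isCoprime_rat (by norm_num))
      (dvd_minpoly_of_mulVec (by norm_num) hy12ne h12) (dvd_minpoly_of_mulVec (by norm_num) hz0 hz)).trans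
      (Matrix.minpoly_dvd_charpoly B)
  have hcp : B.charpoly = cyclotomic 12 ℚ * cyclotomic 3 ℚ := by
    refine eq_of_monic_of_dvd_of_natDegree_le ((cyclotomic.monic 12 ℚ).mul (cyclotomic.monic 3 ℚ))
      (Matrix.charpoly_monic B) hdvd ?_
    rw [Matrix.charpoly_natDegree_eq_dim, Fintype.card_fin,
      (cyclotomic.monic 12 ℚ).natDegree_mul (cyclotomic.monic 3 ℚ), natDegree_cyclotomic, natDegree_cyclotomic]
    decide
  refine ⟨?_, fun r hr => ?_⟩
  · refine Polynomial.map_injective (Int.castRingHom ℚ) Int.cast_injective ?_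
    rw [← Matrix.charpoly_map, Polynomial.map_mul, map_cyclotomic, map_cyclotomic]
    exact hcp
  · have hiter : ∀ n : ℕ, lam Φ v ((π ^ n) r) = 0 := by
      intro n
      induction n with
      | zero => simpa using hr
      | succ n ih => rw [pow_succ', Equiv.Perm.mul_apply, hlam, ih, mul_zero]
    have hQ : ∀ Q : ℤ[X], Φ.V r ⬝ᵥ (aeval P Q *ᵥ y) = 0 := fun Q => by
      induction Q using Polynomial.induction_on' with
      | add Q S hQ hS => rw [map_add, Matrix.add_mulVec, dotProduct_add, hQ, hS, add_zero]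
      | monomial n z =>
        rw [aeval_monomial, ← Algebra.smul_def, Matrix.smul_mulVec, dotProduct_smul,
          Matrix.dotProduct_mulVec, hPdef, ← Pm_pow Φ hπ, ← V_vecMul Φ (pow_mem hπ n), hyr _ (hiter n),
          smul_zero]
    have hrU : ∀ i, Φ.V r ⬝ᵥ (P ^ i *ᵥ y12) = 0 := fun i => by
      rw [hy12, Matrix.mulVec_mulVec]
      have := hQ (X ^ i * R)
      rwa [map_mul, map_pow, aeval_X] at this
    have h0 := gram_zero (x := ![Φ.V r, W a, W b]) hY (fun i b' => by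
      fin_cases i
      exacts [hrU _, ha _, hUτ a ha _])
    obtain ⟨hr2, hrW⟩ := root_form Φ r
    have hab : Bf (W a) (W b) = -6 := by
      rcases W_ne a b hba.symm with e | e
      · exfalso
        have := W_self d
        rw [show W d = -W a - W b by rw [eq_comm, ← sub_eq_zero, ← neg_eq_zero, ← hsum]; abel] at this
        simp only [Bf, Matrix.mulVec_sub, Matrix.mulVec_neg, dotProduct_sub, sub_dotProduct, neg_dotProduct,
          dotProduct_neg] at this
        have h1 := W_self a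
        have h2 := W_self b
        have h3 : Bf (W b) (W a) = 3 := by rw [← e]; exact Bf_comm _ _
        simp only [Bf] at e h1 h2 h3
        omega
      · exact e
    rw [det_gram _ hr2 (W_self a) (W_self b) rfl rfl hab] at h0
    rcases hrW a with e1 | e1 | e1 <;> rcases hrW b with e2 | e2 | e2 <;> simp [e1, e2] at h0

end E6

end CfsgLib.CoxTorus
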