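import Cfsg.Agent.Lib.CoxTorus.SteinbergTorus
import Cfsg.Agent.Lib.CoxTorus.E6Weights
import Cfsg.Agent.Lib.CoxTorus.KerCount
import Cfsg.Agent.Lib.Chev.CenterOrderData

/-!
In type E6 a twisted torus element of order dividing three which comes from the group over the small
field is trivial when nine does not divide the order of the twisted torus: lift to the presented group.
-/

set_option autoImplicit false
set_option linter.dupNamespace false
set_option linter.unusedSectionVars false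
set_option maxRecDepth 100000
set_option maxHeartbeats 800000

namespace CfsgLib.CoxTorus.E6

open Cfsg.Lie Matrix CfsgLib.Chev CfsgLib.Chev.Chev

theorem M6_det : M6.det = 3 := by decide +kernel

theorem expM_smul_sub_one {A : Type*} [CommGroup A] {l : ℕ} (X : Matrix (Fin l) (Fin l) ℤ) (q : ℕ)
    (d : Fin l → A) : expM ((q : ℤ) • X - 1) d = expM X d ^ q * d⁻¹ := by
  funext k
  simp only [expM_apply, Matrix.sub_apply, Matrix.smul_apply, smul_eq_mul, _root_.zpow_sub,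
    Finset.prod_mul_distrib, Finset.prod_inv_distrib, Pi.mul_apply, Pi.pow_apply, Pi.inv_apply]
  congr 1
  · rw [← Finset.prod_pow]
    exact Finset.prod_congr rfl fun j _ => by rw [mul_comm, _root_.zpow_mul, zpow_natCast]
  · congr 1
    rw [Finset.prod_eq_single k]
    · simp
    · intro j _ hj; simp [Matrix.one_apply_ne (Ne.symm hj)]
    · simp

variable (Φ : Chev Cfsg.Lie.chevE6)

theorem A_symm (a b : Fin n6) : Φ.A a (Φ.p b) = Φ.A b (Φ.p a) := by
  rw [A_p Φ a b, A_p Φ b a]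
  exact (congrFun (congrFun M6_symm a) b).symm

theorem coHom_eq_expM (K : Type*) [Field K] : Φ.coHom K = expM M6 := by
  refine MonoidHom.ext fun c => funext fun j => ?_
  show ∏ k, c k ^ Φ.A k (Φ.p j) = ∏ k, c k ^ M6 j k
  refine Finset.prod_congr rfl fun k _ => ?_
  rw [A_symm Φ k j, A_p Φ j k]

/-- A twisted torus element of order dividing three from the small group is trivial. -/
theorem eq_one_of_mem_small {F K : Type*} [Field F] [Field K] [Fintype K] (f : F →+* K) (σ : K ≃+* K)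
    {q : ℕ} (hσq : ∀ x, σ x = x ^ q) (hσf : σ.toRingHom.comp f = f) (hq : q % 3 = 1)
    (h3 : 3 ∣ Fintype.card K - 1) {π : Equiv.Perm (Fin N6)} (hπ : π ∈ Φ.WL)
    (h0 : (Matrix.scalar (Fin n6) (q : ℤ) - Pm Φ π).det ≠ 0)
    (hK : (Matrix.scalar (Fin n6) (q : ℤ) - Pm Φ π).det.natAbs ∣ Nat.card Kˣ)
    (h9 : ¬ 9 ∣ (Matrix.scalar (Fin n6) (q : ℤ) - Pm Φ π).det.natAbs)
    {g : GL Cfsg.Lie.chevE6.Idx K} (hg : g ∈ Cfsg.Lie.chevE6.group K)
    (han : g⁻¹ * Matrix.GeneralLinearGroup.map σ.toRingHom g ∈ Cfsg.Lie.chevE6.monomialSubgroup K)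
    (ham : Φ.Mono (g⁻¹ * Matrix.GeneralLinearGroup.map σ.toRingHom g) π)
    {c : Fin n6 → Kˣ} (hcH : Φ.toAlg.torus c ∈ Cfsg.Lie.chevE6.diagonalSubgroup K) (hc3 : c ^ 3 = 1)
    {v : GL Cfsg.Lie.chevE6.Idx F} (hv : v ∈ Cfsg.Lie.chevE6.group F)
    (hz : Matrix.GeneralLinearGroup.map f v = g * Φ.toAlg.torus c * g⁻¹) : c = 1 := by
  classical
  have hadj : Φ.Adj := Φ.adj_of_check adjE6
  -- the centre
  set Z := (Φ.coHom K).ker with hZ
  have hcyc : IsCyclic Kˣ := inferInstance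
  have h3K : 3 ∣ Nat.card Kˣ := by rwa [Nat.card_units, Nat.card_eq_fintype_card]
  have hZcard : Nat.card Z = 3 := by
    rw [hZ, coHom_eq_expM Φ K, card_ker_expM_det M6 (by rw [M6_det]; norm_num) (by rw [M6_det]; exact h3K),
      M6_det]
    rfl
  have hcenter : Nat.card (Subgroup.center (Cfsg.Lie.chevE6.SteinbergGroup K)) = 3 := by
    obtain ⟨ec⟩ := Φ.center_equiv_of_check CfsgLib.Chev.chevE7 (F := K) hadj embedE6 centreE6
    rw [Nat.card_congr ec.toEquiv, IsCyclic.card_powMonoidHom_ker]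
    exact Nat.gcd_eq_right h3K
  have hZc : ∀ z ∈ Z, wSt Φ z ∈ Subgroup.center (Cfsg.Lie.chevE6.SteinbergGroup K) := fun z hzZ => by
    rw [← Φ.ker_proj_eq_center hadj, MonoidHom.mem_ker, proj_wSt, MonoidHom.mem_ker.1 hzZ, map_one]
  let wZ : Z → Subgroup.center (Cfsg.Lie.chevE6.SteinbergGroup K) := fun z => ⟨wSt Φ z.1, hZc z.1 z.2⟩
  have hwZ : Function.Bijective wZ := by
    haveI : Finite (Subgroup.center (Cfsg.Lie.chevE6.SteinbergGroup K)) :=
      Nat.finite_of_card_ne_zero (by rw [hcenter]; norm_num)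
    refine (Nat.bijective_iff_surjective_and_card wZ).2 ⟨fun x => ?_, hZcard.trans hcenter.symm⟩
    have hx : Φ.proj K x.1 = Φ.toAlg.torus 1 := by
      rw [map_one]
      exact MonoidHom.mem_ker.1 (by rw [Φ.ker_proj_eq_center hadj]; exact x.2)
    obtain ⟨s, hs, hs1⟩ := exists_wSt Φ hadj (by rw [map_one]; exact one_mem _) hx
    exact ⟨⟨s, hs1⟩, Subtype.ext hs.symm⟩
  have hwinj : Function.Injective (wSt Φ : (Fin n6 → Kˣ) → _) := by
    show Function.Injective (wHom Φ hadj)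
    rw [injective_iff_map_eq_one]
    intro s hs
    have hsZ : s ∈ Z := MonoidHom.mem_ker.2 <| Φ.torus_injective <| by
      rw [map_one, ← proj_wSt]
      exact (congrArg (Φ.proj K) hs).trans (map_one _)
    have e : wZ ⟨s, hsZ⟩ = wZ ⟨1, one_mem _⟩ := Subtype.ext (hs.trans (map_one (wHom Φ hadj)).symm)
    exact congrArg Subtype.val (hwZ.1 e)
  -- lifts
  obtain ⟨φ, hφ, hφp⟩ := exists_mapSt Φ f
  obtain ⟨S, hS, hSp⟩ := exists_mapSt Φ σ.toRingHom
  obtain ⟨y, hy⟩ := exists_lift Φ hv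
  obtain ⟨G, hG⟩ := exists_lift Φ hg
  have hSφ : ∀ x, S (φ x) = φ x :=
    Φ.gen_induction (Q := fun x => S (φ x) = φ x) (by simp) fun r t x hx => by
      rw [map_mul, map_mul, hφ, hS, hx, show σ.toRingHom (f t) = f t from RingHom.congr_fun hσf t]
  obtain ⟨s, hs, hsc⟩ := exists_wSt Φ (g := G⁻¹ * φ y * G) hadj hcH (by
    rw [map_mul, map_mul, map_inv, hφp, hy, hG, hz]; group)
  obtain ⟨l, rfl⟩ := exists_lperm Φ hπ
  set A := G⁻¹ * S G with hA
  have hgn : Φ.proj K (Φ.gword K l) ∈ Cfsg.Lie.chevE6.monomialSubgroup K :=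
    Φ.proj_gN (Subgroup.list_prod_mem _ fun x hx => by
      obtain ⟨i, -, rfl⟩ := List.mem_map.mp hx
      exact Subgroup.subset_closure ⟨_, _, rfl⟩)
  have hpA : Φ.proj K A = g⁻¹ * Matrix.GeneralLinearGroup.map σ.toRingHom g := by
    rw [hA, map_mul, map_inv, hSp, hG]
  have hBH : Φ.proj K ((Φ.gword K l)⁻¹ * A) ∈ Cfsg.Lie.chevE6.diagonalSubgroup K := by
    rw [map_mul, map_inv, hpA]
    exact Φ.inv_mul_mem_H hgn han (mono_gword Φ l) ham
  obtain ⟨e, he⟩ := Φ.exists_torus_of_mem_H hBH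
  obtain ⟨d, hd, -⟩ := exists_wSt Φ hadj (he ▸ hBH) he
  have hSs : S (wSt Φ s) = wSt Φ (s ^ q) := by
    rw [mapSt_wSt Φ S σ.toRingHom hS]
    congr 1
    funext k
    exact Units.ext (by simpa using hσq (s k))
  have hkey : wSt Φ (expM (Pm Φ (Φ.lperm l))ᵀ (s ^ q)) = wSt Φ s := by
    have h1 : S (G * wSt Φ s * G⁻¹) = G * wSt Φ s * G⁻¹ := by
      rw [show G * wSt Φ s * G⁻¹ = φ y by rw [← hs]; group, hSφ]
    rw [map_mul, map_mul, map_inv, hSs] at h1
    have h2 : A * wSt Φ (s ^ q) * A⁻¹ = wSt Φ s := by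
      rw [hA, show G⁻¹ * S G * wSt Φ (s ^ q) * (G⁻¹ * S G)⁻¹ = G⁻¹ * (S G * wSt Φ (s ^ q) * (S G)⁻¹) * G by
        group, h1]
      group
    have hAeq : A = Φ.gword K l * wSt Φ d := by rw [← hd]; group
    have hc' : wSt Φ d * wSt Φ (s ^ q) = wSt Φ (s ^ q) * wSt Φ d := by
      rw [← wSt_mul Φ hadj, ← wSt_mul Φ hadj, mul_comm]
    rw [← gword_conj_wSt Φ hadj (A_symm Φ), ← h2, hAeq,
      show Φ.gword K l * wSt Φ d * wSt Φ (s ^ q) * (Φ.gword K l * wSt Φ d)⁻¹ =
        Φ.gword K l * (wSt Φ d * wSt Φ (s ^ q) * (wSt Φ d)⁻¹) * (Φ.gword K l)⁻¹ by group, hc',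
      mul_inv_cancel_right]
  set X : Matrix (Fin n6) (Fin n6) ℤ := (Pm Φ (Φ.lperm l))ᵀ with hX
  set R := (q : ℤ) • X - 1 with hR
  have hsR : s ∈ (expM (A := Kˣ) R).ker := by
    rw [MonoidHom.mem_ker, hR, expM_smul_sub_one, ← map_pow, hwinj hkey, mul_inv_cancel]
  set N := (Matrix.scalar (Fin n6) (q : ℤ) - Pm Φ (Φ.lperm l)).det.natAbs with hN
  have hdetR : R.det.natAbs = N := by
    set P : Matrix (Fin n6) (Fin n6) ℤ := Pm Φ (Φ.lperm l) with hP
    have hf' : P * M6 * Pᵀ = M6 := form_inv Φ hπ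
    have h1 : ((q : ℤ) • P - 1) * M6 * Pᵀ = M6 * (Matrix.scalar (Fin n6) (q : ℤ) - P)ᵀ := by
      rw [Matrix.transpose_sub, Matrix.mul_sub, Matrix.sub_mul, Matrix.sub_mul, Matrix.one_mul,
        Matrix.smul_mul, Matrix.smul_mul, hf']
      congr 1
      rw [Matrix.scalar_apply, Matrix.diagonal_transpose, ← Matrix.smul_one_eq_diagonal, Matrix.mul_smul,
        Matrix.mul_one]
    have h2 := congrArg (fun Y : Matrix (Fin n6) (Fin n6) ℤ => Y.det.natAbs) h1
    have h3' := congrArg (fun Y : Matrix (Fin n6) (Fin n6) ℤ => Y.det.natAbs) hf'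
    simp only [Matrix.det_mul, Matrix.det_transpose, Int.natAbs_mul, M6_det] at h2 h3'
    have hP1 : P.det.natAbs = 1 := by
      have h4 : P.det.natAbs * P.det.natAbs = 1 := by
        have : (3 : ℤ).natAbs = 3 := rfl
        nlinarith [h3', this]
      exact Nat.eq_one_of_mul_eq_one_right h4
    rw [hP1, mul_one, mul_comm] at h2
    have h5 := Nat.eq_of_mul_eq_mul_left (by norm_num : 0 < (3 : ℤ).natAbs) h2
    rw [hR, hX, ← Matrix.det_transpose ((q : ℤ) • Pᵀ - 1), Matrix.transpose_sub, Matrix.transpose_smul,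
      Matrix.transpose_transpose, Matrix.transpose_one]
    exact h5
  have hRcard : Nat.card (expM (A := Kˣ) R).ker = N := by
    rw [card_ker_expM_det R (fun h => h0 (Int.natAbs_eq_zero.1 (by rw [← hN, ← hdetR, h]; rfl)))
      (hdetR ▸ hK), hdetR]
  set U : Subgroup (Fin n6 → Kˣ) := (expM (A := Kˣ) R).ker ⊓ (powMonoidHom 9).ker with hU
  have hZU : Z ≤ U := fun z hzZ => by
    have hz3 : z ^ 3 = 1 := by
      have := pow_card_eq_one' (x := (⟨z, hzZ⟩ : Z))
      rw [hZcard] at this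
      exact congrArg Subtype.val this
    have hzX : expM X z = z := hwinj <| by
      rw [← gword_conj_wSt Φ hadj (A_symm Φ), (Subgroup.mem_center_iff.1 (hZc z hzZ) _),
        mul_inv_cancel_right]
    refine ⟨?_, MonoidHom.mem_ker.2 (by
      rw [powMonoidHom_apply, show 9 = 3 * 3 from rfl, pow_mul, hz3, one_pow])⟩
    show z ∈ (expM (A := Kˣ) R).ker
    rw [MonoidHom.mem_ker, hR, expM_smul_sub_one, hzX,
      show q = 3 * (q / 3) + 1 by omega, pow_succ, pow_mul, hz3, one_pow, one_mul, mul_inv_cancel]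
  have hUcard : Nat.card U ≤ 3 := by
    haveI : Fact (Nat.Prime 3) := ⟨Nat.prime_three⟩
    have hp : IsPGroup 3 U := fun x => ⟨2, Subtype.ext (MonoidHom.mem_ker.1 x.2.2)⟩
    obtain ⟨k, hk⟩ := IsPGroup.iff_card.1 hp
    have hdvd : Nat.card U ∣ N := hRcard ▸ Subgroup.card_dvd_of_le inf_le_left
    rw [hk] at hdvd ⊢
    by_contra h
    have hk2 : 2 ≤ k := by
      by_contra hk2
      have := Nat.pow_le_pow_right (show 1 ≤ 3 by norm_num) (show k ≤ 1 by omega)
      omega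
    exact h9 (dvd_trans (pow_dvd_pow 3 hk2) hdvd)
  have hsU : s ∈ U := by
    refine ⟨hsR, ?_⟩
    have : s ^ 3 ∈ Z := MonoidHom.mem_ker.2 (by rw [map_pow, hsc, hc3])
    have h := pow_card_eq_one' (x := (⟨s ^ 3, this⟩ : Z))
    rw [hZcard] at h
    show s ^ 9 = 1
    rw [show 9 = 3 * 3 from rfl, pow_mul]
    exact congrArg Subtype.val h
  rw [← Subgroup.eq_of_le_of_card_ge hZU (hUcard.trans hZcard.ge)] at hsU
  rw [← hsc]
  exact MonoidHom.mem_ker.1 hsU

end CfsgLib.CoxTorus.E6
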