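import Cfsg.Agent.Lib.CoxTorus.Main
import Cfsg.Agent.Lib.InvTorus.CertF4
import Cfsg.Agent.Lib.InvTorus.CertE8
import Cfsg.Agent.Lib.Chev.OrderF4
import Cfsg.Agent.Lib.Chev.OrderE8

/-!
Cyclic self-centralizing subgroups of orders `Φ₈(q)` in F4 and `Φ₃₀(q)` in E8.
-/

set_option autoImplicit false
set_option linter.dupNamespace false
set_option maxRecDepth 100000

namespace CfsgLib.CoxTorus

open Cfsg.Lie Matrix CfsgLib.Chev CfsgLib.Chev.Chev CfsgLib.InvTorus Polynomial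

theorem lt_of_dvd_eval {e ℓ q : ℕ} [Fact ℓ.Prime] (he : 0 < e) (hle : ¬ ℓ ∣ e)
    (h : (ℓ : ℤ) ∣ (cyclotomic e ℤ).eval (q : ℤ)) : e < ℓ := by
  haveI : NeZero (e : ZMod ℓ) := ⟨fun h => hle ((ZMod.natCast_eq_zero_iff _ _).1 h)⟩
  have h1 := eval_intCast_map (Int.castRingHom (ZMod ℓ)) (cyclotomic e ℤ) (q : ℤ)
  rw [map_cyclotomic] at h1
  have hroot : (cyclotomic e (ZMod ℓ)).IsRoot (q : ZMod ℓ) := by
    rw [IsRoot.def]
    simpa [(ZMod.intCast_zmod_eq_zero_iff_dvd _ ℓ).2 h] using h1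
  have hp := isRoot_cyclotomic_iff.1 hroot
  have hdvd : e ∣ ℓ - 1 := by
    refine hp.dvd_of_pow_eq_one _ (ZMod.pow_card_sub_one_eq_one ?_)
    intro h0
    have := hp.pow_eq_one
    rw [h0, zero_pow he.ne'] at this
    exact zero_ne_one this
  have := Nat.le_of_dvd (Nat.sub_pos_of_lt (Fact.out : ℓ.Prime).one_lt) hdvd
  omega

theorem top_of_tab {D : ChevalleyDatum} (T : RootTab D) (Φ : Chev D) (th : Fin D.nroots)
    (h : T.Vl.all (fun row => decide (∀ j : Fin D.rank, Cert.get row j ≤ Cert.get (T.row th) j)) = true)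
    (r : Fin D.nroots) (j : Fin D.rank) : Φ.V r j ≤ Φ.V th j := by
  rw [T.V_eq Φ, T.V_eq Φ]
  exact of_decide_eq_true (List.all_eq_true.1 h _ (T.row_mem r)) j

theorem eval_eight (q : ℤ) : (cyclotomic 8 ℤ).eval q = q ^ 4 + 1 := by
  haveI : Fact (Nat.Prime 2) := ⟨Nat.prime_two⟩
  rw [show (8 : ℕ) = 2 ^ (2 + 1) from rfl, cyclotomic_prime_pow_eq_geom_sum Nat.prime_two]
  simp [Finset.sum_range_succ]
  ring

theorem eval_thirty (q : ℤ) :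
    (cyclotomic 30 ℤ).eval q = q ^ 8 + q ^ 7 - q ^ 5 - q ^ 4 - q ^ 3 + q + 1 := by
  have h := congrArg (eval q) (cyclotomic_expand_eq_cyclotomic_mul (p := 5) (n := 6) (by norm_num)
    (by norm_num) ℤ)
  rw [expand_eval, eval_mul, cyclotomic_six] at h
  simp only [eval_add, eval_sub, eval_pow, eval_X, eval_one] at h
  have h0 : (0 : ℤ) < q ^ 2 - q + 1 := by nlinarith [sq_nonneg (2 * q - 1)]
  refine mul_right_cancel₀ h0.ne' (h.symm.trans ?_)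
  ring

theorem pow_four_mod (q : ℕ) : ¬ 4 ∣ q ^ 4 + 1 := by
  intro h
  have h1 : ∀ x : ZMod 4, x ^ 4 + 1 ≠ 0 := by decide
  exact h1 q (by exact_mod_cast (ZMod.natCast_eq_zero_iff _ _).2 h)

/-- The type F4. -/
theorem exists_F4 {F : Type*} [Field F] [Finite F] :
    ∃ C : Subgroup ↥(chevF4.group F), IsCyclic C ∧ Nat.card C = Nat.card F ^ 4 + 1 ∧
      Subgroup.centralizer (C : Set ↥(chevF4.group F)) = C := by
  set q := Nat.card F with hq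
  have hq2 : 2 ≤ q := Finite.one_lt_card
  have hev : ((cyclotomic 8 ℤ).eval (q : ℤ)).natAbs = q ^ 4 + 1 := by
    rw [eval_eight, show ((q : ℤ) ^ 4 + 1) = ((q ^ 4 + 1 : ℕ) : ℤ) by push_cast; rfl, Int.natAbs_natCast]
  have h4 := pow_four_mod q
  obtain ⟨ℓ, hℓp, hℓd, hℓ2⟩ : ∃ ℓ : ℕ, ℓ.Prime ∧ ℓ ∣ q ^ 4 + 1 ∧ ℓ ≠ 2 := by
    have h16 : 2 ^ 4 ≤ q ^ 4 := Nat.pow_le_pow_left hq2 4
    by_cases h : 2 ∣ q ^ 4 + 1
    · obtain ⟨m, hm⟩ := h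
      have hm2 : ¬ 2 ∣ m := fun ⟨k, hk⟩ => h4 ⟨k, by omega⟩
      refine ⟨m.minFac, Nat.minFac_prime (by omega), m.minFac_dvd.trans ⟨2, by omega⟩, fun h => ?_⟩
      exact hm2 (h ▸ m.minFac_dvd)
    · refine ⟨_, Nat.minFac_prime (show q ^ 4 + 1 ≠ 1 by omega), Nat.minFac_dvd _, fun h' => h ?_⟩
      exact h' ▸ Nat.minFac_dvd _
  haveI : Fact ℓ.Prime := ⟨hℓp⟩
  have hle : ¬ ℓ ∣ 8 := fun h => hℓ2 ((Nat.prime_dvd_prime_iff_eq hℓp Nat.prime_two).1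
    (hℓp.dvd_of_dvd_pow (show ℓ ∣ 2 ^ 3 from h)))
  have hℓN : (ℓ : ℤ) ∣ (cyclotomic 8 ℤ).eval (q : ℤ) := by
    rw [← Int.dvd_natAbs, hev]
    exact Int.natCast_dvd_natCast.2 hℓd
  have h8 : 8 < ℓ := lt_of_dvd_eval (by norm_num) hle hℓN
  let Φ := CfsgLib.Chev.chevF4
  let T := InvTorus.F4.tab
  have hV : ∀ k, Φ.V (⟨47, by decide⟩ : Fin chevF4.nroots) k = Cert.get (T.row ⟨47, by decide⟩) k :=
    fun k => T.V_eq Φ _ k
  have hd : Nat.card (chevF4.diagonalSubgroup F) = (Nat.card F - 1) ^ 4 := by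
    simpa [Fin.prod_univ_succ] using cardHF4 Φ F
  have hG : ℓ ∣ Nat.card (chevF4.group F) := by
    have h := Φ.order_formula (F := F) (g := 1) (degs := [2, 6, 8, 12]) rfl
      (by rw [one_mul]; exact hd) (sumWF4 Φ)
    rw [one_mul] at h
    rw [h]
    refine dvd_mul_of_dvd_right (dvd_trans ?_ (List.dvd_prod (List.mem_map.2 ⟨8, by simp, rfl⟩))) _
    refine hℓd.trans ⟨q ^ 4 - 1, ?_⟩
    rw [← hq, ← Nat.sq_sub_sq, ← pow_mul, one_pow]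
  have hM : ∀ a b : Fin 4, chevF4.cartan a.val (chevF4.simple b.val) =
      (!![2, -1, 0, 0; -1, 2, -1, 0; 0, -2, 2, -1; 0, 0, -1, 2] : Matrix (Fin 4) (Fin 4) ℤ) b a := by
    decide +kernel
  have hinv : (!![2, -1, 0, 0; -1, 2, -1, 0; 0, -2, 2, -1; 0, 0, -1, 2] : Matrix (Fin 4) (Fin 4) ℤ) *
      ((!![0, 0, 0, 1; 1, 0, 0, 2; 0, 1, 0, 3; 0, 0, 1, 2] : Matrix (Fin 4) (Fin 4) ℤ) *
        (!![-1, 0, 0, 0; -2, -1, 0, 0; -2, -2, -1, 0; 2, 3, 2, 1] : Matrix (Fin 4) (Fin 4) ℤ)) = 1 := by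
    decide +kernel
  obtain ⟨C, h1, h2, h3⟩ := exists_selfCentralizing Φ (F := F) (e := 8) (ℓ := ℓ) (by norm_num)
    (show Nat.totient 8 = 4 by decide) (by
      rw [cardWF4]
      intro h
      rcases (hℓp.dvd_mul.1 (show ℓ ∣ 2 ^ 7 * 3 ^ 2 from h)) with h | h <;>
        · have := Nat.le_of_dvd (by norm_num) (hℓp.dvd_of_dvd_pow h)
          omega)
    (top_of_tab T Φ ⟨47, by decide⟩ (by decide +kernel))
    (fun k => by rw [hV]; revert k; exact (by decide +kernel))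
    (fun k => lt_of_le_of_lt (b := (8 : ℤ)) (by rw [hV]; revert k; exact (by decide +kernel)) (by exact_mod_cast h8))
    hle hℓN hG (Φ.coHom_surjective _ _ hM hinv F) (fun K _ => Φ.coHom_surjective _ _ hM hinv K)
    (fun p hp _ => by
      by_cases h : p = 2
      · subst h
        exact Or.inr (by rw [hev]; exact h4)
      · exact Or.inl fun hd => h ((Nat.prime_dvd_prime_iff_eq hp Nat.prime_two).1
          (hp.dvd_of_dvd_pow (show p ∣ 2 ^ 3 from hd))))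
  exact ⟨C, h1, h2.trans hev, h3⟩

theorem coprime_thirty (q : ℤ) {p : ℕ} (hp : p = 2 ∨ p = 3 ∨ p = 5) :
    ¬ (p : ℤ) ∣ q ^ 8 + q ^ 7 - q ^ 5 - q ^ 4 - q ^ 3 + q + 1 := by
  intro h
  have h0 := (ZMod.intCast_zmod_eq_zero_iff_dvd _ p).2 h
  push_cast at h0
  have h2 : ∀ x : ZMod 2, x ^ 8 + x ^ 7 - x ^ 5 - x ^ 4 - x ^ 3 + x + 1 ≠ 0 := by decide
  have h3 : ∀ x : ZMod 3, x ^ 8 + x ^ 7 - x ^ 5 - x ^ 4 - x ^ 3 + x + 1 ≠ 0 := by decide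
  have h5 : ∀ x : ZMod 5, x ^ 8 + x ^ 7 - x ^ 5 - x ^ 4 - x ^ 3 + x + 1 ≠ 0 := by decide
  rcases hp with rfl | rfl | rfl
  · exact h2 _ h0
  · exact h3 _ h0
  · exact h5 _ h0

theorem prime_dvd_thirty {p : ℕ} (hp : p.Prime) (h : p ∣ 30) : p = 2 ∨ p = 3 ∨ p = 5 := by
  rcases hp.dvd_mul.1 (show p ∣ 2 * 15 from h) with h | h
  · exact Or.inl ((Nat.prime_dvd_prime_iff_eq hp Nat.prime_two).1 h)
  · rcases hp.dvd_mul.1 (show p ∣ 3 * 5 from h) with h | h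
    · exact Or.inr (Or.inl ((Nat.prime_dvd_prime_iff_eq hp Nat.prime_three).1 h))
    · exact Or.inr (Or.inr ((Nat.prime_dvd_prime_iff_eq hp Nat.prime_five).1 h))

/-- The type E8. -/
theorem exists_E8 {F : Type*} [Field F] [Finite F] :
    ∃ C : Subgroup ↥(chevE8.group F), IsCyclic C ∧
      Nat.card C = Nat.card F ^ 8 + Nat.card F ^ 7 - Nat.card F ^ 5 - Nat.card F ^ 4 - Nat.card F ^ 3 +
        Nat.card F + 1 ∧
      Subgroup.centralizer (C : Set ↥(chevE8.group F)) = C := by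
  set q := Nat.card F with hq
  have hq2 : 2 ≤ q := Finite.one_lt_card
  have a1 : q ^ 5 ≤ q ^ 7 := Nat.pow_le_pow_right (by omega) (by norm_num)
  have a2 : 2 * q ^ 4 ≤ q ^ 8 := by
    calc 2 * q ^ 4 ≤ q * q ^ 4 := Nat.mul_le_mul_right _ hq2
      _ = q ^ 5 := by ring
      _ ≤ q ^ 8 := Nat.pow_le_pow_right (by omega) (by norm_num)
  have a3 : q ^ 3 ≤ q ^ 4 := Nat.pow_le_pow_right (by omega) (by norm_num)
  have hev : ((cyclotomic 30 ℤ).eval (q : ℤ)).natAbs = q ^ 8 + q ^ 7 - q ^ 5 - q ^ 4 - q ^ 3 + q + 1 := by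
    rw [eval_thirty]
    have : ((q ^ 8 + q ^ 7 - q ^ 5 - q ^ 4 - q ^ 3 + q + 1 : ℕ) : ℤ) =
        (q : ℤ) ^ 8 + (q : ℤ) ^ 7 - (q : ℤ) ^ 5 - (q : ℤ) ^ 4 - (q : ℤ) ^ 3 + q + 1 := by
      rw [Nat.cast_add, Nat.cast_add, Nat.cast_sub (by omega), Nat.cast_sub (by omega), Nat.cast_sub (by omega)]
      push_cast
      rfl
    rw [← this, Int.natAbs_natCast]
  have hnd : ∀ p : ℕ, p.Prime → p ∣ ((cyclotomic 30 ℤ).eval (q : ℤ)).natAbs → ¬ p ∣ 30 := by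
    intro p hp hpd hd
    refine coprime_thirty (q : ℤ) (prime_dvd_thirty hp hd) ?_
    rw [← eval_thirty, ← Int.dvd_natAbs]
    exact Int.natCast_dvd_natCast.2 hpd
  set N := ((cyclotomic 30 ℤ).eval (q : ℤ)).natAbs with hN
  have hN1 : N ≠ 1 := by rw [hev]; omega
  set ℓ := N.minFac with hℓ
  have hℓp : ℓ.Prime := Nat.minFac_prime hN1
  haveI : Fact ℓ.Prime := ⟨hℓp⟩
  have hle := hnd ℓ hℓp N.minFac_dvd
  have hℓN : (ℓ : ℤ) ∣ (cyclotomic 30 ℤ).eval (q : ℤ) := by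
    rw [← Int.dvd_natAbs]
    exact Int.natCast_dvd_natCast.2 N.minFac_dvd
  have h30 : 30 < ℓ := lt_of_dvd_eval (by norm_num) hle hℓN
  let Φ := CfsgLib.Chev.chevE8
  let T := InvTorus.E8.tab
  have hV : ∀ k, Φ.V (⟨239, by decide⟩ : Fin chevE8.nroots) k = Cert.get (T.row ⟨239, by decide⟩) k :=
    fun k => T.V_eq Φ _ k
  have hd : Nat.card (chevE8.diagonalSubgroup F) = (Nat.card F - 1) ^ 8 := by
    simpa [Fin.prod_univ_succ] using cardHE8 Φ F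
  have hG : ℓ ∣ Nat.card (chevE8.group F) := by
    have h := Φ.order_formula (F := F) (g := 1) (degs := [2, 8, 12, 14, 18, 20, 24, 30]) rfl
      (by rw [one_mul]; exact hd) (sumWE8 Φ)
    rw [one_mul] at h
    rw [h]
    refine dvd_mul_of_dvd_right (dvd_trans ?_ (List.dvd_prod (List.mem_map.2 ⟨30, by simp, rfl⟩))) _
    rw [← Int.natCast_dvd_natCast, Nat.cast_sub (Nat.one_le_pow _ _ Nat.card_pos)]
    have h1 := eval_dvd (x := (q : ℤ)) (cyclotomic.dvd_X_pow_sub_one 30 ℤ)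
    simp only [eval_sub, eval_pow, eval_X, eval_one] at h1
    push_cast
    exact hℓN.trans h1
  have hM : ∀ a b : Fin 8, chevE8.cartan a.val (chevE8.simple b.val) =
      (!![2, 0, -1, 0, 0, 0, 0, 0; 0, 2, 0, -1, 0, 0, 0, 0; -1, 0, 2, -1, 0, 0, 0, 0; 0, -1, -1, 2, -1, 0, 0, 0; 0, 0, 0, -1, 2, -1, 0, 0; 0, 0, 0, 0, -1, 2, -1, 0; 0, 0, 0, 0, 0, -1, 2, -1; 0, 0, 0, 0, 0, 0, -1, 2] : Matrix (Fin 8) (Fin 8) ℤ) b a := by
    decide +kernel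
  have hinv : (!![2, 0, -1, 0, 0, 0, 0, 0; 0, 2, 0, -1, 0, 0, 0, 0; -1, 0, 2, -1, 0, 0, 0, 0; 0, -1, -1, 2, -1, 0, 0, 0; 0, 0, 0, -1, 2, -1, 0, 0; 0, 0, 0, 0, -1, 2, -1, 0; 0, 0, 0, 0, 0, -1, 2, -1; 0, 0, 0, 0, 0, 0, -1, 2] : Matrix (Fin 8) (Fin 8) ℤ) *
      ((!![0, 0, 0, 0, 0, 0, 1, -2; 0, 0, 0, 0, 0, 0, 2, -3; 1, 0, 0, 0, 0, 0, 2, -4; 0, 1, 0, 0, 0, 0, 4, -6; 0, 0, 1, 0, 0, 0, 4, -5; 0, 0, 0, 1, 0, 0, 4, -4; 0, 0, 0, 0, 1, 0, 4, -3; 0, 0, 0, 0, 0, 1, 4, -2] : Matrix (Fin 8) (Fin 8) ℤ) * (!![-1, 0, 0, 0, 0, 0, 0, 0; 0, -1, 0, 0, 0, 0, 0, 0; 1, -2, 0, -1, 0, 0, 0, 0; 2, -3, 0, -2, -1, 0, 0, 0; 3, -4, 0, -3, -2, -1, 0, 0; 4, -5, 0, -4, -3, -2, -1, 0; -2, 1, -1, 0, 0, 0, 0, 0; -3, -2, -4, -5, -4, -3, -2, -1] : Matrix (Fin 8) (Fin 8) ℤ)) = 1 := by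
    decide +kernel
  obtain ⟨C, h1, h2, h3⟩ := exists_selfCentralizing Φ (F := F) (e := 30) (ℓ := ℓ) (by norm_num)
    (show Nat.totient 30 = 8 by decide) (by
      rw [cardWE8]
      intro h
      rcases (hℓp.dvd_mul.1 (show ℓ ∣ (2 ^ 14 * 3 ^ 5) * (5 ^ 2 * 7 ^ 1) from h)) with h | h <;>
        rcases hℓp.dvd_mul.1 h with h | h <;>
        · have := Nat.le_of_dvd (by norm_num) (hℓp.dvd_of_dvd_pow h)
          omega)
    (top_of_tab T Φ ⟨239, by decide⟩ (by decide +kernel))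
    (fun k => by rw [hV]; revert k; exact (by decide +kernel))
    (fun k => lt_of_le_of_lt (b := (30 : ℤ)) (by rw [hV]; revert k; exact (by decide +kernel)) (by exact_mod_cast h30))
    hle hℓN hG (Φ.coHom_surjective _ _ hM hinv F) (fun K _ => Φ.coHom_surjective _ _ hM hinv K)
    (fun p hp hpd => Or.inl (hnd p hp hpd))
  exact ⟨C, h1, h2.trans hev, h3⟩

end CfsgLib.CoxTorus
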