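import Cfsg.Agent.Lib.CoxTorus.Twist

/-!
Elements of a Chevalley group over a large field fixed by a field automorphism: they differ from the
group over the small field by torus elements, and powers prime to the index come from the small group.
-/

set_option autoImplicit false
set_option linter.dupNamespace false
set_option linter.unusedSectionVars false

namespace CfsgLib.CoxTorus

open Cfsg.Lie Matrix CfsgLib.Chev CfsgLib.Chev.Chev

variable {D : ChevalleyDatum} (Φ : Chev D) {K F : Type*} [Field K] [Field F]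

theorem torus_conj_mem_group (a : Fin D.rank → Kˣ) {v : GL D.Idx K} (hv : v ∈ D.group K) :
    Φ.toAlg.torus a * v * (Φ.toAlg.torus a)⁻¹ ∈ D.group K := by
  have h : D.group K ≤ (D.group K).comap (MulAut.conj (Φ.toAlg.torus a)).toMonoidHom := by
    conv_lhs => rw [Φ.toAlg.group_eq]
    rw [Subgroup.closure_le]
    rintro _ ⟨r, t, rfl⟩
    show Φ.toAlg.torus a * Φ.toAlg.xg r t * (Φ.toAlg.torus a)⁻¹ ∈ D.group K
    rw [Φ.toAlg.torus_xg, mul_inv_cancel_right]
    exact Φ.toAlg.xg_mem_group r _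
  exact h hv

/-- A fixed element is a torus element times an element of the small group. -/
theorem exists_of_fixed_mod_torus (σ : F ≃+* F) (f : K →+* F) (hf : ∀ x : F, σ x = x ↔ x ∈ Set.range f)
    {g : GL D.Idx F} (hg : g ∈ D.group F) (hfix : Matrix.GeneralLinearGroup.map σ.toRingHom g = g) :
    ∃ (a : Fin D.rank → Kˣ), ∃ v ∈ D.group K,
      Matrix.GeneralLinearGroup.map f (Φ.toAlg.torus a * v) = g := by
  classical
  have hσf : σ.toRingHom.comp f = f := RingHom.ext fun a => (hf (f a)).2 ⟨a, rfl⟩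
  obtain ⟨b, hb, n, hn, π, hW, hm, u, hu, rfl⟩ := Φ.exists_normal_form hg
  obtain ⟨g0, hg0, hn0, hm0⟩ := Φ.exists_preimage_map f hW
  set n0 := Matrix.GeneralLinearGroup.map f g0 with hn0def
  have hH := Φ.inv_mul_mem_H hn0 hn hm0 hm
  set b' := b * (n0 * (n0⁻¹ * n) * n0⁻¹) with hb'def
  have hb' : b' ∈ D.borelSubgroup F := mul_mem hb (H_le_B (Φ.H_conj_mem hn0 hH))
  have e : b * n * u = b' * n0 * u := by rw [hb'def]; group
  rw [e] at hfix ⊢
  have hn0fix : Matrix.GeneralLinearGroup.map σ.toRingHom n0 = n0 := by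
    conv_rhs => rw [hn0def, ← hσf, Matrix.GeneralLinearGroup.map_comp]
    rfl
  obtain ⟨u1, hu1, h1, hh1, hb1⟩ := Φ.mem_B_iff.1 hb'
  have hsu1 : Matrix.GeneralLinearGroup.map σ.toRingHom u1 ∈ D.posUnipotent F := by
    rw [Φ.posUnipotent_eq_US] at hu1 ⊢
    exact Φ.map_mem_US _ hu1
  have hsh1 := Φ.map_mem_diagonal σ.toRingHom hh1
  rw [map_mul, map_mul, hn0fix] at hfix
  have hsb : Matrix.GeneralLinearGroup.map σ.toRingHom b' ∈ D.borelSubgroup F := by
    rw [hb1, map_mul]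
    exact mul_mem (U_le_B hsu1) (H_le_B hsh1)
  obtain ⟨hbfix, hufix⟩ := Φ.normal_form_unique hm0 hsb hb' (Φ.map_mem_US _ hu) hu hfix
  rw [hb1, map_mul] at hbfix
  have h2 : u1⁻¹ * Matrix.GeneralLinearGroup.map σ.toRingHom u1 =
      h1 * (Matrix.GeneralLinearGroup.map σ.toRingHom h1)⁻¹ := by
    rw [inv_mul_eq_iff_eq_mul, ← mul_assoc, eq_mul_inv_iff_mul_eq]
    exact hbfix
  have h3 := Φ.eq_one_of_mem_U_of_mem_N (mul_mem (inv_mem hu1) hsu1)
    (h2 ▸ H_le_N (mul_mem hh1 (inv_mem hsh1)))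
  have hu1fix : Matrix.GeneralLinearGroup.map σ.toRingHom u1 = u1 := (inv_mul_eq_one.1 h3).symm
  rw [hu1fix] at hbfix
  have hh1fix := mul_left_cancel hbfix
  rw [Φ.posUnipotent_eq_US] at hu1
  obtain ⟨c, hc⟩ := Φ.exists_torus_of_mem_H hh1
  subst hc
  rw [map_torus] at hh1fix
  have hfc := congrFun (Φ.torus_injective hh1fix)
  have hex : ∀ i, ∃ a : Kˣ, Units.map f.toMonoidHom a = c i := fun i => by
    obtain ⟨a, ha⟩ := (hf (c i)).1 (congrArg Units.val (hfc i))
    have ha0 : a ≠ 0 := fun e => (c i).ne_zero (by rw [← ha, e, map_zero])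
    exact ⟨Units.mk0 a ha0, Units.ext ha⟩
  choose a ha using hex
  have hta : Matrix.GeneralLinearGroup.map f (Φ.toAlg.torus a) = Φ.toAlg.torus c := by
    rw [map_torus]
    congr 1
    exact funext ha
  obtain ⟨v1, hv1, rfl⟩ := Φ.exists_of_fixed_US σ f hf (fun _ h => h) Φ.closed_pos hu1 hu1fix
  obtain ⟨v3, hv3, rfl⟩ := Φ.exists_of_fixed_US σ f hf (fun _ h => h.1) (Φ.closed_pos_neg hW) hu hufix
  refine ⟨a, (Φ.toAlg.torus a)⁻¹ * v1 * (Φ.toAlg.torus a)⁻¹⁻¹ * g0 * v3,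
    mul_mem (mul_mem ?_ (Φ.N_le_group hg0)) hv3, ?_⟩
  · rw [← map_inv]
    exact torus_conj_mem_group Φ _ hv1
  · rw [hb1, hn0def, ← hta, ← map_mul, ← map_mul, ← map_mul]
    congr 1
    group

theorem torus_mul_pow (a : Fin D.rank → Kˣ) {v : GL D.Idx K} (hv : v ∈ D.group K) :
    ∀ n : ℕ, ∃ w ∈ D.group K, (Φ.toAlg.torus a * v) ^ n = Φ.toAlg.torus (a ^ n) * w
  | 0 => ⟨1, one_mem _, by simp⟩
  | n + 1 => by
    obtain ⟨w, hw, e⟩ := torus_mul_pow a hv n
    refine ⟨(Φ.toAlg.torus a)⁻¹ * w * (Φ.toAlg.torus a)⁻¹⁻¹ * v, mul_mem ?_ hv, ?_⟩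
    · rw [← map_inv]
      exact torus_conj_mem_group Φ _ hw
    · rw [pow_succ, e, pow_succ a, map_mul]
      group

include Φ in
/-- A power, by the index of the torus, of a fixed element lies in the small group. -/
theorem exists_pow_of_fixed [Finite K] {g : ℕ}
    (hg : g * Nat.card (D.diagonalSubgroup K) = (Nat.card K - 1) ^ D.rank)
    (σ : F ≃+* F) (f : K →+* F) (hf : ∀ x : F, σ x = x ↔ x ∈ Set.range f)
    {z : GL D.Idx F} (hz : z ∈ D.group F) (hfix : Matrix.GeneralLinearGroup.map σ.toRingHom z = z) :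
    ∃ v ∈ D.group K, Matrix.GeneralLinearGroup.map f v = z ^ g := by
  classical
  obtain ⟨a, v, hv, rfl⟩ := exists_of_fixed_mod_torus Φ σ f hf hz hfix
  obtain ⟨w, hw, e⟩ := torus_mul_pow Φ a hv g
  refine ⟨Φ.toAlg.torus (a ^ g) * w, mul_mem ?_ hw, by rw [← map_pow, e]⟩
  set H := (Φ.coHom K).range with hHdef
  have hH : Nat.card H = Nat.card (D.diagonalSubgroup K) := by
    rw [hHdef, Φ.diagonalSubgroup_eq, MonoidHom.range_comp,
      Subgroup.card_map_of_injective Φ.torus_injective]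
  have hidx : H.index = g := by
    have h1 := H.card_mul_index
    haveI := Fintype.ofFinite K
    rw [Nat.card_fun, Nat.card_units, Nat.card_fin, hH, ← hg] at h1
    exact mul_left_cancel₀ Nat.card_pos.ne' (h1.trans (mul_comm _ _))
  obtain ⟨d, hd⟩ := (hidx ▸ H.pow_index_mem a : a ^ g ∈ H)
  refine Φ.N_le_group (H_le_N ?_)
  rw [Φ.diagonalSubgroup_eq]
  exact ⟨d, by rw [MonoidHom.comp_apply, hd]⟩

end CfsgLib.CoxTorus
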