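import Cfsg.Agent.Lib.CoxTorus.SylowArith
import Cfsg.Agent.Lib.CoxTorus.SylowFixed
import Mathlib.GroupTheory.Sylow

/-!
Sylow subgroups of a Chevalley group for primes not dividing the order of the Weyl group are homocyclic:
they embed in the split torus over the extension of degree `d`, and the averaged lift of their socle
gives a lower bound on the order by the rank.
-/

set_option autoImplicit false
set_option linter.dupNamespace false
set_option linter.unusedSectionVars false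

namespace CfsgLib.CoxTorus

open Cfsg.Lie Matrix CfsgLib.Chev CfsgLib.Chev.Chev CfsgLib.InvTorus

variable {D : ChevalleyDatum} (Φ : Chev D)

/-- An element commuting with a finite family of torus elements. -/
theorem mem_US_forall {K : Type*} [Field K] {ι : Type*} [Finite ι] (cs : ι → Fin D.rank → Kˣ)
    {S : Fin D.nroots → Prop} (hpos : ∀ r, S r → Φ.toTables.Pos r) (hcl : Φ.Closed S) {u : GL D.Idx K}
    (hu : u ∈ Φ.US K S) (h : ∀ i, Commute (Φ.toAlg.torus (cs i)) u) :
    u ∈ Φ.US K (fun r => S r ∧ ∀ i, Φ.toSys.chi (cs i) r = 1) := by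
  classical
  haveI := Fintype.ofFinite ι
  have key : ∀ s : Finset ι, Φ.Closed (fun r => S r ∧ ∀ i ∈ s, Φ.toSys.chi (cs i) r = 1) ∧
      u ∈ Φ.US K (fun r => S r ∧ ∀ i ∈ s, Φ.toSys.chi (cs i) r = 1) := by
    intro s
    induction s using Finset.induction_on with
    | empty =>
      exact ⟨fun r t hr ht hN => ⟨hcl r t hr.1 ht.1 hN, by simp⟩, Φ.US_mono (fun r hr => ⟨hr, by simp⟩) hu⟩
    | insert i s _ ih =>
      obtain ⟨ihc, ihu⟩ := ih
      refine ⟨fun r t hr ht hN => ⟨hcl r t hr.1 ht.1 hN, fun j hj => ?_⟩, ?_⟩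
      · rw [Φ.toSys.chi_add _ hN, hr.2 j hj, ht.2 j hj, one_mul]
      · refine Φ.US_mono (fun r hr => ⟨hr.1.1, ?_⟩)
          (mem_US_of_commute Φ (fun r hr => hpos r hr.1) ihc ihu (h i))
        intro j hj
        rcases Finset.mem_insert.1 hj with rfl | hj
        · exact hr.2
        · exact hr.1.2 j hj
  exact Φ.US_mono (fun r hr => ⟨hr.1, fun i => hr.2 i (Finset.mem_univ i)⟩) (key Finset.univ).2

theorem chi_pow' {A : Type*} [Field A] (c : Fin D.rank → Aˣ) (n : ℕ) (s : Fin D.nroots) :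
    Φ.toSys.chi (c ^ n) s = Φ.toSys.chi c s ^ n := by
  induction n with
  | zero => simp [Sys.chi]
  | succ n ih => rw [pow_succ, pow_succ, Φ.toSys.chi_mul, ih]

theorem chi_expM {A : Type*} [Field A] {π : Equiv.Perm (Fin D.nroots)} (hπ : π ∈ Φ.WL)
    (c : Fin D.rank → Aˣ) (r : Fin D.nroots) :
    Φ.toSys.chi (expM (Pm Φ π) c) r = Φ.toSys.chi c (π r) := by
  rw [chi_map Φ hπ]
  rfl

theorem chi_rootRefl {A : Type*} [Field A] (b x : Fin D.nroots) (c : Fin D.rank → Aˣ) :
    Φ.toSys.chi c (rootRefl Φ b x) = Φ.toSys.chi c x * (Φ.toSys.chi c b ^ pr Φ b x)⁻¹ := by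
  simp only [Sys.chi, ← Finset.prod_zpow, ← Finset.prod_inv_distrib, ← Finset.prod_mul_distrib]
  refine Finset.prod_congr rfl fun i _ => ?_
  show c i ^ Φ.V (rootRefl Φ b x) i = _
  rw [V_rootRefl, _root_.zpow_sub, ← _root_.zpow_mul, mul_comm (pr Φ b x)]

include Φ in
/-- An `r`-group is conjugate into the split torus when the index is prime to `r`. -/
theorem exists_conj_torus_group {K : Type*} [Field K] [Finite K] {r : ℕ} [Fact r.Prime]
    (hQ : (Nat.card K : ZMod r) = 1) (hW : ¬ r ∣ Nat.card Φ.WL) {P : Subgroup ↥(D.group K)}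
    (hP : IsPGroup r P) :
    ∃ g ∈ D.group K, ∀ y ∈ P, ∃ c, (y : GL D.Idx K) = g * Φ.toAlg.torus c * g⁻¹ ∧
      Φ.toAlg.torus c ∈ D.diagonalSubgroup K := by
  classical
  have hHG : D.diagonalSubgroup K ≤ D.group K := fun h hh => Φ.B_le_group (H_le_B hh)
  set H := (D.diagonalSubgroup K).subgroupOf (D.group K) with hH
  have hidx : H.index = Nat.card K ^ (D.nroots / 2) * ∑ π ∈ Φ.WFin, Nat.card K ^ Φ.inv π := by
    have h1 := H.card_mul_index
    rw [Φ.card_group, Nat.card_congr (Subgroup.subgroupOfEquivOfLe hHG).toEquiv] at h1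
    refine mul_left_cancel₀ (Nat.card_pos (α := D.diagonalSubgroup K)).ne' (h1.trans ?_)
    ring
  have hnd : ¬ r ∣ H.index := by
    rw [← ZMod.natCast_eq_zero_iff, hidx]
    push_cast
    simp only [hQ, one_pow, one_mul, Finset.sum_const, nsmul_eq_mul, mul_one]
    rw [← Nat.subtype_card Φ.WFin (fun π => Φ.mem_WFin)]
    exact fun h0 => hW ((ZMod.natCast_eq_zero_iff _ _).1 (by simpa using h0))
  obtain ⟨z, hz⟩ := hP.nonempty_fixed_point_of_prime_not_dvd_card (↥(D.group K) ⧸ H) hnd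
  obtain ⟨g, rfl⟩ := QuotientGroup.mk_surjective z
  refine ⟨g, g.2, fun y hy => ?_⟩
  have hz' := hz ⟨y, hy⟩
  have hz2 : g⁻¹ * (y * g) ∈ H := (QuotientGroup.eq).1 (show (QuotientGroup.mk g : _ ⧸ H) =
    QuotientGroup.mk (y * g) from hz'.symm)
  have hmem := Subgroup.mem_subgroupOf.1 hz2
  obtain ⟨c, hc⟩ := Φ.exists_torus_of_mem_H hmem
  refine ⟨c, ?_, hc ▸ hmem⟩
  rw [← hc]
  show (y : GL D.Idx K) = (g : GL D.Idx K) * ((g : GL D.Idx K)⁻¹ * (y * g)) * (g : GL D.Idx K)⁻¹
  group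

/-- A torus element of order prime to the index of the torus lies in the group. -/
theorem mem_H_of_coprime {K : Type*} [Field K] [Finite K] {g m : ℕ}
    (hg : g * Nat.card (D.diagonalSubgroup K) = (Nat.card K - 1) ^ D.rank) (hgm : g.Coprime m)
    {c : Fin D.rank → Kˣ} (hc : c ^ m = 1) : Φ.toAlg.torus c ∈ D.diagonalSubgroup K := by
  classical
  set H := (Φ.coHom K).range with hHdef
  have hH : Nat.card H = Nat.card (D.diagonalSubgroup K) := by
    rw [hHdef, Φ.diagonalSubgroup_eq, MonoidHom.range_comp, Subgroup.card_map_of_injective Φ.torus_injective]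
  have hidx : H.index = g := by
    have h1 := H.card_mul_index
    haveI := Fintype.ofFinite K
    rw [Nat.card_fun, Nat.card_units, Nat.card_fin, hH, ← hg] at h1
    exact mul_left_cancel₀ Nat.card_pos.ne' (h1.trans (mul_comm _ _))
  have h2 : c ∈ H := by
    have hco : (orderOf c).Coprime g :=
      (Nat.Coprime.coprime_dvd_right (orderOf_dvd_of_pow_eq_one hc) hgm).symm
    obtain ⟨k, hk⟩ := exists_pow_eq_self_of_coprime hco.symm
    rw [← hk]
    exact pow_mem (hidx ▸ H.pow_index_mem c) k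
  obtain ⟨d, hd⟩ := h2
  rw [Φ.diagonalSubgroup_eq]
  exact ⟨d, by rw [MonoidHom.comp_apply, hd]⟩

theorem pow_congr {G : Type*} [Monoid G] {x : G} {m i j : ℕ} (hx : x ^ m = 1) (h : i % m = j % m) :
    x ^ i = x ^ j := by
  rw [pow_eq_pow_mod i hx, h, ← pow_eq_pow_mod j hx]

include Φ in
/-- The main theorem. -/
theorem sylow_homocyclic {F : Type*} [Field F] [Finite F] {degs : List ℕ} {g : ℕ}
    (hl : degs.length = D.rank) (hg : g * Nat.card (D.diagonalSubgroup F) = (Nat.card F - 1) ^ D.rank)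
    (hgK : ∀ (K : Type) [Field K] [Finite K], ∃ gK : ℕ,
      gK * Nat.card (D.diagonalSubgroup K) = (Nat.card K - 1) ^ D.rank ∧ gK ∣ degs.prod)
    (hgd : g ∣ degs.prod) (hPoin : ∀ x : ℕ, ∑ π ∈ Φ.WFin, x ^ Φ.inv π = Cert.evalP x (Cert.degP degs))
    (hcardW : Nat.card Φ.WL = degs.prod) (h2 : 2 ∣ degs.prod)
    {r : ℕ} [Fact r.Prime] (hrq : ¬ r ∣ Nat.card F) (hrW : ¬ r ∣ degs.prod) (P : Sylow r ↥(D.group F))
    (hrG : r ∣ Nat.card (D.group F)) :
    Nonempty (↥(P : Subgroup ↥(D.group F)) ≃*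
      (Fin (degs.filter (fun e => orderOf (Nat.card F : ZMod r) ∣ e)).length →
        Multiplicative (ZMod (r ^ padicValNat r
          ((Polynomial.cyclotomic (orderOf (Nat.card F : ZMod r)) ℤ).eval (Nat.card F : ℤ)).natAbs)))) := by
  classical
  have hr : r.Prime := Fact.out
  set q := Nat.card F with hq
  have hq2 : 2 ≤ q := Finite.one_lt_card
  rw [padic_cyclotomic hq2 hrq]
  set d := orderOf (q : ZMod r) with hd
  have hd0 : 0 < d := orderOf_pos_of_not_dvd hrq
  haveI : NeZero d := ⟨hd0.ne'⟩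
  set e0 := padicValNat r (q ^ d - 1) with he0def
  set a := (degs.filter fun e => d ∣ e).length with hadef
  have hqd : q ^ d - 1 ≠ 0 := Nat.sub_ne_zero_of_lt (Nat.one_lt_pow hd0.ne' (by omega))
  have he0 : 0 < e0 :=
    one_le_padicValNat_of_dvd hqd ((dvd_pow_sub_one_iff (by omega) d).2 dvd_rfl)
  set m := r ^ e0 with hm
  have hmdvd : m ∣ q ^ d - 1 := pow_padicValNat_dvd
  -- the order of the Sylow subgroup
  have hrg : ¬ r ∣ g := fun h => hrW (h.trans hgd)
  have hr2 : r ≠ 2 := fun h => hrW (h ▸ h2)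
  have hcardP : Nat.card (P : Subgroup ↥(D.group F)) = r ^ (e0 * a) := by
    obtain ⟨hne, hval⟩ := padic_degree_prod hq2 degs hrW
    have hform := Φ.order_formula hl hg hPoin
    have hg0 : g ≠ 0 := fun h => hrg (h ▸ dvd_zero r)
    rw [Sylow.card_eq_multiplicity, Nat.factorization_def _ hr]
    refine congrArg (r ^ ·) ?_
    have h1 := congrArg (padicValNat r) hform
    rw [padicValNat.mul hg0 Nat.card_pos.ne', padicValNat.eq_zero_of_not_dvd hrg, zero_add,
      padicValNat.mul (pow_ne_zero _ (by omega)) hne,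
      padicValNat.eq_zero_of_not_dvd (fun h => hrq (hr.dvd_of_dvd_pow h)), zero_add, hval] at h1
    rw [h1, mul_comm e0]
  -- the extension
  obtain ⟨p0, hp0⟩ := CharP.exists F
  haveI : Fact p0.Prime := ⟨CharP.char_is_prime F p0⟩
  let K := FiniteField.Extension F p0 d
  let f : F →+* K := algebraMap F K
  let σ : K ≃+* K := (FiniteField.Extension.frob F p0 d).toRingEquiv
  have hQK : Nat.card K = q ^ d := FiniteField.natCard_extension F p0 d
  have hσq : ∀ x, σ x = x ^ q := fun x => FiniteField.Extension.frob_apply F p0 d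
  have hσ : ∀ x, σ x = x ↔ x ∈ Set.range f := fun x => by
    rw [hσq]; exact mem_range_iff_pow_card f x
  have hσf : σ.toRingHom.comp f = f := RingHom.ext fun b => (hσ (f b)).2 ⟨b, rfl⟩
  obtain ⟨gK, hgKc, hgKd⟩ := hgK K
  have hcoK : gK.Coprime m :=
    ((hr.coprime_iff_not_dvd.2 fun h => hrW (h.trans hgKd)).symm).pow_right e0
  have hcog : g.Coprime m := ((hr.coprime_iff_not_dvd.2 hrg).symm).pow_right e0
  have hmH : ∀ c : Fin D.rank → Kˣ, c ^ m = 1 → Φ.toAlg.torus c ∈ D.diagonalSubgroup K :=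
    fun c hc => mem_H_of_coprime Φ hgKc hcoK hc
  have hinjf : Function.Injective (Matrix.GeneralLinearGroup.map (n := D.Idx) f) := fun u v h =>
    Units.ext (Matrix.map_injective f.injective (congrArg Units.val h :))
  let ι : ↥(D.group F) →* GL D.Idx K :=
    (Matrix.GeneralLinearGroup.map f).comp (D.group F).subtype
  have hιinj : Function.Injective ι := fun u v h => Subtype.ext (hinjf h)
  have hfix : ∀ y, Matrix.GeneralLinearGroup.map σ.toRingHom (ι y) = ι y := fun y => by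
    conv_rhs => rw [show ι y = Matrix.GeneralLinearGroup.map f (y : GL D.Idx F) from rfl, ← hσf,
      Matrix.GeneralLinearGroup.map_comp]
    rfl
  -- conjugation of the Sylow subgroup into the torus
  let ιK : ↥(D.group F) →* ↥(D.group K) := ι.codRestrict _ fun y => Φ.map_mem_group f y.2
  have hPK : IsPGroup r ((P : Subgroup ↥(D.group F)).map ιK) := P.isPGroup'.map ιK
  have hQ1 : (Nat.card K : ZMod r) = 1 := by
    rw [hQK, Nat.cast_pow, hd, pow_orderOf_eq_one]
  obtain ⟨g0, hg0, hconj⟩ := exists_conj_torus_group Φ hQ1 (hcardW ▸ hrW) hPK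
  have hex : ∀ y : ↥(P : Subgroup ↥(D.group F)), ∃ c, ι y.1 = g0 * Φ.toAlg.torus c * g0⁻¹ ∧
      Φ.toAlg.torus c ∈ D.diagonalSubgroup K := fun y => hconj (ιK y.1) ⟨y.1, y.2, rfl⟩
  choose cy hcy hcyH using hex
  let ψ : (Fin D.rank → Kˣ) →* GL D.Idx K := (MulAut.conj g0).toMonoidHom.comp Φ.toAlg.torus
  have hψinj : Function.Injective ψ := (MulAut.conj g0).injective.comp Φ.torus_injective
  let γ : ↥(P : Subgroup ↥(D.group F)) →* (Fin D.rank → Kˣ) :=
    MonoidHom.mk' cy fun y z => hψinj (by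
      show g0 * _ * g0⁻¹ = g0 * _ * g0⁻¹
      rw [← hcy, map_mul Φ.toAlg.torus]
      show ι (y.1 * z.1) = _
      rw [map_mul, hcy y, hcy z]
      group)
  have hγinj : Function.Injective γ := fun y z h => Subtype.ext (hιinj (by
    rw [hcy y, hcy z]
    exact congrArg (fun c => g0 * Φ.toAlg.torus c * g0⁻¹) h))
  have hcym : ∀ y, cy y ^ m = 1 := fun y => by
    obtain ⟨k, hk⟩ := P.isPGroup' y
    funext i
    have h1 : cy y i ^ r ^ k = 1 := congrFun ((map_pow γ y _).symm.trans ((congrArg γ hk).trans (map_one γ))) i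
    obtain ⟨j, -, hj⟩ := (Nat.dvd_prime_pow hr).1 (orderOf_dvd_of_pow_eq_one h1)
    have h2 : orderOf (cy y i) ∣ q ^ d - 1 := by
      rw [← hQK, ← Nat.card_units K]
      exact orderOf_dvd_natCard _
    rw [hj] at h2
    have hje : j ≤ e0 := (padicValNat_dvd_iff_le hqd).1 h2
    show cy y i ^ m = 1
    rw [← orderOf_dvd_iff_pow_eq_one, hj]
    exact Nat.pow_dvd_pow r hje
  letI hPc : CommGroup ↥(P : Subgroup ↥(D.group F)) :=
    { (inferInstance : Group ↥(P : Subgroup ↥(D.group F))) with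
      mul_comm := fun y z => hγinj (by rw [map_mul, map_mul, mul_comm]) }
  -- the twisting element
  set w := g0⁻¹ * Matrix.GeneralLinearGroup.map σ.toRingHom g0 with hwd
  have hwG : w ∈ D.group K := mul_mem (inv_mem hg0) (Φ.map_mem_group _ hg0)
  have hmapT : ∀ c : Fin D.rank → Kˣ, Matrix.GeneralLinearGroup.map σ.toRingHom (Φ.toAlg.torus c) =
      Φ.toAlg.torus (c ^ q) := fun c => by
    rw [map_torus]
    congr 1
    funext i
    exact Units.ext (by simpa using hσq (c i))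
  have hconjfix : ∀ c : Fin D.rank → Kˣ,
      Matrix.GeneralLinearGroup.map σ.toRingHom (g0 * Φ.toAlg.torus c * g0⁻¹) = g0 * Φ.toAlg.torus c * g0⁻¹ ↔
        Φ.toAlg.torus c * w = w * Φ.toAlg.torus (c ^ q) := fun c => by
    rw [map_mul, map_mul, map_inv, hmapT,
      show Matrix.GeneralLinearGroup.map σ.toRingHom g0 = g0 * w by rw [hwd]; group]
    constructor
    · intro h
      calc Φ.toAlg.torus c * w = g0⁻¹ * (g0 * Φ.toAlg.torus c * g0⁻¹) * (g0 * w) := by group
        _ = _ := by rw [← h]; group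
    · intro h
      calc g0 * w * Φ.toAlg.torus (c ^ q) * (g0 * w)⁻¹
          = g0 * (w * Φ.toAlg.torus (c ^ q)) * (g0 * w)⁻¹ := by group
        _ = _ := by rw [← h]; group
  have hrel : ∀ y, Φ.toAlg.torus (cy y) * w = w * Φ.toAlg.torus (cy y ^ q) := fun y =>
    (hconjfix _).1 (by rw [← hcy]; exact hfix _)
  obtain ⟨b, hb, n, hn, π, hπ, hmono, u, hu, hw⟩ := Φ.exists_normal_form hwG
  obtain ⟨v, hv, x, hx, rfl⟩ := Φ.mem_B_iff.1 hb
  have hpowm : ∀ (c : Fin D.rank → Kˣ) (i : ℕ), c ^ m = 1 → (c ^ i) ^ m = 1 := fun c i hc => by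
    rw [← pow_mul, mul_comm, pow_mul, hc, one_pow]
  have hparts : ∀ y, n * Φ.toAlg.torus (cy y ^ q) * n⁻¹ = Φ.toAlg.torus (cy y) ∧
      Commute (Φ.toAlg.torus (cy y)) v ∧ Commute (Φ.toAlg.torus (cy y ^ q)) u := fun y =>
    twist_of_normal_form Φ (hcyH y) (hmH _ (hpowm _ q (hcym y))) hv hx hn hmono hu (hw ▸ hrel y)
  have hvZ : v ∈ Φ.US K (fun s => Φ.toTables.Pos s ∧ ∀ y, Φ.toSys.chi (cy y) s = 1) := by
    rw [Φ.posUnipotent_eq_US] at hv
    exact mem_US_forall Φ cy (fun s hs => hs) Φ.closed_pos hv fun y => (hparts y).2.1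
  have huZ : u ∈ Φ.US K (fun s => (Φ.toTables.Pos s ∧ ¬ Φ.toTables.Pos (π s)) ∧
      ∀ y, Φ.toSys.chi (cy y ^ q) s = 1) :=
    mem_US_forall Φ (fun y => cy y ^ q) (fun s hs => hs.1) (Φ.closed_pos_neg hπ) hu fun y => (hparts y).2.2
  have hcopq : (m : ℕ).Coprime q := (hr.coprime_iff_not_dvd.2 hrq).pow_left e0
  -- the group acting on the torsion of the torus
  let act : ↥Φ.WL × Multiplicative (ZMod d) → (Fin D.rank → Kˣ) → (Fin D.rank → Kˣ) := fun t c =>
    expM (Pm Φ (t.1.1)⁻¹) c ^ q ^ (t.2.toAdd).val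
  have hqm : ∀ i : ℕ, q ^ i % m = q ^ (i % d) % m := by
    have h1 : q ^ d ≡ 1 [MOD m] := ((Nat.modEq_iff_dvd' (Nat.one_le_pow _ _ (by omega))).2 hmdvd).symm
    intro i
    conv_lhs => rw [← Nat.div_add_mod i d, pow_add, pow_mul]
    have h2 := (h1.pow (i / d)).mul_right (q ^ (i % d))
    rw [one_pow, one_mul] at h2
    exact h2
  have hexpm : ∀ (X : Matrix (Fin D.rank) (Fin D.rank) ℤ) (c : Fin D.rank → Kˣ), c ^ m = 1 →
      expM X c ^ m = 1 := fun X c hc => by rw [← map_pow, hc, map_one]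
  have hactm : ∀ t c, c ^ m = 1 → act t c ^ m = 1 := fun t c hc => hpowm _ _ (hexpm _ _ hc)
  have hact_mul : ∀ t t' c, c ^ m = 1 → act (t * t') c = act t (act t' c) := fun t t' c hc => by
    simp only [act, map_pow, ← expM_mul, ← pow_mul, ← pow_add, Prod.fst_mul, Prod.snd_mul, toAdd_mul,
      Subgroup.coe_mul, _root_.mul_inv_rev, Pm_mul Φ (inv_mem t'.1.2)]
    refine pow_congr (hexpm _ _ hc) ?_
    rw [ZMod.val_add, ← hqm, add_comm]
  have hact_one : ∀ c, act 1 c = c := fun c => by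
    simp [act, Pm_one, expM_one]
  have hact_map : ∀ t c c', act t (c * c') = act t c * act t c' := fun t c c' => by
    simp only [act, map_mul, mul_pow]
  let Γ : Subgroup (↥Φ.WL × Multiplicative (ZMod d)) :=
    { carrier := {t | ∀ y, act t (cy y) = cy y}
      one_mem' := fun y => hact_one _
      mul_mem' := fun {t t'} ht ht' y => by rw [hact_mul t t' _ (hcym y), ht' y, ht y]
      inv_mem' := fun {t} ht y => by
        conv_lhs => rw [← ht y, ← hact_mul _ _ _ (hcym y), inv_mul_cancel, hact_one] }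
  have hΓr : ¬ r ∣ Nat.card Γ := fun h => by
    have h1 := h.trans (Subgroup.card_subgroup_dvd_card Γ)
    rw [Nat.card_prod, Nat.card_congr Multiplicative.toAdd, Nat.card_zmod, hcardW] at h1
    rcases hr.dvd_mul.1 h1 with h1 | h1
    · exact hrW h1
    · exact not_dvd_orderOf hrq h1
  -- the fixed points
  let A0 : Subgroup (Fin D.rank → Kˣ) :=
    { carrier := {c | c ^ m = 1 ∧ ∀ t ∈ Γ, act t c = c}
      one_mem' := ⟨one_pow m, fun t _ => by simp [act]⟩
      mul_mem' := fun {c c'} hc hc' => ⟨by rw [mul_pow, hc.1, hc'.1, one_mul],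
        fun t ht => by rw [hact_map, hc.2 t ht, hc'.2 t ht]⟩
      inv_mem' := fun {c} hc => ⟨by rw [inv_pow, hc.1, _root_.inv_one], fun t ht => by
        simp only [act, map_inv, inv_pow]
        exact congrArg (·⁻¹) (hc.2 t ht)⟩ }
  have hcyA : ∀ y, cy y ∈ A0 := fun y => ⟨hcym y, fun t ht => ht y⟩
  -- the two conditions satisfied by the fixed points
  have hpiA : ∀ c ∈ A0, ∀ s, Φ.toSys.chi c (π s) = Φ.toSys.chi (c ^ q) s := by
    have hval : q ^ (((-1 : ZMod d)).val + 1) % m = 1 % m := by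
      rw [hqm]
      have : ((-1 : ZMod d).val + 1) % d = 0 := by
        rw [← Nat.dvd_iff_mod_eq_zero, ← ZMod.natCast_eq_zero_iff]
        push_cast
        rw [ZMod.natCast_rightInverse _, neg_add_cancel]
      rw [this, pow_zero]
    set t : ↥Φ.WL × Multiplicative (ZMod d) := (⟨π⁻¹, inv_mem hπ⟩, Multiplicative.ofAdd (-1)) with ht
    have htact : ∀ c, c ^ m = 1 → (act t c = c ↔ expM (Pm Φ π) c = c ^ q) := fun c hc => by
      have e : act t c = expM (Pm Φ π) c ^ q ^ (-1 : ZMod d).val := by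
        simp [act, ht]
      rw [e]
      constructor
      · intro h
        conv_rhs => rw [← h, ← pow_mul, ← pow_succ]
        rw [pow_congr (hexpm _ _ hc) hval, pow_one]
      · intro h
        rw [h, ← pow_mul, ← pow_succ', pow_congr hc hval, pow_one]
    have htΓ : t ∈ Γ := fun y => (htact _ (hcym y)).2 (funext fun k => by
      rw [← Φ.toSys.chi_simple (cy y ^ q) k]
      exact (conj_torus_iff_of_mem Φ hn hmono (cy y) (cy y ^ q) (hmH _ (hpowm _ q (hcym y)))).1
        (hparts y).1 (Φ.p k))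
    intro c hc s
    rw [← chi_expM Φ hπ, (htact c hc.1).1 (hc.2 t htΓ)]
  have hrootA : ∀ c ∈ A0, ∀ s, (∀ y, Φ.toSys.chi (cy y) s = 1) → Φ.toSys.chi c s = 1 := by
    intro c hc s hs
    set t : ↥Φ.WL × Multiplicative (ZMod d) := (⟨rootRefl Φ s, rootRefl_mem Φ s⟩, 1) with ht
    have htact : ∀ c', act t c' = expM (Pm Φ (rootRefl Φ s)) c' := fun c' => by
      simp [act, ht, rootRefl_inv]
    have htΓ : t ∈ Γ := fun y => by
      rw [htact]
      funext k
      rw [← Φ.toSys.chi_simple (expM _ _) k, chi_expM Φ (rootRefl_mem Φ s), chi_rootRefl, hs y,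
        _root_.one_zpow, _root_.inv_one, mul_one, Φ.toSys.chi_simple]
    have h1 : Φ.toSys.chi c (rootRefl Φ s s) = Φ.toSys.chi c s := by
      rw [← chi_expM Φ (rootRefl_mem Φ s), ← htact, hc.2 t htΓ]
    rw [rootRefl_self, Φ.toSys.chi_neg] at h1
    have h3 : Φ.toSys.chi c s ^ 2 = 1 := by
      rw [pow_two]
      nth_rewrite 1 [← h1]
      rw [inv_mul_cancel]
    have h4 : Φ.toSys.chi c s ^ m = 1 := by
      rw [Sys.chi, ← Finset.prod_pow]
      refine Finset.prod_eq_one fun i _ => ?_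
      rw [← zpow_natCast, ← _root_.zpow_mul, mul_comm, _root_.zpow_mul, zpow_natCast,
        show c i ^ m = 1 from congrFun hc.1 i, _root_.one_zpow]
    have hco : Nat.gcd 2 m = 1 :=
      ((Nat.prime_two.coprime_iff_not_dvd).2 fun h => hr2 (((Nat.prime_dvd_prime_iff_eq Nat.prime_two hr).1
        (Nat.prime_two.dvd_of_dvd_pow h)).symm))
    have h7 := pow_gcd_eq_one.2 ⟨h3, h4⟩
    rwa [hco, pow_one] at h7
  -- the fixed points lie in the finite group
  have hA0fix : ∀ c ∈ A0, Matrix.GeneralLinearGroup.map σ.toRingHom (ψ c) = ψ c := by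
    intro c hc
    refine (hconjfix c).2 ?_
    have hcq : Φ.toAlg.torus (c ^ q) ∈ D.diagonalSubgroup K := hmH _ (hpowm _ q hc.1)
    have e1 := (conj_torus_iff_of_mem Φ hn hmono c (c ^ q) hcq).2 (hpiA c hc)
    have e2 : Commute (Φ.toAlg.torus c) v :=
      commute_of_mem_US Φ (fun s hs => hrootA c hc s hs.2) hvZ
    have e3 : Commute (Φ.toAlg.torus (c ^ q)) u := by
      refine commute_of_mem_US Φ (fun s hs => ?_) huZ
      rw [chi_pow' Φ c q s, hrootA c hc s fun y => ?_, one_pow]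
      have h5 := hs.2 y
      rw [chi_pow' Φ (cy y) q s] at h5
      have h6 : Φ.toSys.chi (cy y) s ^ m = 1 := by
        rw [← chi_pow' Φ, hcym y]
        simp [Sys.chi]
      have h7 := pow_gcd_eq_one.2 ⟨h6, h5⟩
      rwa [show Nat.gcd m q = 1 from hcopq, pow_one] at h7
    have e4 : Commute (Φ.toAlg.torus c) x := Φ.H_comm (hmH c hc.1) hx
    rw [hw]
    calc Φ.toAlg.torus c * (v * x * n * u) = (Φ.toAlg.torus c * (v * x)) * n * u := by group
      _ = v * x * Φ.toAlg.torus c * n * u := by rw [(e2.mul_right e4).eq]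
      _ = v * x * n * (Φ.toAlg.torus (c ^ q) * u) := by rw [← e1]; group
      _ = _ := by rw [e3.eq]; group
  have hA0pow : ∀ c ∈ A0, ∃ c' ∈ A0, c' ^ g = c := fun c hc => by
    obtain ⟨k, hk⟩ := exists_pow_eq_self_of_coprime
      (Nat.Coprime.coprime_dvd_right (orderOf_dvd_of_pow_eq_one hc.1) hcog)
    exact ⟨c ^ k, pow_mem hc k, by rw [← pow_mul, mul_comm, pow_mul, hk]⟩
  have hsub : A0.map ψ ≤ ι.range := by
    rintro _ ⟨c, hc, rfl⟩
    obtain ⟨c', hc', rfl⟩ := hA0pow c hc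
    have hG : ψ c' ∈ D.group K :=
      mul_mem (mul_mem hg0 (Φ.B_le_group (H_le_B (hmH c' hc'.1)))) (inv_mem hg0)
    obtain ⟨z, hz, hzc⟩ := exists_pow_of_fixed Φ hg σ f hσ hG (hA0fix c' hc')
    exact ⟨⟨z, hz⟩, by rw [map_pow]; exact hzc⟩
  have hRcard : Nat.card A0 ≤ r ^ (e0 * a) := by
    set R := (A0.map ψ).comap ι with hR
    have h1 : Nat.card R = Nat.card A0 := by
      rw [Nat.card_congr (A0.equivMapOfInjective ψ hψinj).toEquiv,
        Nat.card_congr (R.equivMapOfInjective ι hιinj).toEquiv, hR, Subgroup.map_comap_eq_self hsub]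
    have hRp : IsPGroup r R := fun z => by
      refine ⟨e0, Subtype.ext (hιinj ?_)⟩
      obtain ⟨c, hc, hcz⟩ := z.2
      show ι ((z : ↥(D.group F)) ^ r ^ e0) = ι 1
      rw [map_pow, map_one, ← hcz, ← map_pow, hc.1, map_one]
    obtain ⟨S, hS⟩ := hRp.exists_le_sylow
    rw [← h1, ← hcardP, Sylow.card_eq_multiplicity P, ← Sylow.card_eq_multiplicity S]
    exact Subgroup.card_le_of_le hS
  -- lifting the socle
  let Aj : ℕ → Subgroup (Fin D.rank → Kˣ) := fun j =>
    A0 ⊓ (powMonoidHom (r ^ j) : (Fin D.rank → Kˣ) →* _).ker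
  obtain ⟨ζ, hζ⟩ := IsCyclic.exists_generator (α := Kˣ)
  have hoζ : orderOf ζ = q ^ d - 1 := by
    rw [orderOf_eq_card_of_forall_mem_zpowers hζ, Nat.card_units, hQK]
  obtain ⟨t0, ht0⟩ := hmdvd
  have hlift : ∀ c ∈ Aj 1, ∀ j < e0, ∃ z ∈ Aj (j + 1), z ^ r ^ j = c := by
    intro c hc j hj
    obtain ⟨hcA, hcr⟩ := hc
    have hroot : ∀ i, ∃ y : Kˣ, y ^ m = 1 ∧ y ^ r ^ (e0 - 1) = c i := fun i => by
      obtain ⟨z, hz⟩ := Subgroup.mem_zpowers_iff.1 (hζ (c i))
      have h1 : c i ^ r = 1 := by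
        have := congrFun (MonoidHom.mem_ker.1 hcr) i
        simpa using this
      rw [← hz, ← zpow_natCast, ← _root_.zpow_mul, ← orderOf_dvd_iff_zpow_eq_one, hoζ, ht0, hm,
        show r ^ e0 = r ^ (e0 - 1) * r by rw [← pow_succ, Nat.sub_add_cancel he0]] at h1
      push_cast at h1
      obtain ⟨z', hz'⟩ := h1
      have hzeq : z = (r : ℤ) ^ (e0 - 1) * t0 * z' :=
        mul_right_cancel₀ (Int.natCast_ne_zero.2 hr.ne_zero) (hz'.trans (by ring))
      refine ⟨ζ ^ ((t0 : ℤ) * z'), ?_, ?_⟩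
      · rw [← zpow_natCast, ← _root_.zpow_mul, ← orderOf_dvd_iff_zpow_eq_one, hoζ, ht0]
        exact ⟨z', by push_cast; ring⟩
      · rw [← zpow_natCast, ← _root_.zpow_mul, ← hz, hzeq]
        congr 1
        push_cast
        ring
    choose y hy1 hy2 using hroot
    have hy : y ^ m = 1 := funext hy1
    have hyc : y ^ r ^ (e0 - 1) = c := funext hy2
    let actHom : Γ → ((Fin D.rank → Kˣ) →* (Fin D.rank → Kˣ)) := fun t =>
      MonoidHom.mk' (act t.1) (hact_map t.1)
    have hNfix : ∀ t ∈ Γ, act t (∏ s : Γ, act s.1 y) = ∏ s : Γ, act s.1 y := fun t ht => by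
      rw [show act t (∏ s : Γ, act s.1 y) = actHom ⟨t, ht⟩ (∏ s : Γ, act s.1 y) from rfl, map_prod]
      refine Fintype.prod_equiv (Equiv.mulLeft (⟨t, ht⟩ : Γ)) _ _ fun s => ?_
      show act t (act s.1 y) = act (t * s.1) y
      rw [hact_mul _ _ _ hy]
    set N := ∏ s : Γ, act s.1 y with hN
    have hNm : N ^ m = 1 := by
      rw [hN, ← Finset.prod_pow]
      exact Finset.prod_eq_one fun s _ => hactm _ _ hy
    have hNpow : N ^ r ^ (e0 - 1) = c ^ Nat.card Γ := by
      rw [hN, ← Finset.prod_pow, Finset.prod_congr rfl fun (s : Γ) _ =>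
        show act s.1 y ^ r ^ (e0 - 1) = c from by
          rw [show act s.1 y = actHom s y from rfl, ← map_pow, hyc]; exact hcA.2 s.1 s.2]
      rw [Finset.prod_const, Finset.card_univ, Nat.card_eq_fintype_card]
    have hord : orderOf c ∣ r := orderOf_dvd_of_pow_eq_one (by simpa using MonoidHom.mem_ker.1 hcr)
    obtain ⟨k, hk⟩ := exists_pow_eq_self_of_coprime (x := c) (n := Nat.card Γ)
      (Nat.Coprime.coprime_dvd_right hord (hr.coprime_iff_not_dvd.2 hΓr).symm)
    have hNA : N ∈ A0 := ⟨hNm, hNfix⟩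
    refine ⟨(N ^ k) ^ r ^ (e0 - 1 - j), ⟨pow_mem (pow_mem hNA k) _, ?_⟩, ?_⟩
    · show ((N ^ k) ^ r ^ (e0 - 1 - j)) ^ r ^ (j + 1) = 1
      rw [← pow_mul, ← pow_add,
        show e0 - 1 - j + (j + 1) = e0 by omega, ← pow_mul, mul_comm, pow_mul, hNm, one_pow]
    · rw [← pow_mul, ← pow_add, show e0 - 1 - j + j = e0 - 1 by omega, ← pow_mul, mul_comm, pow_mul, hNpow,
        hk]
  have hgrow : ∀ j ≤ e0, Nat.card (Aj 1) ^ j ≤ Nat.card (Aj j) := by
    intro j
    induction j with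
    | zero => intro _; rw [pow_zero]; exact Nat.card_pos
    | succ j ih =>
      intro hj
      set φ : Aj (j + 1) →* (Fin D.rank → Kˣ) :=
        (powMonoidHom (r ^ j) : (Fin D.rank → Kˣ) →* _).comp (Subgroup.subtype _) with hφ
      have h1 : Nat.card (Aj 1) ≤ Nat.card φ.range := Subgroup.card_le_of_le fun c hc => by
        obtain ⟨z, hz, hzc⟩ := hlift c hc j (by omega)
        exact ⟨⟨z, hz⟩, hzc⟩
      have h2 : Nat.card (Aj j) ≤ Nat.card φ.ker := by
        refine Nat.card_le_card_of_injective (fun z => (⟨⟨z.1, ⟨z.2.1, ?_⟩⟩, z.2.2⟩ : φ.ker))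
          fun z z' h => Subtype.ext (congrArg (fun u => u.1.1) h :)
        show z.1 ^ r ^ (j + 1) = 1
        rw [pow_succ, pow_mul,
          show z.1 ^ r ^ j = 1 from z.2.2, one_pow]
      rw [pow_succ', ← φ.ker.index_mul_card, Subgroup.index_ker]
      exact Nat.mul_le_mul h1 ((ih (by omega)).trans h2)
  have hE : Nat.card (Aj 1) ≤ r ^ a := by
    refine (Nat.pow_le_pow_iff_left he0.ne').1 (le_trans (hgrow e0 le_rfl) ?_)
    rw [← pow_mul, mul_comm a]
    exact le_trans (Subgroup.card_le_of_le inf_le_left) hRcard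
  refine homocyclic_of_card he0 (fun y => hγinj (by rw [map_pow, map_one]; exact hcym y)) hcardP ?_
  refine le_trans (Nat.card_le_card_of_injective (fun y => (⟨cy y.1, hcyA y.1, ?_⟩ : Aj 1))
    fun y y' h => Subtype.ext (hγinj (congrArg Subtype.val h :))) hE
  show cy y.1 ^ r ^ 1 = 1
  rw [pow_one]
  exact (map_pow γ y.1 r).symm.trans ((congrArg γ (MonoidHom.mem_ker.1 y.2)).trans (map_one γ))

end CfsgLib.CoxTorus
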