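import Cfsg.Agent.Lib.CoxTorus.Main
import Cfsg.Agent.Lib.CoxTorus.SylowHom
import Cfsg.Agent.Lib.CoxTorus.E6Cover
import Cfsg.Agent.Lib.CoxTorus.Inst

/-!
A self-centralizing cyclic subgroup of order `Φ₁₂(q)Φ₃(q)/(3, q-1)` in the Chevalley group of type E6.
-/

set_option autoImplicit false
set_option linter.dupNamespace false
set_option linter.unusedSectionVars false
set_option maxRecDepth 100000
set_option maxHeartbeats 1600000

namespace CfsgLib.CoxTorus

open Cfsg.Lie Matrix Polynomial CfsgLib.Chev CfsgLib.Chev.Chev CfsgLib.InvTorus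

section Variants

variable {D : ChevalleyDatum} (Φ : Chev D) {K : Type*} [Field K]

/-- The normal form of an element intertwining two torus elements of the group. -/
theorem twist_parts_of_mem {c d : Fin D.rank → Kˣ} (hc : Φ.toAlg.torus c ∈ D.diagonalSubgroup K)
    (hd : Φ.toAlg.torus d ∈ D.diagonalSubgroup K) {a : GL D.Idx K} (ha : a ∈ D.group K)
    (h : Φ.toAlg.torus c * a = a * Φ.toAlg.torus d) :
    ∃ n ∈ D.monomialSubgroup K, ∃ π ∈ Φ.WL, Φ.Mono n π ∧
      (∀ r, Φ.toSys.chi c (π r) = Φ.toSys.chi d r) ∧ Commute (Φ.toAlg.torus c) (a * n⁻¹) := by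
  obtain ⟨b, hb, n, hn, π, hπ, hm, u, hu, rfl⟩ := Φ.exists_normal_form ha
  obtain ⟨v, hv, x, hx, rfl⟩ := Φ.mem_B_iff.1 hb
  obtain ⟨e, -, -⟩ := twist_of_normal_form Φ hc hd hv hx hn hm hu h
  refine ⟨n, hn, π, hπ, hm, (conj_torus_iff_of_mem Φ hn hm c d hd).1 e, ?_⟩
  show _ * (v * x * n * u * n⁻¹) = v * x * n * u * n⁻¹ * _
  calc Φ.toAlg.torus c * (v * x * n * u * n⁻¹) = Φ.toAlg.torus c * (v * x * n * u) * n⁻¹ := by group
    _ = v * x * n * u * Φ.toAlg.torus d * n⁻¹ := by rw [h]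
    _ = v * x * n * u * n⁻¹ * (n * Φ.toAlg.torus d * n⁻¹) := by group
    _ = _ := by rw [e]

/-- The centralizer of a regular element of the diagonal subgroup. -/
theorem mem_H_of_regular_mem {c : Fin D.rank → Kˣ} (hc : Φ.toAlg.torus c ∈ D.diagonalSubgroup K)
    (hreg : ∀ r, Φ.toSys.chi c r ≠ 1)
    (hst : ∀ π ∈ Φ.WL, (∀ r, Φ.toSys.chi c (π r) = Φ.toSys.chi c r) → π = 1)
    {g : GL D.Idx K} (hg : g ∈ D.group K) (h : Commute (Φ.toAlg.torus c) g) :
    g ∈ D.diagonalSubgroup K := by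
  have hbot : ∀ {S : Fin D.nroots → Prop} {u : GL D.Idx K},
      u ∈ Φ.US K (fun r => S r ∧ Φ.toSys.chi c r = 1) → u = 1 := by
    intro S u hu
    have : Φ.US K (fun r => S r ∧ Φ.toSys.chi c r = 1) ≤ ⊥ := by
      rw [US, Subgroup.closure_le]
      rintro _ ⟨r, t, hr, rfl⟩
      exact absurd hr.2 (hreg r)
    exact Subgroup.mem_bot.1 (this hu)
  obtain ⟨v, hv, x, hx, n, hn, π, hπ, hm, hcπ, u, hu, rfl⟩ := commute_parts Φ hc hg h
  obtain rfl := hst π hπ hcπ
  rw [hbot hv, hbot hu, one_mul, mul_one]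
  exact mul_mem hx (Φ.mem_H_of_mono_one hn hm)

/-- A power by the index of the torus lies in the group. -/
theorem pow_index_mem_H [Finite K] {g : ℕ}
    (hg : g * Nat.card (D.diagonalSubgroup K) = (Nat.card K - 1) ^ D.rank) (a : Fin D.rank → Kˣ) :
    Φ.toAlg.torus (a ^ g) ∈ D.diagonalSubgroup K := by
  classical
  set H := (Φ.coHom K).range with hHdef
  have hH : Nat.card H = Nat.card (D.diagonalSubgroup K) := by
    rw [hHdef, Φ.diagonalSubgroup_eq, MonoidHom.range_comp,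
      Subgroup.card_map_of_injective Φ.torus_injective]
  have hidx : H.index = g := by
    have h1 := H.card_mul_index
    haveI := Fintype.ofFinite K
    rw [Nat.card_fun, Nat.card_units, Nat.card_fin, hH, ← hg] at h1
    exact mul_left_cancel₀ Nat.card_pos.ne' (h1.trans (mul_comm _ _))
  obtain ⟨d, hd⟩ := (hidx ▸ H.pow_index_mem a : a ^ g ∈ H)
  rw [Φ.diagonalSubgroup_eq]
  exact ⟨d, by rw [MonoidHom.comp_apply, hd]⟩

/-- Few elements of prime order in the twisted kernel when the characteristic polynomial is separable. -/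
theorem card_torsion_le_of_separable {r : ℕ} [Finite K] {p : ℕ} [Fact p.Prime] (P : Matrix (Fin r) (Fin r) ℤ)
    (hP : (P.charpoly.map (Int.castRingHom (ZMod p))).Separable) (q : ℤ) (hpK : p ∣ Nat.card Kˣ) :
    Nat.card (powMonoidHom p : (expM (A := Kˣ) (Matrix.scalar (Fin r) q - P)).ker →* _).ker ≤ p := by
  classical
  obtain ⟨η, hη⟩ := exists_prime_orderOf_dvd_card' p hpK
  have hprim : IsPrimitiveRoot η p := IsPrimitiveRoot.iff_orderOf.2 hη
  haveI : NeZero p := ⟨(Fact.out : p.Prime).ne_zero⟩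
  have hmem : ∀ u : Kˣ, u ^ p = 1 → ∃ z : ℤ, η ^ z = u := fun u hu => by
    have : u ∈ Subgroup.zpowers η := by
      rw [hprim.zpowers_eq, mem_rootsOfUnity]
      exact hu
    exact Subgroup.mem_zpowers_iff.1 this
  set T := Matrix.scalar (Fin r) q - P with hT
  set Pp : Matrix (Fin r) (Fin r) (ZMod p) := P.map (Int.castRingHom (ZMod p)) with hPp
  let S := (powMonoidHom p : (expM (A := Kˣ) T).ker →* _).ker
  have hpow : ∀ (d : S) (k : Fin r), (d.1.1 k) ^ p = 1 := fun d k => by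
    have h := congrArg (fun x : (expM (A := Kˣ) T).ker => x.1 k) (MonoidHom.mem_ker.1 d.2)
    simpa using h
  choose y hy using fun (d : S) (k : Fin r) => hmem _ (hpow d k)
  let E := Module.End.eigenspace (Matrix.toLin' Pp) (q : ZMod p)
  have hmapsto : ∀ d : S, (fun k => (y d k : ZMod p)) ∈ E := fun d => by
    rw [Module.End.mem_eigenspace_iff, Matrix.toLin'_apply]
    funext k
    have h := congrFun (MonoidHom.mem_ker.1 d.1.2) k
    have h' : η ^ (∑ j, T k j * y d j) = 1 := by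
      refine Eq.trans ?_ h
      rw [expM_apply]
      simp only [← hy, ← _root_.zpow_mul, mul_comm (T k _)]
      induction (Finset.univ : Finset (Fin r)) using Finset.induction_on with
      | empty => simp
      | insert j s hj ih => rw [Finset.prod_insert hj, Finset.sum_insert hj, _root_.zpow_add, ih]
    rw [← orderOf_dvd_iff_zpow_eq_one, hη, ← ZMod.intCast_zmod_eq_zero_iff_dvd] at h'
    push_cast at h'
    simp only [hT, Matrix.sub_apply, Matrix.scalar_apply, Matrix.diagonal_apply, Int.cast_sub, sub_mul,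
      Finset.sum_sub_distrib, apply_ite (fun z : ℤ => (z : ZMod p)), Int.cast_zero, ite_mul, zero_mul,
      Finset.sum_ite_eq, Finset.mem_univ, if_true, sub_eq_zero] at h'
    simp only [Matrix.mulVec, dotProduct, hPp, Matrix.map_apply, Pi.smul_apply, smul_eq_mul,
      eq_intCast, h']
  refine (Nat.card_le_card_of_injective (fun d : S => (⟨_, hmapsto d⟩ : E)) fun d d' h => ?_).trans ?_
  · refine Subtype.ext (Subtype.ext (funext fun k => ?_))
    have hk : (y d k : ZMod p) = (y d' k : ZMod p) := congrFun (congrArg (fun u : E => u.1) h) k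
    rw [← hy d k, ← hy d' k, zpow_eq_zpow_iff_modEq, hη]
    exact (ZMod.intCast_eq_intCast_iff _ _ _).1 hk
  · have h1 := LinearMap.finrank_eigenspace_le (Matrix.toLin' Pp) (q : ZMod p)
    rw [Matrix.charpoly_toLin', hPp, Matrix.charpoly_map] at h1
    have h2 := h1.trans (rootMultiplicity_le_one_of_separable hP _)
    rw [Module.natCard_eq_pow_finrank (K := ZMod p), Nat.card_zmod]
    calc p ^ Module.finrank (ZMod p) E ≤ p ^ 1 := Nat.pow_le_pow_right (Fact.out : p.Prime).pos h2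
      _ = p := pow_one p

end Variants

namespace E6

theorem eval_twelve (q : ℤ) : (cyclotomic 12 ℤ).eval q = q ^ 4 - q ^ 2 + 1 := by
  simp [cyclotomic_twelve]

theorem eval_three (q : ℤ) : (cyclotomic 3 ℤ).eval q = q ^ 2 + q + 1 := by
  simp [cyclotomic_three]

/-- The product of the two cyclotomic values. -/
def tor (q : ℕ) : ℕ := (q ^ 4 - q ^ 2 + 1) * (q ^ 2 + q + 1)

theorem sq_le_four (q : ℕ) : q ^ 2 ≤ q ^ 4 := by
  rcases Nat.eq_zero_or_pos q with rfl | h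
  · simp
  · exact Nat.pow_le_pow_right h (by norm_num)

theorem tor_cast (q : ℕ) : (tor q : ℤ) = (cyclotomic 12 ℤ * cyclotomic 3 ℤ).eval (q : ℤ) := by
  rw [eval_mul, eval_twelve, eval_three, tor]
  push_cast [Nat.cast_sub (sq_le_four q)]
  ring

theorem twelve_mod (q : ℕ) : (q ^ 4 - q ^ 2 + 1) % 3 = 1 ∧ (q ^ 4 - q ^ 2 + 1) % 2 = 1 := by
  have key3 : ∀ r < 3, ((r ^ 4 + 1) + 2 * r ^ 2) % 3 = 1 := by decide
  have key2 : ∀ r < 2, ((r ^ 4 + 1) + r ^ 2) % 2 = 1 := by decide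
  have h := sq_le_four q
  have h3 : (q ^ 4 + 1 + 2 * q ^ 2) % 3 = 1 := by
    have := key3 _ (Nat.mod_lt q (by norm_num : 3 > 0))
    simpa [Nat.add_mod, Nat.pow_mod, Nat.mul_mod] using this
  have h2 : (q ^ 4 + 1 + q ^ 2) % 2 = 1 := by
    have := key2 _ (Nat.mod_lt q (by norm_num : 2 > 0))
    simpa [Nat.add_mod, Nat.pow_mod, Nat.mul_mod] using this
  omega

theorem tor_mod (q : ℕ) : ¬ 2 ∣ tor q ∧ ¬ 9 ∣ tor q ∧ (3 ∣ tor q ↔ q % 3 = 1) := by
  obtain ⟨h3, h2⟩ := twelve_mod q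
  have k9 : ∀ r < 9, (r ^ 2 + r + 1) % 9 ≠ 0 := by decide
  have k3 : ∀ r < 3, ((r ^ 2 + r + 1) % 3 = 0 ↔ r = 1) := by decide
  have k2 : ∀ r < 2, (r ^ 2 + r + 1) % 2 = 1 := by decide
  have e9 : (q ^ 2 + q + 1) % 9 ≠ 0 := by
    have := k9 _ (Nat.mod_lt q (by norm_num : 9 > 0))
    simpa [Nat.add_mod, Nat.pow_mod] using this
  have e3 : (q ^ 2 + q + 1) % 3 = 0 ↔ q % 3 = 1 := by
    have := k3 _ (Nat.mod_lt q (by norm_num : 3 > 0))
    simpa [Nat.add_mod, Nat.pow_mod] using this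
  have e2 : (q ^ 2 + q + 1) % 2 = 1 := by
    have := k2 _ (Nat.mod_lt q (by norm_num : 2 > 0))
    simpa [Nat.add_mod, Nat.pow_mod] using this
  have hc : Nat.Coprime 3 (q ^ 4 - q ^ 2 + 1) :=
    (Nat.prime_three.coprime_iff_not_dvd).2 (by omega)
  refine ⟨?_, fun h => e9 ?_, ?_⟩
  · rw [tor, Nat.prime_two.dvd_mul]
    omega
  · rw [tor] at h
    exact Nat.mod_eq_zero_of_dvd (((Nat.Coprime.pow_left 2 hc)).dvd_of_dvd_mul_left h)
  · rw [tor, ← e3, ← Nat.dvd_iff_mod_eq_zero, hc.dvd_mul_left]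

variable (Φ : Chev Cfsg.Lie.chevE6)

include Φ in
theorem card_H_gcd (K : Type*) [Field K] [Finite K] :
    Nat.gcd (Nat.card K - 1) 3 * Nat.card (Cfsg.Lie.chevE6.diagonalSubgroup K) =
      (Nat.card K - 1) ^ Cfsg.Lie.chevE6.rank := by
  refine Eq.trans ?_ (cardHE6 Φ K)
  simp [Fin.prod_univ_six]

include Φ in
theorem dvd_card_group {F : Type*} [Field F] [Finite F] {ℓ : ℕ} (hℓp : ℓ.Prime) (hℓ : 12 < ℓ)
    (h : (ℓ : ℤ) ∣ (cyclotomic 12 ℤ).eval (Nat.card F : ℤ)) : ℓ ∣ Nat.card (Cfsg.Lie.chevE6.group F) := by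
  have ho := Φ.order_formula (F := F) (g := Nat.gcd (Nat.card F - 1) 3) (degs := [2, 5, 6, 8, 9, 12]) rfl
    (card_H_gcd Φ F) (sumWE6 Φ)
  have h12 : ℓ ∣ Nat.card F ^ 12 - 1 := by
    rw [← Int.natCast_dvd_natCast, Nat.cast_sub (Nat.one_le_pow _ _ Nat.card_pos)]
    push_cast
    have h1 := Polynomial.eval_dvd (x := (Nat.card F : ℤ)) (Polynomial.cyclotomic.dvd_X_pow_sub_one 12 ℤ)
    simpa using h.trans h1
  have hd : ℓ ∣ Nat.gcd (Nat.card F - 1) 3 * Nat.card (Cfsg.Lie.chevE6.group F) := by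
    rw [ho]
    exact dvd_mul_of_dvd_right (h12.trans (List.dvd_prod (List.mem_map.2 ⟨12, by simp, rfl⟩))) _
  refine ((hℓp.coprime_iff_not_dvd).2 fun h3 => ?_).dvd_of_dvd_mul_left hd
  have := Nat.le_of_dvd (by norm_num) (h3.trans (Nat.gcd_dvd_right _ _))
  omega

include Φ in
/-- The cyclic self-centralizing torus of type E6. -/
theorem exists_cyclic {F : Type*} [Field F] [Finite F] :
    ∃ C : Subgroup ↥(Cfsg.Lie.chevE6.group F), IsCyclic C ∧
      Nat.card C = tor (Nat.card F) / Nat.gcd 3 (Nat.card F - 1) ∧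
      Subgroup.centralizer (C : Set ↥(Cfsg.Lie.chevE6.group F)) = C := by
  classical
  haveI : NeZero (12 : ℕ) := ⟨by norm_num⟩
  obtain ⟨p0, hp0⟩ := CharP.exists F
  haveI : Fact p0.Prime := ⟨CharP.char_is_prime F p0⟩
  let K := FiniteField.Extension F p0 12
  let f : F →+* K := algebraMap F K
  let σ : K ≃+* K := (FiniteField.Extension.frob F p0 12).toRingEquiv
  have hQK : Nat.card K = Nat.card F ^ 12 := FiniteField.natCard_extension F p0 12
  haveI : Fintype K := Fintype.ofFinite K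
  set q := Nat.card F with hq
  have hq2 : 2 ≤ q := Finite.one_lt_card
  have hσq : ∀ x, σ x = x ^ q := fun x => FiniteField.Extension.frob_apply F p0 12
  have hσ : ∀ x, σ x = x ↔ x ∈ Set.range f := fun x => by
    rw [hσq]; exact mem_range_iff_pow_card f x
  have hσf : σ.toRingHom.comp f = f := RingHom.ext fun a => (hσ (f a)).2 ⟨a, rfl⟩
  -- the prime
  have he1 : (cyclotomic 12 ℤ).eval (q : ℤ) = ((q ^ 4 - q ^ 2 + 1 : ℕ) : ℤ) := by
    rw [eval_twelve]; push_cast [Nat.cast_sub (sq_le_four q)]; ring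
  obtain ⟨ℓ, hℓp, hℓd⟩ := Nat.exists_prime_and_dvd (show q ^ 4 - q ^ 2 + 1 ≠ 1 by
    have h4 : 2 * q ^ 2 ≤ q ^ 4 :=
      le_of_le_of_eq (Nat.mul_le_mul_right (q ^ 2) (show 2 ≤ q ^ 2 by nlinarith)) (by ring)
    have : 0 < q ^ 2 := by positivity
    omega)
  haveI : Fact ℓ.Prime := ⟨hℓp⟩
  have hℓN : (ℓ : ℤ) ∣ (cyclotomic 12 ℤ).eval (q : ℤ) := he1 ▸ Int.natCast_dvd_natCast.2 hℓd
  have hl12 : ¬ ℓ ∣ 12 := by
    intro h
    obtain ⟨m3, m2⟩ := twelve_mod q
    rcases (Nat.Prime.dvd_mul hℓp).1 (show ℓ ∣ 2 ^ 2 * 3 from h) with h2 | h2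
    · have := (Nat.prime_dvd_prime_iff_eq hℓp Nat.prime_two).1 (hℓp.dvd_of_dvd_pow h2)
      subst this; omega
    · have := (Nat.prime_dvd_prime_iff_eq hℓp Nat.prime_three).1 h2
      subst this; omega
  have hℓ : 12 < ℓ := lt_of_dvd_eval (by norm_num) hl12 hℓN
  have hW : ¬ ℓ ∣ Nat.card Φ.WL := by
    rw [cardWE6 Φ]
    intro h
    rcases (Nat.Prime.dvd_mul hℓp).1 (show ℓ ∣ 2 ^ 7 * (3 ^ 4 * 5) by simpa using h) with h6 | h6
    · have := Nat.le_of_dvd (by norm_num) (hℓp.dvd_of_dvd_pow h6); omega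
    · rcases (Nat.Prime.dvd_mul hℓp).1 h6 with h7 | h7
      · have := Nat.le_of_dvd (by norm_num) (hℓp.dvd_of_dvd_pow h7); omega
      · have := Nat.le_of_dvd (by norm_num) h7; omega
  have hprimq : IsPrimitiveRoot (q : ZMod ℓ) 12 := by
    haveI : NeZero ((12 : ℕ) : ZMod ℓ) := ⟨fun h => hl12 ((ZMod.natCast_eq_zero_iff _ _).1 h)⟩
    have h1 := Polynomial.eval_intCast_map (Int.castRingHom (ZMod ℓ)) (cyclotomic 12 ℤ) (q : ℤ)
    rw [Polynomial.map_cyclotomic] at h1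
    refine Polynomial.isRoot_cyclotomic_iff.1 ?_
    rw [Polynomial.IsRoot.def]
    simpa [(ZMod.intCast_zmod_eq_zero_iff_dvd _ ℓ).2 hℓN] using h1
  have hQ1 : (Nat.card K : ZMod ℓ) = 1 := by
    rw [hQK, Nat.cast_pow]
    exact hprimq.pow_eq_one
  -- an element of order `ℓ`
  have hℓG : ℓ ∣ Nat.card (Cfsg.Lie.chevE6.group F) := dvd_card_group Φ hℓp hℓ hℓN
  obtain ⟨X₀, hX⟩ := exists_prime_orderOf_dvd_card' ℓ hℓG
  have hinjf : Function.Injective (Matrix.GeneralLinearGroup.map (n := Cfsg.Lie.chevE6.Idx) f) := fun a b h =>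
    Units.ext (Matrix.map_injective f.injective (congrArg Units.val h :))
  have hfix : ∀ y : GL Cfsg.Lie.chevE6.Idx F,
      Matrix.GeneralLinearGroup.map σ.toRingHom (Matrix.GeneralLinearGroup.map f y) =
        Matrix.GeneralLinearGroup.map f y := fun y => by
    conv_rhs => rw [← hσf, Matrix.GeneralLinearGroup.map_comp]
    rfl
  let ι : ↥(Cfsg.Lie.chevE6.group F) →* GL Cfsg.Lie.chevE6.Idx K :=
    (Matrix.GeneralLinearGroup.map f).comp (Cfsg.Lie.chevE6.group F).subtype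
  have hιinj : Function.Injective ι := fun a b h => Subtype.ext (hinjf h)
  have hxG : ι X₀ ∈ Cfsg.Lie.chevE6.group K := Φ.map_mem_group f X₀.2
  have hxl : ι X₀ ^ ℓ = 1 := by rw [← map_pow, ← hX, pow_orderOf_eq_one, map_one]
  obtain ⟨g, hg, c, hgc⟩ := exists_conj_torus Φ hQ1 hW hxG hxl
  have hcl : c ^ ℓ = 1 := by
    refine Φ.torus_injective ?_
    rw [map_pow, map_one, show Φ.toAlg.torus c = g⁻¹ * ι X₀ * g⁻¹⁻¹ by rw [hgc]; group, conj_pow, hxl]
    group
  obtain ⟨i0, hi0⟩ : ∃ i, c i ≠ 1 := by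
    by_contra! h
    have h1 : ι X₀ = 1 := by rw [hgc, show c = 1 from funext h, map_one, mul_one, mul_inv_cancel]
    rw [show X₀ = 1 from hιinj (by rw [h1, map_one]), orderOf_one] at hX
    exact (Fact.out : ℓ.Prime).one_lt.ne hX
  have hgK := card_H_gcd Φ K
  have hgK3 : Nat.gcd (Nat.card K - 1) 3 ∣ 3 := Nat.gcd_dvd_right _ _
  have hcH : Φ.toAlg.torus c ∈ Cfsg.Lie.chevE6.diagonalSubgroup K := mem_H_of_coprime Φ hgK (by
    refine Nat.Coprime.coprime_dvd_left hgK3 ((Nat.prime_three.coprime_iff_not_dvd).2 fun h => ?_)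
    have := (Nat.prime_dvd_prime_iff_eq Nat.prime_three hℓp).1 h
    omega) hcl
  have hpowH : ∀ (d : Fin n6 → Kˣ) (k : ℕ), Φ.toAlg.torus d ∈ Cfsg.Lie.chevE6.diagonalSubgroup K →
      Φ.toAlg.torus (d ^ k) ∈ Cfsg.Lie.chevE6.diagonalSubgroup K := fun d k h => by
    rw [map_pow]; exact pow_mem h k
  set ζ := c i0 with hζd
  have hoζ : orderOf ζ = ℓ := orderOf_eq_prime (congrFun hcl i0) hi0
  have hprim : IsPrimitiveRoot ζ ℓ := IsPrimitiveRoot.iff_orderOf.2 hoζ
  haveI : NeZero ℓ := ⟨(Fact.out : ℓ.Prime).ne_zero⟩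
  have hmem : ∀ k, ∃ z : ℤ, ζ ^ z = c k := fun k => by
    have : c k ∈ Subgroup.zpowers ζ := by
      rw [hprim.zpowers_eq, mem_rootsOfUnity]
      exact congrFun hcl k
    exact Subgroup.mem_zpowers_iff.1 this
  choose n hn using hmem
  set v : Fin n6 → ZMod ℓ := fun k => (n k : ZMod ℓ) with hv
  have hzeq : ∀ a b : ℤ, ζ ^ a = ζ ^ b ↔ (a : ZMod ℓ) = b := fun a b => by
    rw [zpow_eq_zpow_iff_modEq, hoζ, ZMod.intCast_eq_intCast_iff]
  have hchi : ∀ r, ∃ z : ℤ, Φ.toSys.chi c r = ζ ^ z ∧ (z : ZMod ℓ) = lam Φ v r := fun r => by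
    refine ⟨∑ i, n i * Φ.V r i, ?_, by simp [lam, hv, mul_comm]⟩
    simp only [Sys.chi, ← hn, ← _root_.zpow_mul]
    induction (Finset.univ : Finset (Fin n6)) using Finset.induction_on with
    | empty => simp
    | insert k s hk ih => rw [Finset.prod_insert hk, Finset.sum_insert hk, _root_.zpow_add, ih]
  have hchi_iff : ∀ r s (m : ℕ), Φ.toSys.chi c r = Φ.toSys.chi c s ^ m ↔
      lam Φ v r = m * lam Φ v s := fun r s m => by
    obtain ⟨a, ha, ha'⟩ := hchi r
    obtain ⟨b, hb, hb'⟩ := hchi s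
    rw [ha, hb, ← zpow_natCast, ← _root_.zpow_mul, hzeq, ← ha', ← hb']
    push_cast
    rw [mul_comm (b : ZMod ℓ)]
  have hv0 : v ≠ 0 := fun h => hi0 <| by
    have : ζ ^ n i0 = ζ ^ (0 : ℤ) := (hzeq _ _).2 (by simpa [hv] using congrFun h i0)
    rwa [hn, _root_.zpow_zero] at this
  -- the twisting element
  set a := g⁻¹ * Matrix.GeneralLinearGroup.map σ.toRingHom g with had
  have haG : a ∈ Cfsg.Lie.chevE6.group K := mul_mem (inv_mem hg) (Φ.map_mem_group _ hg)
  have hmapT : ∀ d : Fin n6 → Kˣ, Matrix.GeneralLinearGroup.map σ.toRingHom (Φ.toAlg.torus d) =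
      Φ.toAlg.torus (d ^ q) := fun d => by
    rw [map_torus]
    congr 1
    funext i
    exact Units.ext (by simpa using hσq (d i))
  have hconjfix : ∀ d : Fin n6 → Kˣ,
      Matrix.GeneralLinearGroup.map σ.toRingHom (g * Φ.toAlg.torus d * g⁻¹) = g * Φ.toAlg.torus d * g⁻¹ ↔
        a * Φ.toAlg.torus (d ^ q) * a⁻¹ = Φ.toAlg.torus d := fun d => by
    rw [map_mul, map_mul, map_inv, hmapT,
      show Matrix.GeneralLinearGroup.map σ.toRingHom g = g * a by rw [had]; group]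
    constructor
    · intro h
      calc a * Φ.toAlg.torus (d ^ q) * a⁻¹ = g⁻¹ * (g * a * Φ.toAlg.torus (d ^ q) * (g * a)⁻¹) * g := by
            group
        _ = _ := by rw [h]; group
    · intro h
      calc g * a * Φ.toAlg.torus (d ^ q) * (g * a)⁻¹ = g * (a * Φ.toAlg.torus (d ^ q) * a⁻¹) * g⁻¹ := by
            group
        _ = _ := by rw [h]
  have hac : a * Φ.toAlg.torus (c ^ q) * a⁻¹ = Φ.toAlg.torus c :=
    (hconjfix c).1 (by rw [← hgc]; exact hfix X₀)
  obtain ⟨w, hw, π, hπ, hm, hπc, hcomm⟩ :=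
    twist_parts_of_mem Φ hcH (hpowH c q hcH) haG (mul_inv_eq_iff_eq_mul.1 hac).symm
  have hlamπ : ∀ r, lam Φ v (π r) = (q : ZMod ℓ) * lam Φ v r := fun r =>
    (hchi_iff _ _ q).1 ((hπc r).trans (chi_pow Φ c q r))
  obtain ⟨hcp, hreg⟩ := regular_twelve Φ hℓ hπ hv0 hprimq hlamπ
  set P : Matrix (Fin n6) (Fin n6) ℤ := Pm Φ π with hPdef
  have hcent : ∀ y ∈ Cfsg.Lie.chevE6.group K, Commute (Φ.toAlg.torus c) y →
      y ∈ Cfsg.Lie.chevE6.diagonalSubgroup K := by
    intro y hy hyc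
    refine mem_H_of_regular_mem Φ hcH (fun r h => hreg r ?_) (fun π' hπ' hfx => ?_) hy hyc
    · obtain ⟨z, hz, hz'⟩ := hchi r
      rw [← hz', (hzeq z 0).1 (by rw [← hz, h, _root_.zpow_zero]), Int.cast_zero]
    · refine stab_trivial Φ hreg hπ' (fun hd => hW (hd.trans (Subgroup.orderOf_dvd_natCard _ hπ')))
        fun r => ?_
      simpa using (hchi_iff _ r 1).1 (by rw [pow_one]; exact hfx r)
  have hdhH := hcent _ (mul_mem haG (inv_mem (Φ.N_le_group hw))) hcomm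
  obtain ⟨dh, hdh⟩ := Φ.exists_torus_of_mem_H hdhH
  have haN : a ∈ Cfsg.Lie.chevE6.monomialSubgroup K := by
    rw [mul_inv_eq_iff_eq_mul.1 hdh]
    exact mul_mem (H_le_N (hdh ▸ hdhH)) hw
  have haM : Φ.Mono a π := by
    rw [mul_inv_eq_iff_eq_mul.1 hdh]
    have h := Chev.Mono.mul Φ (Φ.mono_torus dh) hm
    rwa [one_mul] at h
  set T := Matrix.scalar (Fin n6) (q : ℤ) - P with hTdef
  set J := (expM (A := Kˣ) T).ker with hJ
  have hker : ∀ d : Fin n6 → Kˣ, Φ.toAlg.torus d ∈ Cfsg.Lie.chevE6.diagonalSubgroup K → (d ∈ J ↔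
      Matrix.GeneralLinearGroup.map σ.toRingHom (g * Φ.toAlg.torus d * g⁻¹) =
        g * Φ.toAlg.torus d * g⁻¹) := fun d hdH => by
    rw [hconjfix, conj_torus_iff_of_mem Φ haN haM _ _ (hpowH d q hdH), hJ, MonoidHom.mem_ker]
    constructor
    · intro h r
      rw [chi_map Φ hπ, chi_pow Φ]
      simp only [Sys.chi, ← Finset.prod_pow]
      refine Finset.prod_congr rfl fun k _ => ?_
      have hk := congrFun h k
      rw [hTdef, expM_scalar_sub, Pi.one_apply, mul_inv_eq_one] at hk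
      rw [← zpow_natCast, ← _root_.zpow_mul, mul_comm, _root_.zpow_mul, zpow_natCast, hk]
      rfl
    · intro h
      funext k
      rw [hTdef, expM_scalar_sub, Pi.one_apply, mul_inv_eq_one]
      have hk := h (Φ.p k)
      rw [Φ.toSys.chi_simple] at hk
      exact hk.symm
  have hTdet : T.det = (tor q : ℤ) := by
    rw [hTdef, ← Matrix.eval_charpoly, hcp, tor_cast]
  obtain ⟨hN2, hN9, hN3⟩ := tor_mod q
  have hN0 : tor q ≠ 0 := fun h => hN2 (by rw [h]; exact dvd_zero _)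
  have hdet0 : T.det ≠ 0 := by rw [hTdet]; exact_mod_cast hN0
  have hdetN : T.det.natAbs = tor q := by rw [hTdet, Int.natAbs_natCast]
  have hdvdX : cyclotomic 12 ℤ * cyclotomic 3 ℤ ∣ X ^ 12 - 1 := by
    rw [← prod_cyclotomic_eq_X_pow_sub_one (by norm_num) ℤ,
      ← Finset.prod_pair (f := fun d => cyclotomic d ℤ) (show (12 : ℕ) ≠ 3 by norm_num)]
    exact Finset.prod_dvd_prod_of_subset _ _ _ (by decide)
  have hdvd : T.det.natAbs ∣ Nat.card Kˣ := by
    rw [hdetN, Nat.card_units, hQK, ← Int.natCast_dvd_natCast,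
      Nat.cast_sub (Nat.one_le_pow _ _ (by omega)), tor_cast]
    have h1 := Polynomial.eval_dvd (x := (q : ℤ)) hdvdX
    simpa using h1
  have hcardJ : Nat.card J = tor q := (card_ker_expM_det (A := Kˣ) T hdet0 hdvd).trans hdetN
  haveI : IsCyclic J := isCyclic_of_prime_card_le fun p hp => by
    haveI : Fact p.Prime := ⟨hp⟩
    set S := (powMonoidHom p : J →* _).ker with hS
    have hSp : IsPGroup p S := fun x => ⟨1, Subtype.ext ((congrArg (fun m => x.1 ^ m) (pow_one p)).trans x.2)⟩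
    obtain ⟨k, hk⟩ := IsPGroup.iff_card.1 hSp
    have hkN : p ^ k ∣ tor q := hk ▸ hcardJ ▸ Subgroup.card_subgroup_dvd_card S
    by_cases hk1 : k ≤ 1
    · rw [hk]
      exact (Nat.pow_le_pow_right hp.pos hk1).trans (le_of_eq (pow_one p))
    · have hp2 : p ^ 2 ∣ tor q := (pow_dvd_pow p (by omega)).trans hkN
      have hp1 := (dvd_pow_self p two_ne_zero).trans hp2
      refine card_torsion_le_of_separable P ?_ (q : ℤ) (hp1.trans (hdetN ▸ hdvd))
      rw [hcp]
      refine Polynomial.Separable.of_dvd ?_ (Polynomial.map_dvd _ hdvdX)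
      rw [Polynomial.map_sub, Polynomial.map_pow, Polynomial.map_X, Polynomial.map_one,
        Polynomial.X_pow_sub_one_separable_iff]
      intro h12
      have h12' : p ∣ 2 ^ 2 * 3 := (ZMod.natCast_eq_zero_iff _ _).1 h12
      rcases (Nat.Prime.dvd_mul hp).1 h12' with h | h
      · have := (Nat.prime_dvd_prime_iff_eq hp Nat.prime_two).1 (hp.dvd_of_dvd_pow h)
        subst this; exact hN2 hp1
      · have := (Nat.prime_dvd_prime_iff_eq hp Nat.prime_three).1 h
        subst this; exact hN9 hp2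
  -- the subgroup
  let ψ : (Fin n6 → Kˣ) →* GL Cfsg.Lie.chevE6.Idx K := (MulAut.conj g).toMonoidHom.comp Φ.toAlg.torus
  have hψ : ∀ d, ψ d = g * Φ.toAlg.torus d * g⁻¹ := fun d => rfl
  have hψinj : Function.Injective ψ := (MulAut.conj g).injective.comp Φ.torus_injective
  set C : Subgroup ↥(Cfsg.Lie.chevE6.group F) := Subgroup.centralizer {X₀} with hC
  have hCform : ∀ y ∈ C, ∃ d ∈ J, Φ.toAlg.torus d ∈ Cfsg.Lie.chevE6.diagonalSubgroup K ∧ ι y = ψ d := by
    intro y hy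
    have hyx : Commute (ι X₀) (ι y) :=
      Commute.map (show Commute X₀ y from (Subgroup.mem_centralizer_singleton_iff.1 hy).symm) ι
    have hyc : Commute (Φ.toAlg.torus c) (g⁻¹ * ι y * g) := by
      have := hyx.eq
      rw [hgc] at this
      show Φ.toAlg.torus c * (g⁻¹ * ι y * g) = g⁻¹ * ι y * g * Φ.toAlg.torus c
      calc Φ.toAlg.torus c * (g⁻¹ * ι y * g)
          = g⁻¹ * (g * Φ.toAlg.torus c * g⁻¹ * ι y) * g := by group
        _ = _ := by rw [this]; group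
    have hyH := hcent _ (mul_mem (mul_mem (inv_mem hg) (Φ.map_mem_group f y.2)) hg) hyc
    obtain ⟨d, hd⟩ := Φ.exists_torus_of_mem_H hyH
    have hyd : ι y = g * Φ.toAlg.torus d * g⁻¹ := by
      rw [← hd, show Matrix.GeneralLinearGroup.map f (y : GL Cfsg.Lie.chevE6.Idx F) = ι y from rfl]
      group
    refine ⟨d, (hker d (hd ▸ hyH)).2 ?_, hd ▸ hyH, hyd⟩
    rw [← hyd]
    exact hfix y
  set C' : Subgroup (Fin n6 → Kˣ) := (C.map ι).comap ψ with hC'
  have hC'J : C' ≤ J := by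
    intro d hd
    obtain ⟨y, hy, hyd⟩ := hd
    obtain ⟨d', hd', -, hyd'⟩ := hCform y hy
    rwa [hψinj (hyd.symm.trans hyd')]
  have hCmap : C'.map ψ = C.map ι := by
    refine Subgroup.map_comap_eq_self ?_
    rintro _ ⟨y, hy, rfl⟩
    obtain ⟨d, -, -, hyd⟩ := hCform y hy
    exact ⟨d, hyd.symm⟩
  let eC : C ≃* C' :=
    ((C.equivMapOfInjective ι hιinj).trans (MulEquiv.subgroupCongr hCmap.symm)).trans
      (C'.equivMapOfInjective ψ hψinj).symm
  -- ninth powers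
  have hnine : ∀ d ∈ J, d ^ 9 ∈ C' := by
    intro d hd
    have h3H : Φ.toAlg.torus (d ^ 3) ∈ Cfsg.Lie.chevE6.diagonalSubgroup K := by
      obtain ⟨k, hk⟩ := hgK3
      rw [hk, pow_mul]
      exact hpowH _ k (pow_index_mem_H Φ hgK d)
    have hz : ψ (d ^ 3) ∈ Cfsg.Lie.chevE6.group K := by
      rw [hψ]
      exact mul_mem (mul_mem hg (Φ.B_le_group (H_le_B h3H))) (inv_mem hg)
    have hzfix : Matrix.GeneralLinearGroup.map σ.toRingHom (ψ (d ^ 3)) = ψ (d ^ 3) :=
      (hker _ h3H).1 (pow_mem hd 3)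
    obtain ⟨y, hy, hyz⟩ := exists_pow_of_fixed Φ (card_H_gcd Φ F) σ f hσ hz hzfix
    obtain ⟨k, hk⟩ : Nat.gcd (Nat.card F - 1) 3 ∣ 3 := Nat.gcd_dvd_right _ _
    have h9 : ψ (d ^ 9) = ι ((⟨y, hy⟩ : ↥(Cfsg.Lie.chevE6.group F)) ^ k) := by
      rw [map_pow ι, show ι ⟨y, hy⟩ = ψ (d ^ 3) ^ Nat.gcd (Nat.card F - 1) 3 from hyz, ← pow_mul, ← hk,
        ← map_pow ψ, ← pow_mul]
    refine ⟨_, Subgroup.mem_centralizer_singleton_iff.2 (hιinj ?_), h9.symm⟩
    rw [map_mul ι, map_mul ι, ← h9, show ι X₀ = ψ c from hgc, ← map_mul ψ, ← map_mul ψ, mul_comm]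
  have hdvd1 : Nat.card C' ∣ tor q := hcardJ ▸ Subgroup.card_dvd_of_le hC'J
  have hdvd2 : tor q ∣ Nat.card C' * Nat.gcd (tor q) 9 := by
    set R := (powMonoidHom 9 : J →* J).range with hR
    have h1 : Nat.card R * Nat.gcd (tor q) 9 = tor q := by
      have h := IsCyclic.card_powMonoidHom_ker (G := J) 9
      rw [hcardJ] at h
      rw [← h, hR, ← Subgroup.index_ker, Subgroup.index_mul_card, hcardJ]
    have h2 : Nat.card R ∣ Nat.card C' := by
      have hle : R.map J.subtype ≤ C' := by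
        rintro _ ⟨_, ⟨d, rfl⟩, rfl⟩
        exact hnine _ d.2
      have := Subgroup.card_dvd_of_le hle
      rwa [Subgroup.card_map_of_injective J.subtype_injective] at this
    conv_lhs => rw [← h1]
    exact Nat.mul_dvd_mul_right h2 _
  have hC'card : Nat.card C' = tor q / Nat.gcd 3 (q - 1) := by
    by_cases hq3 : q % 3 = 1
    · obtain ⟨m, hm3⟩ := hN3.2 hq3
      have hm : ¬ 3 ∣ m := fun h => hN9 (by rw [hm3]; exact Nat.mul_dvd_mul_left 3 h)
      have hcm : Nat.Coprime 3 m := (Nat.prime_three.coprime_iff_not_dvd).2 hm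
      have hg3 : Nat.gcd 3 (q - 1) = 3 := Nat.gcd_eq_left (by omega)
      have hg9 : Nat.gcd (tor q) 9 = 3 := by
        rw [hm3, show (9 : ℕ) = 3 * 3 from rfl, Nat.gcd_mul_left, Nat.Coprime.gcd_eq_one hcm.symm]
      rw [hg9, hm3, mul_comm (Nat.card C')] at hdvd2
      have h1 : m ∣ Nat.card C' := Nat.dvd_of_mul_dvd_mul_left (by norm_num) hdvd2
      have hnot : ¬ 3 ∣ Nat.card C' := by
        intro h3
        haveI : Fact (Nat.Prime 3) := ⟨Nat.prime_three⟩
        obtain ⟨d, hd⟩ := exists_prime_orderOf_dvd_card' 3 h3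
        have hd3 : (d : Fin n6 → Kˣ) ^ 3 = 1 := by
          rw [← Subgroup.coe_pow, ← hd, pow_orderOf_eq_one]; rfl
        obtain ⟨y, hy, hyd⟩ := d.2
        obtain ⟨d', -, hdH', hyd'⟩ := hCform y hy
        have hdd : d' = (d : Fin n6 → Kˣ) := hψinj (hyd'.symm.trans hyd)
        subst hdd
        have h9 : ¬ 9 ∣ T.det.natAbs := by rw [hdetN]; exact hN9
        have hK3 : 3 ∣ Fintype.card K - 1 := by
          rw [← Fintype.card_units, ← Nat.card_eq_fintype_card]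
          exact (hm3 ▸ dvd_mul_right 3 m : 3 ∣ tor q).trans (hdetN ▸ hdvd)
        have := eq_one_of_mem_small Φ f σ hσq hσf hq3 hK3 hπ hdet0 hdvd h9 hg haN haM hdH' hd3 y.2 hyd'
        have hd1 : d = 1 := Subtype.ext this
        rw [hd1, orderOf_one] at hd
        norm_num at hd
      have h2 : Nat.card C' ∣ m :=
        ((Nat.prime_three.coprime_iff_not_dvd).2 hnot).symm.dvd_of_dvd_mul_left (hm3 ▸ hdvd1)
      rw [hg3, hm3, Nat.mul_div_cancel_left _ (by norm_num)]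
      exact Nat.dvd_antisymm h2 h1
    · have h3N : ¬ 3 ∣ tor q := fun h => hq3 (hN3.1 h)
      have hg9 : Nat.gcd (tor q) 9 = 1 :=
        Nat.Coprime.pow_right 2 ((Nat.prime_three.coprime_iff_not_dvd).2 h3N).symm
      have hg3 : Nat.gcd 3 (q - 1) = 1 := (Nat.prime_three.coprime_iff_not_dvd).2 (by omega)
      rw [hg9, mul_one] at hdvd2
      rw [hg3, Nat.div_one]
      exact Nat.dvd_antisymm hdvd1 hdvd2
  haveI : IsCyclic C' := isCyclic_of_injective (Subgroup.inclusion hC'J) (Subgroup.inclusion_injective hC'J)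
  refine ⟨C, isCyclic_of_surjective eC.symm eC.symm.surjective, (Nat.card_congr eC.toEquiv).trans hC'card,
    le_antisymm ?_ ?_⟩
  · intro y hy
    refine Subgroup.mem_centralizer_singleton_iff.2 ?_
    exact (Subgroup.mem_centralizer_iff.1 hy X₀ (Subgroup.mem_centralizer_singleton_iff.2 rfl)).symm
  · intro y hy z hz
    have := congrArg Subtype.val (eC.symm.injective.eq_iff.2 (mul_comm (eC ⟨z, hz⟩) (eC ⟨y, hy⟩)))
    simpa [← map_mul] using this

end E6

end CfsgLib.CoxTorus
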