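import Cfsg.Agent.Lib.CoxTorus.E6Weights
import Cfsg.Agent.Lib.Chev.OrderE7

/-!
An eigenfunctional of order twelve on the root system of type E7: counting orbits modulo twelve shows that
it vanishes on exactly three orthogonal pairs of roots, which are permuted cyclically.
-/

set_option autoImplicit false
set_option linter.dupNamespace false
set_option linter.unusedSectionVars false
set_option maxRecDepth 100000
set_option maxHeartbeats 1600000

namespace CfsgLib.CoxTorus.E7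

open Cfsg.Lie Matrix Polynomial CfsgLib.Chev CfsgLib.Chev.Chev CfsgLib.InvTorus

/-- The rank of the datum. -/
abbrev n7 : ℕ := Cfsg.Lie.chevE7.rank

/-- The number of roots of the datum. -/
abbrev N7 : ℕ := Cfsg.Lie.chevE7.nroots

/-- The highest root. -/
def top7 : Fin N7 := ⟨125, by decide +kernel⟩

/-- The Cartan matrix. -/
def m7 (i j : Fin n7) : ℤ :=
  ([[2, 0, -1, 0, 0, 0, 0], [0, 2, 0, -1, 0, 0, 0], [-1, 0, 2, -1, 0, 0, 0], [0, -1, -1, 2, -1, 0, 0],
    [0, 0, 0, -1, 2, -1, 0], [0, 0, 0, 0, -1, 2, -1], [0, 0, 0, 0, 0, -1, 2]].getD i.val []).getD j.val 0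

/-- The Cartan matrix as a matrix. -/
def M7 : Matrix (Fin n7) (Fin n7) ℤ := Matrix.of m7

/-- Twice its inverse. -/
def A7 (i j : Fin n7) : ℤ :=
  ([[4, 4, 6, 8, 6, 4, 2], [4, 7, 8, 12, 9, 6, 3], [6, 8, 12, 16, 12, 8, 4], [8, 12, 16, 24, 18, 12, 6],
    [6, 9, 12, 18, 15, 10, 5], [4, 6, 8, 12, 10, 8, 4], [2, 3, 4, 6, 5, 4, 3]].getD i.val []).getD j.val 0

/-- The invariant form. -/
def Bf (u w : Fin n7 → ℤ) : ℤ := u ⬝ᵥ M7 *ᵥ w

/-- The matrix of a fundamental reflection. -/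
def R7 (i : Fin n7) : Matrix (Fin n7) (Fin n7) ℤ :=
  Matrix.of fun k j => (if k = j then 1 else 0) - if j = i then M7 i k else 0

theorem R7_M7 : ∀ i, R7 i * M7 * (R7 i)ᵀ = M7 := by decide +kernel

theorem M7_symm : M7ᵀ = M7 := by decide +kernel

theorem Bf_comm (u w : Fin n7 → ℤ) : Bf u w = Bf w u := by
  rw [Bf, Bf, Matrix.dotProduct_mulVec, ← Matrix.mulVec_transpose, M7_symm, dotProduct_comm]

theorem Bf_single (i : Fin n7) (u : Fin n7 → ℤ) : Bf (Pi.single i 1) u = (M7 *ᵥ u) i := by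
  rw [Bf, single_dotProduct, one_mul]

theorem M7_even : ∀ i j : Fin n7, i ≠ j → m7 i j = m7 j i := by decide +kernel

theorem Bf_even (u : Fin n7 → ℤ) : (2 : ℤ) ∣ Bf u u := by
  obtain ⟨v, hv⟩ : ∃ v : Fin 7 → ℤ, v = u := ⟨u, rfl⟩
  refine ⟨v 0 * v 0 + v 1 * v 1 + v 2 * v 2 + v 3 * v 3 + v 4 * v 4 + v 5 * v 5 + v 6 * v 6 - v 0 * v 2 -
    v 1 * v 3 - v 2 * v 3 - v 3 * v 4 - v 4 * v 5 - v 5 * v 6, ?_⟩
  subst hv
  show ∑ i : Fin 7, v i * ∑ j : Fin 7, m7 i j * v j = _
  simp [Fin.sum_univ_seven, m7]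
  ring

variable (Φ : Chev Cfsg.Lie.chevE7)

theorem cartan_eq : ∀ a b : Fin n7, Cfsg.Lie.chevE7.cartan a.val (Cfsg.Lie.chevE7.simple b.val) = m7 a b := by
  decide +kernel

theorem A_p (a b : Fin n7) : Φ.A a (Φ.p b) = M7 a b :=
  (Φ.cartan_val a (Φ.p b)).symm.trans
    ((congrArg (Cfsg.Lie.chevE7.cartan a.val) (Φ.simple_val b).symm).trans (cartan_eq a b))

/-- The coordinates of a root in the table. -/
def crd (r : Fin N7) (j : Fin n7) : ℤ := (Cfsg.Lie.chevE7.coroot.getD r.val #[]).getD j.val 0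

theorem cartan_crd : ∀ (i : Fin n7) (r : Fin N7), Cfsg.Lie.chevE7.cartan i.val r.val = ∑ k, M7 i k * crd r k := by
  decide +kernel

theorem A7_inv : ∀ j k, ∑ i, A7 j i * M7 i k = if j = k then 2 else 0 := by decide +kernel

theorem V_eq (r : Fin N7) (j : Fin n7) : Φ.V r j = crd r j := by
  have h : ∀ i, ∑ k, M7 i k * Φ.V r k = ∑ k, M7 i k * crd r k := fun i => by
    refine Eq.trans ?_ (cartan_crd i r)
    rw [Φ.cartan_val i r, Φ.A_lin i r]
    exact Finset.sum_congr rfl fun k _ => by rw [A_p Φ i k]; exact mul_comm _ _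
  have h2 : ∀ g : Fin n7 → ℤ, ∑ i, A7 j i * ∑ k, M7 i k * g k = 2 * g j := fun g => by
    simp only [Finset.mul_sum, ← mul_assoc]
    rw [Finset.sum_comm]
    simp only [← Finset.sum_mul, A7_inv, ite_mul, zero_mul, Finset.sum_ite_eq, Finset.mem_univ, if_true]
  refine mul_left_cancel₀ (show (2 : ℤ) ≠ 0 by norm_num) ?_
  rw [← h2 (Φ.V r), ← h2 (crd r)]
  exact Finset.sum_congr rfl fun i _ => congrArg _ (h i)

theorem crd_le : ∀ (r : Fin N7) (j : Fin n7), crd r j ≤ crd top7 j := by decide +kernel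

theorem crd_top : ∀ j : Fin n7, 1 ≤ crd top7 j ∧ crd top7 j ≤ 4 := by decide +kernel

/-- The index of a fundamental root. -/
def sidx (i : Fin n7) : Fin N7 :=
  ⟨[93, 78, 73, 69, 66, 64, 63].getD i.val 63 % N7, Nat.mod_lt _ (by decide +kernel)⟩

theorem simple_sidx : ∀ i : Fin n7, Cfsg.Lie.chevE7.simple i.val = (sidx i).val := by decide +kernel

theorem p_eq (i : Fin n7) : Φ.p i = sidx i := Fin.ext ((Φ.simple_val i).symm.trans (simple_sidx i))

theorem simple_pairing : ∀ (i : Fin n7) (s : Fin N7),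
    -2 ≤ (M7 *ᵥ crd s) i ∧ (M7 *ᵥ crd s) i ≤ 2 ∧
      ((M7 *ᵥ crd s) i = 2 → s = sidx i) ∧ ((M7 *ᵥ crd s) i = -2 → s = (sidx i).rev) := by decide +kernel

theorem simple_orth : ∀ i : Fin n7,
    (Finset.univ.filter fun x => (M7 *ᵥ crd x) i = 0).card = 60 := by decide +kernel

theorem simple_orth_two : ∀ (i : Fin n7) (b : Fin N7), (M7 *ᵥ crd b) i = -1 →
    (Finset.univ.filter fun x => (M7 *ᵥ crd x) i = 0 ∧ crd b ⬝ᵥ M7 *ᵥ crd x = 0).card = 30 := by decide +kernel

theorem Pm_refl (i : Fin n7) : Pm Φ (Φ.reflPerm i) = R7 i := by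
  ext k j
  show Φ.V (Φ.refl i (Φ.p k)) j = _
  rw [Φ.V_refl, Φ.V_p]
  show _ = (if k = j then (1 : ℤ) else 0) - if j = i then M7 i k else 0
  split_ifs <;> simp_all [A_p Φ]

theorem WL_induction {Q : Matrix (Fin n7) (Fin n7) ℤ → Prop} (h1 : Q 1) (hmul : ∀ A B, Q A → Q B → Q (A * B))
    (hR : ∀ i, Q (R7 i)) {π : Equiv.Perm (Fin N7)} (hπ : π ∈ Φ.WL) : Q (Pm Φ π) := by
  induction hπ using Subgroup.closure_induction with
  | mem x hx => obtain ⟨i, -, rfl⟩ := hx; rw [Pm_refl Φ i]; exact hR i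
  | one => rw [Pm_one]; exact h1
  | mul x y hx _ ihx ihy => rw [Pm_mul Φ hx]; exact hmul _ _ ihy ihx
  | inv x hx ih =>
    have hpow : ∀ n : ℕ, Q (Pm Φ (x ^ n)) := by
      intro n
      induction n with
      | zero => rw [pow_zero, Pm_one]; exact h1
      | succ n ihn => rw [pow_succ', Pm_mul Φ hx]; exact hmul _ _ ihn ih
    have : x⁻¹ = x ^ (orderOf x - 1) := by
      refine inv_eq_of_mul_eq_one_right ?_
      rw [← pow_succ', Nat.sub_add_cancel (orderOf_pos x), pow_orderOf_eq_one]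
    rw [this]; exact hpow _

theorem form_inv {π : Equiv.Perm (Fin N7)} (hπ : π ∈ Φ.WL) : Pm Φ π * M7 * (Pm Φ π)ᵀ = M7 := by
  refine WL_induction Φ (Q := fun A => A * M7 * Aᵀ = M7) (by simp) (fun A B hA hB => ?_)
    R7_M7 hπ
  rw [Matrix.transpose_mul, show A * B * M7 * (Bᵀ * Aᵀ) = A * (B * M7 * Bᵀ) * Aᵀ by simp only [Matrix.mul_assoc],
    hB, hA]

theorem Bf_map {π : Equiv.Perm (Fin N7)} (hπ : π ∈ Φ.WL) (u w : Fin n7 → ℤ) :
    Bf (u ᵥ* Pm Φ π) (w ᵥ* Pm Φ π) = Bf u w := by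
  conv_rhs => rw [Bf, ← form_inv Φ hπ]
  rw [Bf, ← Matrix.mulVec_mulVec, ← Matrix.mulVec_mulVec, Matrix.mulVec_transpose, Matrix.dotProduct_mulVec u]

/-- The form on two roots. -/
abbrev rB (r s : Fin N7) : ℤ := Bf (Φ.V r) (Φ.V s)

theorem V_eq_crd (s : Fin N7) : Φ.V s = crd s := funext (V_eq Φ s)

theorem V_p_single (i : Fin n7) : Φ.V (Φ.p i) = Pi.single i 1 := funext fun j => by
  rw [Φ.V_p, Pi.single_apply]
  exact if_congr eq_comm rfl rfl

theorem rB_map {π : Equiv.Perm (Fin N7)} (hπ : π ∈ Φ.WL) (r s : Fin N7) : rB Φ (π r) (π s) = rB Φ r s := by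
  rw [rB, rB, V_vecMul Φ hπ, V_vecMul Φ hπ]
  exact Bf_map Φ hπ _ _

theorem rB_refl_left (i : Fin n7) (r s : Fin N7) :
    rB Φ (Φ.refl i r) s = rB Φ r (Φ.refl i s) := by
  conv_lhs => rw [← Φ.refl_refl i s]
  exact rB_map Φ (Φ.reflPerm_mem_WL i) r (Φ.refl i s)

theorem root_pairing (r : Fin N7) : rB Φ r r = 2 ∧ (∀ s, pr Φ r s = rB Φ r s) ∧
    (∀ s, -2 ≤ rB Φ r s ∧ rB Φ r s ≤ 2 ∧ (rB Φ r s = 2 → s = r) ∧ (rB Φ r s = -2 → s = r.rev)) ∧
    (Finset.univ.filter fun x => rB Φ r x = 0).card = 60 ∧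
    (∀ b, rB Φ r b = -1 → (Finset.univ.filter fun x => rB Φ r x = 0 ∧ rB Φ b x = 0).card = 30) := by
  induction r using Φ.root_induction with
  | hp i =>
    have e : ∀ s, rB Φ (Φ.p i) s = (M7 *ᵥ crd s) i := fun s => by
      rw [rB, V_p_single, Bf_single, V_eq_crd]
    refine ⟨?_, fun s => ?_, fun s => ?_, ?_, fun b hb => ?_⟩
    · rw [e, ← V_eq_crd Φ, V_p_single]
      have hd : ∀ i : Fin n7, (M7 *ᵥ Pi.single i 1) i = 2 := by decide +kernel
      exact hd i
    · rw [e, ← V_eq_crd Φ]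
      simp only [pr, Φ.C_p, ite_mul, one_mul, zero_mul, Finset.sum_ite_eq, Finset.mem_univ, if_true]
      rw [Φ.A_lin i s]
      show _ = ∑ k, M7 i k * Φ.V s k
      exact Finset.sum_congr rfl fun k _ => by rw [A_p Φ i k]; exact mul_comm _ _
    · rw [e, p_eq Φ i]
      exact simple_pairing i s
    · simp only [e]; exact simple_orth i
    · simp only [e] at hb ⊢
      simp only [rB, Bf, V_eq_crd]
      exact simple_orth_two i b hb
  | hstep i r ih =>
    obtain ⟨h1, h2, h3, h4, h5⟩ := ih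
    refine ⟨?_, fun s => ?_, fun s => ?_, ?_, fun b hb => ?_⟩
    · exact (rB_map Φ (Φ.reflPerm_mem_WL i) r r).trans h1
    · rw [rB_refl_left, ← h2]
      exact (pr_refl Φ i r s).symm
    · rw [rB_refl_left]
      obtain ⟨a1, a2, a3, a4⟩ := h3 (Φ.refl i s)
      refine ⟨a1, a2, fun h => ?_, fun h => ?_⟩
      · rw [← Φ.refl_refl i s, a3 h]
      · rw [← Φ.refl_refl i s, a4 h, Φ.refl_rev]
    · refine (Finset.card_equiv (Φ.reflPerm i) fun x => ?_).trans h4
      simp only [Finset.mem_filter, Finset.mem_univ, true_and, rB_refl_left]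
      exact Iff.rfl
    · rw [rB_refl_left] at hb
      refine (Finset.card_equiv (Φ.reflPerm i) fun x => ?_).trans (h5 _ hb)
      simp only [Finset.mem_filter, Finset.mem_univ, true_and, rB_refl_left, Φ.reflPerm_apply]
      rw [Φ.refl_refl]

theorem rB_self (r : Fin N7) : rB Φ r r = 2 := (root_pairing Φ r).1

theorem rB_comm (r s : Fin N7) : rB Φ r s = rB Φ s r := Bf_comm _ _

theorem rB_rev (r s : Fin N7) : rB Φ r s.rev = -rB Φ r s := by
  have e : Φ.V s.rev = -Φ.V s := funext fun j => Φ.V_neg s j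
  rw [rB, rB, e, Bf, Bf, Matrix.mulVec_neg, dotProduct_neg]

theorem eq_or_rev {r s : Fin N7} (h : rB Φ r s = 2 ∨ rB Φ r s = -2) : s = r ∨ s = r.rev :=
  h.imp ((root_pairing Φ r).2.2.1 s).2.2.1 ((root_pairing Φ r).2.2.1 s).2.2.2

include Φ in
theorem rev_ne (r : Fin N7) : r.rev ≠ r := fun h => by
  have h1 := rB_rev Φ r r
  rw [h, rB_self] at h1
  norm_num at h1

/-- Fold a root to the index of its pair. -/
def fold (r : Fin N7) : Fin 63 := ⟨(if 63 ≤ r.val then r.val - 63 else 62 - r.val) % 63, Nat.mod_lt _ (by norm_num)⟩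

/-- The positive root of a pair. -/
def unfold63 (i : Fin 63) : Fin N7 := ⟨(63 + i.val) % N7, Nat.mod_lt _ (by decide +kernel)⟩

theorem fold_facts : (∀ r : Fin N7, unfold63 (fold r) = r ∨ unfold63 (fold r) = r.rev) ∧
    (∀ r : Fin N7, fold r.rev = fold r) ∧ ∀ i, fold (unfold63 i) = i := by
  refine ⟨?_, ?_, ?_⟩ <;> decide +kernel

theorem exists_sq_fixed {σ : Equiv.Perm (Fin N7)} (hσ : σ ∈ Φ.WL) (h : σ ^ 2 ^ 10 = 1) : ∃ r, (σ ^ 2) r = r := by
  obtain ⟨f1, f2, f3⟩ := fold_facts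
  let t : Fin 63 → Fin 63 := fun i => fold (σ (unfold63 i))
  have key : ∀ r, t (fold r) = fold (σ r) := fun r => by
    rcases f1 r with e | e
    · simp only [t, e]
    · simp only [t, e, Φ.map_rev hσ, f2]
  have hn : ∀ (n : ℕ) (i : Fin 63), t^[n] i = fold ((σ ^ n) (unfold63 i)) := by
    intro n
    induction n with
    | zero => intro i; simp [f3]
    | succ n ih => intro i; rw [Function.iterate_succ_apply', ih, key, pow_succ', Equiv.Perm.mul_apply]
  have hinv : ∀ i, t^[2 ^ 10] i = i := fun i => by rw [hn, h, Equiv.Perm.one_apply, f3]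
  have hinj : Function.Injective t := fun a b hab => by
    rw [← hinv a, ← hinv b, show 2 ^ 10 = (2 ^ 10 - 1) + 1 by norm_num, Function.iterate_succ_apply,
      Function.iterate_succ_apply, hab]
  let τ : Equiv.Perm (Fin 63) := Equiv.ofBijective t (Finite.injective_iff_bijective.1 hinj)
  have hτ : τ ^ 2 ^ 10 = 1 := Equiv.ext fun i => by
    rw [Equiv.Perm.coe_pow]
    exact hinv i
  haveI : Fact (Nat.Prime 2) := ⟨Nat.prime_two⟩
  obtain ⟨i, hi⟩ := Equiv.Perm.exists_fixed_point_of_prime (p := 2) (n := 10) (by simp) hτ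
  refine ⟨unfold63 i, ?_⟩
  have hi' : fold (σ (unfold63 i)) = i := hi
  rw [pow_two, Equiv.Perm.mul_apply]
  rcases f1 (σ (unfold63 i)) with e | e <;> rw [hi'] at e
  · rw [← e, ← e]
  · have e' : σ (unfold63 i) = (unfold63 i).rev := by rw [congrArg Fin.rev e, Fin.rev_rev]
    rw [e', Φ.map_rev hσ, e', Fin.rev_rev]

theorem card_stable {π : Equiv.Perm (Fin N7)} (S : Finset (Fin N7)) (hS : ∀ x ∈ S, π x ∈ S)
    (hper : ∀ x ∈ S, ∀ k : ℕ, (π ^ k) x = x → 12 ∣ k) : 12 ∣ S.card := by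
  classical
  induction S using Finset.strongInduction with
  | H S ih =>
    rcases S.eq_empty_or_nonempty with rfl | ⟨x, hx⟩
    · simp
    have hex : ∃ k, 0 < k ∧ (π ^ k) x = x := ⟨orderOf π, orderOf_pos π, by rw [pow_orderOf_eq_one]; rfl⟩
    set k := Nat.find hex
    obtain ⟨hk0, hk⟩ := Nat.find_spec hex
    set O := (Finset.range k).image fun i => (π ^ i) x with hO
    have hOS : O ⊆ S := by
      intro y hy
      obtain ⟨i, -, rfl⟩ := Finset.mem_image.1 hy
      clear hy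
      induction i with
      | zero => simpa using hx
      | succ i ihi => rw [pow_succ', Equiv.Perm.mul_apply]; exact hS _ ihi
    have hOc : O.card = k := by
      rw [hO, Finset.card_image_of_injOn, Finset.card_range]
      have key : ∀ i j, i < j → j < k → (π ^ i) x ≠ (π ^ j) x := fun i j hij hj e => by
        refine Nat.find_min hex (show j - i < k by omega) ⟨by omega, (π ^ i).injective ?_⟩
        rw [← Equiv.Perm.mul_apply, ← pow_add, show i + (j - i) = j by omega, ← e]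
      intro i hi j hj e
      rcases lt_trichotomy i j with h | h | h
      · exact absurd e (key i j h (Finset.mem_range.1 hj))
      · exact h
      · exact absurd e.symm (key j i h (Finset.mem_range.1 hi))
    have hne : O.Nonempty := ⟨x, Finset.mem_image.2 ⟨0, Finset.mem_range.2 hk0, by simp⟩⟩
    have hrec : 12 ∣ (S \ O).card := by
      refine ih _ (Finset.sdiff_ssubset hOS hne) (fun y hy => ?_) fun y hy => hper y (Finset.mem_sdiff.1 hy).1
      obtain ⟨hyS, hyO⟩ := Finset.mem_sdiff.1 hy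
      refine Finset.mem_sdiff.2 ⟨hS y hyS, fun hπy => hyO ?_⟩
      obtain ⟨i, hi, e⟩ := Finset.mem_image.1 hπy
      obtain ⟨j, hj, e'⟩ : ∃ j, j < k ∧ (π ^ (j + 1)) x = π y := by
        rcases Nat.eq_zero_or_pos i with rfl | hi0
        · exact ⟨k - 1, by omega, by rw [Nat.sub_add_cancel hk0, hk, ← e]; rfl⟩
        · exact ⟨i - 1, by have := Finset.mem_range.1 hi; omega, by rw [Nat.sub_add_cancel hi0, e]⟩
      rw [pow_succ', Equiv.Perm.mul_apply] at e'
      exact Finset.mem_image.2 ⟨j, Finset.mem_range.2 hj, π.injective e'⟩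
    rw [Finset.card_sdiff_of_subset hOS, hOc] at hrec
    have hk12 : 12 ∣ k := hper x hx k hk
    have hle : k ≤ S.card := hOc ▸ Finset.card_le_card hOS
    omega

/-- A base of `U` in the sense of the next theorem cannot be longer than three. -/
theorem rank_le_three {n : ℕ} {x : Fin n → Fin n7 → ℤ} {Y : Fin 4 → Fin n7 → ℤ} (hx : LinearIndependent ℤ x)
    (hY : LinearIndependent ℤ Y) (h : ∀ a b, x a ⬝ᵥ Y b = 0) : n ≤ 3 := by
  classical
  set A : Matrix (Fin n) (Fin n7) ℚ := Matrix.of fun a j => (x a j : ℚ) with hA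
  have cast_li : ∀ {m : ℕ} {z : Fin m → Fin n7 → ℤ}, LinearIndependent ℤ z →
      LinearIndependent ℚ fun a => (fun j => (z a j : ℚ)) := fun {m z} hz => by
    rw [← LinearIndependent.iff_fractionRing ℤ ℚ]
    exact hz.map' ((Int.castAddHom ℚ).toIntLinearMap.compLeft (Fin n7))
      (LinearMap.ker_eq_bot.2 fun a b e => funext fun j => Int.cast_injective (congrFun e j :))
  have hrank : A.rank = n := by
    have := LinearIndependent.rank_matrix (M := A) (cast_li hx)
    simpa using this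
  have hker : 4 ≤ Module.finrank ℚ (LinearMap.ker A.mulVecLin) := by
    have hli : LinearIndependent ℚ fun b : Fin 4 => (⟨fun j => (Y b j : ℚ), by
        rw [LinearMap.mem_ker, Matrix.mulVecLin_apply]
        funext a
        have := congrArg (fun z : ℤ => (z : ℚ)) (h a b)
        simpa [hA, Matrix.mulVec, dotProduct] using this⟩ : LinearMap.ker A.mulVecLin) :=
      LinearIndependent.of_comp (LinearMap.ker A.mulVecLin).subtype (cast_li hY)
    simpa using hli.fintype_card_le_finrank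
  have h1 := LinearMap.finrank_range_add_finrank_ker A.mulVecLin
  rw [show Module.finrank ℚ (LinearMap.range A.mulVecLin) = n from hrank, Module.finrank_fin_fun] at h1
  have : n7 = 7 := rfl
  omega

/-- The zero set of an eigenfunctional of order twelve. -/
theorem zero_roots {ℓ : ℕ} [Fact ℓ.Prime] (hℓ : 12 < ℓ) {π : Equiv.Perm (Fin N7)} (hπ : π ∈ Φ.WL)
    {v : Fin n7 → ZMod ℓ} (hv : v ≠ 0) {c : ZMod ℓ} (hc : IsPrimitiveRoot c 12)
    (hlam : ∀ r : Fin N7, lam Φ v (π r) = c * lam Φ v r) :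
    ∃ a : Fin N7, (∀ r, lam Φ v r = 0 ↔ (r = a ∨ r = a.rev ∨ r = π a ∨ r = (π a).rev ∨ r = π (π a) ∨
        r = (π (π a)).rev)) ∧
      rB Φ a (π a) = 0 ∧ rB Φ a (π (π a)) = 0 ∧ (π (π (π a)) = a ∨ π (π (π a)) = a.rev) ∧
      (∀ u : Fin n7 → ℤ, (2 : ℤ) • (u ᵥ* aeval (Pm Φ π) (cyclotomic 12 ℤ)) =
        Bf (u ᵥ* aeval (Pm Φ π) (cyclotomic 12 ℤ)) (Φ.V a) • Φ.V a +
        Bf (u ᵥ* aeval (Pm Φ π) (cyclotomic 12 ℤ)) (Φ.V (π a)) • Φ.V (π a) +
        Bf (u ᵥ* aeval (Pm Φ π) (cyclotomic 12 ℤ)) (Φ.V (π (π a))) • Φ.V (π (π a))) ∧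
      ∃ y : Fin n7 → ℤ, y ≠ 0 ∧ aeval (Pm Φ π) (cyclotomic 12 ℤ) *ᵥ y = 0 := by
  classical
  haveI : NeZero (12 : ℕ) := ⟨by norm_num⟩
  set P : Matrix (Fin n7) (Fin n7) ℤ := Pm Φ π with hPdef
  obtain ⟨N, hN⟩ : ∃ N, N = 2 ^ 10 * (3 ^ 4 * (5 * 7)) := ⟨_, rfl⟩
  have hcard : Nat.card Φ.WL = N := by rw [hN]; exact (cardWE7 Φ).trans (by norm_num)
  have hN0 : 0 < N := by rw [hN]; norm_num
  have h12N : 12 ∣ N := by rw [hN]; norm_num
  have hπN : π ^ N = 1 := by
    rw [← hcard]
    exact congrArg Subtype.val (pow_card_eq_one' (x := (⟨π, hπ⟩ : Φ.WL)))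
  have hPm : P ^ N = 1 := by rw [hPdef, ← Pm_pow Φ hπ, hπN]; exact Pm_one Φ
  have hPv : P.map (Int.castRingHom (ZMod ℓ)) *ᵥ v = c • v := funext fun k => by
    rw [Pi.smul_apply, smul_eq_mul, ← lam_p Φ v k, ← hlam]
    rfl
  obtain ⟨y, m, hm, hym, hyr⟩ := exists_annihilator Φ (v := v) (th := top7)
    (fun r j => by rw [V_eq Φ, V_eq Φ]; exact crd_le r j) (fun k => by rw [V_eq Φ]; exact (crd_top k).1)
    (fun k => by rw [V_eq Φ]; have := (crd_top k).2; omega)
  set R : ℤ[X] := ∏ d ∈ N.divisors.erase 12, cyclotomic d ℤ with hR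
  have hRX : cyclotomic 12 ℤ * R = X ^ N - 1 := by
    rw [hR, Finset.mul_prod_erase _ (fun d => cyclotomic d ℤ)
      (Nat.mem_divisors.2 ⟨h12N, hN0.ne'⟩), prod_cyclotomic_eq_X_pow_sub_one hN0]
  set y12 := aeval P R *ᵥ y with hy12
  have h12 : aeval P (cyclotomic 12 ℤ) *ᵥ y12 = 0 := by
    rw [hy12, Matrix.mulVec_mulVec, ← map_mul, hRX, map_sub, map_pow, aeval_X, map_one, hPm, sub_self,
      Matrix.zero_mulVec]
  have hy12ne : y12 ≠ 0 := by
    intro h0
    have h1 : (Int.castRingHom (ZMod ℓ)) ∘ y12 = 0 := by rw [h0]; exact funext fun i => map_zero _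
    have h2 : (Int.castRingHom (ZMod ℓ)) ∘ y = (m : ZMod ℓ) • v := funext fun k => hym k
    rw [hy12, show (Int.castRingHom (ZMod ℓ)) ∘ (aeval P R *ᵥ y) =
      (aeval P R).map (Int.castRingHom (ZMod ℓ)) *ᵥ (Int.castRingHom (ZMod ℓ) ∘ y) from
        funext fun i => RingHom.map_mulVec _ _ _ i, map_aeval_int, h2, Matrix.mulVec_smul,
      aeval_mulVec_eigen _ hPv, smul_smul] at h1
    have h3 := (smul_eq_zero.1 h1).resolve_right hv
    rw [hR, Polynomial.map_prod, eval_prod] at h3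
    simp only [map_cyclotomic] at h3
    obtain ⟨d, hd, hd0⟩ := Finset.prod_eq_zero_iff.1 ((mul_eq_zero.1 h3).resolve_left hm)
    obtain ⟨hde, hdm⟩ := Finset.mem_erase.1 hd
    haveI : NeZero (d : ZMod ℓ) := ⟨fun h => by
      have h5 : ℓ ∣ 2 ^ 10 * (3 ^ 4 * (5 * 7)) :=
        hN ▸ dvd_trans ((ZMod.natCast_eq_zero_iff _ _).1 h) (Nat.dvd_of_mem_divisors hdm)
      have hl : ℓ.Prime := Fact.out
      rcases (Nat.Prime.dvd_mul hl).1 h5 with h6 | h6
      · have := Nat.le_of_dvd (by norm_num) (hl.dvd_of_dvd_pow h6); omega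
      · rcases (Nat.Prime.dvd_mul hl).1 h6 with h7 | h7
        · have := Nat.le_of_dvd (by norm_num) (hl.dvd_of_dvd_pow h7); omega
        · rcases (Nat.Prime.dvd_mul hl).1 h7 with h8 | h8 <;>
          · have := Nat.le_of_dvd (by norm_num) h8; omega⟩
    exact hde ((isRoot_cyclotomic_iff.1 hd0).unique hc)
  -- the recurrence
  have hrec : ∀ (u : Fin n7 → ℤ) i, u ⬝ᵥ (P ^ (i + 4) *ᵥ y12) =
      u ⬝ᵥ (P ^ (i + 2) *ᵥ y12) - u ⬝ᵥ (P ^ i *ᵥ y12) := fun u i => by
    have h := congrArg (fun z => u ⬝ᵥ (P ^ i *ᵥ z)) h12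
    simp only [cyclotomic_twelve, map_add, map_sub, map_pow, aeval_X, map_one, Matrix.add_mulVec,
      Matrix.sub_mulVec, Matrix.one_mulVec, Matrix.mulVec_add, Matrix.mulVec_sub, Matrix.mulVec_mulVec,
      ← pow_add, dotProduct_add, dotProduct_sub, Matrix.mulVec_zero, dotProduct_zero] at h
    omega
  have hY : LinearIndependent ℤ fun b : Fin 4 => P ^ (b : ℕ) *ᵥ y12 := by
    rw [Fintype.linearIndependent_iff]
    intro g hg i
    by_contra hgi
    set Q : ℚ[X] := ∑ b : Fin 4, monomial (b : ℕ) (g b : ℚ) with hQ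
    refine hy12ne (eq_zero_of_not_dvd (by norm_num) h12 (Q := Q) ?_ ?_)
    · rw [hQ, map_sum, Matrix.sum_mulVec]
      funext k
      have hk := congrArg (fun z : ℤ => (z : ℚ)) (congrFun hg k)
      simp only [Finset.sum_apply, Pi.smul_apply, smul_eq_mul, Int.cast_sum, Int.cast_mul, Pi.zero_apply,
        Int.cast_zero] at hk
      rw [Finset.sum_apply, Pi.zero_apply, ← hk]
      refine Finset.sum_congr rfl fun b _ => ?_
      rw [aeval_monomial, ← Algebra.smul_def, Matrix.smul_mulVec, Pi.smul_apply, smul_eq_mul]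
      congr 1
      rw [show P.map (Int.castRingHom ℚ) = (Int.castRingHom ℚ).mapMatrix P from rfl, ← map_pow]
      exact (RingHom.map_mulVec (Int.castRingHom ℚ) _ y12 k).symm
    · intro hd
      have hne : Q ≠ 0 := fun h0 => hgi (by
        have := congrArg (fun Q => Polynomial.coeff Q (i : ℕ)) h0
        simpa [hQ, Polynomial.coeff_monomial, Fin.val_inj, Finset.sum_ite_eq'] using this)
      have h1 := Polynomial.degree_le_of_dvd hd hne
      have h2 : Q.degree < ((4 : ℕ) : WithBot ℕ) := by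
        refine (Polynomial.degree_sum_le _ _).trans_lt ?_
        refine (Finset.sup_lt_iff (WithBot.bot_lt_coe _)).2 fun j _ => ?_
        exact (Polynomial.degree_monomial_le _ _).trans_lt (WithBot.coe_lt_coe.2 j.isLt)
      rw [degree_cyclotomic, show Nat.totient 12 = 4 from by decide] at h1
      exact absurd (lt_of_le_of_lt h1 h2) (lt_irrefl _)
  let InU : (Fin n7 → ℤ) → Prop := fun u => ∀ i, u ⬝ᵥ (P ^ i *ᵥ y12) = 0
  set Zs : Finset (Fin N7) := Finset.univ.filter fun r => lam Φ v r = 0 with hZs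
  have memZ : ∀ r, r ∈ Zs ↔ lam Φ v r = 0 := fun r => by simp [hZs]
  have hZπ : ∀ r ∈ Zs, π r ∈ Zs := fun r hr => (memZ _).2 (by rw [hlam, (memZ _).1 hr, mul_zero])
  have hZrev : ∀ r ∈ Zs, r.rev ∈ Zs := fun r hr => (memZ _).2 (by rw [lam_rev, (memZ _).1 hr, neg_zero])
  have hiter : ∀ (n : ℕ) r, lam Φ v ((π ^ n) r) = c ^ n * lam Φ v r := by
    intro n
    induction n with
    | zero => simp
    | succ n ih => intro r; rw [pow_succ', Equiv.Perm.mul_apply, hlam, ih, pow_succ', mul_assoc]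
  have hperZ : ∀ r (k : ℕ), ¬ 12 ∣ k → (π ^ k) r = r → r ∈ Zs := fun r k hk h => by
    have h1 := hiter k r
    rw [h] at h1
    refine (memZ r).2 (by_contra fun hne => hk (hc.dvd_of_pow_eq_one k ?_))
    exact mul_right_cancel₀ hne (h1.symm.trans (one_mul _).symm)
  have hstab : ∀ S : Finset (Fin N7), (∀ x ∈ S, π x ∈ S) → (∀ x ∈ S, x ∉ Zs) → 12 ∣ S.card :=
    fun S hS hd => card_stable S hS fun x hx k hk => by_contra fun h => hd x hx (hperZ x k h hk)
  have hZU : ∀ r ∈ Zs, InU (Φ.V r) := fun r hr i => by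
    have hQ : ∀ Q : ℤ[X], Φ.V r ⬝ᵥ (aeval P Q *ᵥ y) = 0 := fun Q => by
      induction Q using Polynomial.induction_on' with
      | add Q S hQ hS => rw [map_add, Matrix.add_mulVec, dotProduct_add, hQ, hS, add_zero]
      | monomial n z =>
        rw [aeval_monomial, ← Algebra.smul_def, Matrix.smul_mulVec, dotProduct_smul,
          Matrix.dotProduct_mulVec, hPdef, ← Pm_pow Φ hπ, ← V_vecMul Φ (pow_mem hπ n),
          hyr _ (by rw [hiter, (memZ r).1 hr, mul_zero]), smul_zero]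
    rw [hy12, Matrix.mulVec_mulVec]
    have := hQ (X ^ i * R)
    rwa [map_mul, map_pow, aeval_X] at this
  -- nonempty
  obtain ⟨r0, hr0⟩ : ∃ r, r ∈ Zs := by
    have hσ : π ^ (3 ^ 4 * (5 * 7)) ∈ Φ.WL := pow_mem hπ _
    obtain ⟨r, hr⟩ := exists_sq_fixed Φ hσ (by rw [← pow_mul, show 3 ^ 4 * (5 * 7) * 2 ^ 10 = N by rw [hN]; ring, hπN])
    rw [← pow_mul] at hr
    exact ⟨r, hperZ r _ (by norm_num) hr⟩
  -- at most fourteen
  have hle : Zs.card ≤ 14 := by
    set L : Submodule ℤ (Fin n7 → ℤ) := Submodule.span ℤ (Φ.V '' (Zs : Set (Fin N7))) with hL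
    let bs := Module.finBasis ℤ L
    have hLU : ∀ u ∈ L, InU u := fun u hu => by
      induction hu using Submodule.span_induction with
      | mem x hx => obtain ⟨r, hr, rfl⟩ := hx; exact hZU r (Finset.mem_coe.1 hr)
      | zero => intro i; exact zero_dotProduct _
      | add x w _ _ hx hw => intro i; rw [add_dotProduct, hx i, hw i, add_zero]
      | smul z x _ hx => intro i; rw [smul_dotProduct, hx i, smul_zero]
    have hn : Module.finrank ℤ L ≤ 3 :=
      rank_le_three (x := fun i => (bs i : Fin n7 → ℤ))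
        (bs.linearIndependent.map' L.subtype L.ker_subtype) hY fun a b => hLU _ (bs a).2 b
    let φ : Fin N7 → (Fin (Module.finrank ℤ L) → ZMod 2) := fun r i =>
      if h : r ∈ Zs then ((bs.repr ⟨Φ.V r, Submodule.subset_span ⟨r, h, rfl⟩⟩ i : ℤ) : ZMod 2) else 0
    have half : ∀ w : L, (∀ i, ((bs.repr w i : ℤ) : ZMod 2) = 0) →
        ∃ u : Fin n7 → ℤ, (w : Fin n7 → ℤ) = (2 : ℤ) • u := fun w hw => by
      choose d hd using fun i => (ZMod.intCast_zmod_eq_zero_iff_dvd _ 2).1 (hw i)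
      refine ⟨((∑ i, d i • bs i : L) : Fin n7 → ℤ), ?_⟩
      conv_lhs => rw [← bs.sum_repr w]
      simp only [hd, Submodule.coe_sum, Submodule.coe_smul, Finset.smul_sum, smul_smul, Nat.cast_ofNat]
    have hsq : ∀ u : Fin n7 → ℤ, Bf ((2 : ℤ) • u) ((2 : ℤ) • u) = 4 * Bf u u := fun u => by
      simp only [Bf, Matrix.mulVec_smul, dotProduct_smul, smul_dotProduct, smul_eq_mul]
      ring
    have hfib : ∀ r ∈ Zs, ∀ s ∈ Zs, φ r = φ s → s = r ∨ s = r.rev := fun r hr s hs e => by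
      obtain ⟨u, hu⟩ := half (⟨Φ.V r, Submodule.subset_span ⟨r, hr, rfl⟩⟩ -
          ⟨Φ.V s, Submodule.subset_span ⟨s, hs, rfl⟩⟩) fun i => by
        have := congrFun e i
        simp only [φ, dif_pos hr, dif_pos hs] at this
        rw [map_sub, Finsupp.sub_apply, Int.cast_sub, this, sub_self]
      have h1 : Bf (Φ.V r - Φ.V s) (Φ.V r - Φ.V s) = 4 * Bf u u := by rw [← hsq u, ← hu]; rfl
      simp only [Bf, Matrix.mulVec_sub, dotProduct_sub, sub_dotProduct] at h1
      have e1 := rB_self Φ r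
      have e2 := rB_self Φ s
      have e3 := rB_comm Φ r s
      obtain ⟨b1, b2, -, -⟩ := (root_pairing Φ r).2.2.1 s
      obtain ⟨k, hk⟩ := Bf_even u
      refine eq_or_rev Φ ?_
      simp only [rB, Bf] at e1 e2 e3 b1 b2 hk ⊢
      omega
    have hnz : ∀ r ∈ Zs, φ r ≠ 0 := fun r hr e => by
      obtain ⟨u, hu⟩ := half ⟨Φ.V r, Submodule.subset_span ⟨r, hr, rfl⟩⟩ fun i => by
        have := congrFun e i
        simpa only [φ, dif_pos hr, Pi.zero_apply] using this
      have h1 : rB Φ r r = 4 * Bf u u := by rw [← hsq u, ← hu]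
      rw [rB_self] at h1
      omega
    have h2 : Zs.card ≤ 2 * (Zs.image φ).card := Finset.card_le_mul_card_image _ 2 fun w hw => by
      obtain ⟨r, hr, rfl⟩ := Finset.mem_image.1 hw
      refine (Finset.card_le_card (t := {r, r.rev}) fun s hs => ?_).trans Finset.card_le_two
      obtain ⟨hs1, hs2⟩ := Finset.mem_filter.1 hs
      rcases hfib r hr s hs1 hs2.symm with h | h <;> simp [h]
    have h3 : (Zs.image φ).card ≤ 2 ^ Module.finrank ℤ L - 1 := by
      refine (Finset.card_le_card (t := Finset.univ.erase (0 : Fin (Module.finrank ℤ L) → ZMod 2)) fun w hw => ?_).trans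
        (le_of_eq ?_)
      · obtain ⟨r, hr, rfl⟩ := Finset.mem_image.1 hw
        exact Finset.mem_erase.2 ⟨hnz r hr, Finset.mem_univ _⟩
      · rw [Finset.card_erase_of_mem (Finset.mem_univ _), Finset.card_univ, Fintype.card_fun, ZMod.card,
          Fintype.card_fin]
    have h4 : 2 ^ Module.finrank ℤ L ≤ 2 ^ 3 := Nat.pow_le_pow_right (by norm_num) hn
    omega
  have hsix : Zs.card = 6 := by
    have h1 : 12 ∣ (Finset.univ \ Zs).card := hstab _ (fun x hx => ?_) fun x hx => (Finset.mem_sdiff.1 hx).2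
    · have : 0 < Zs.card := Finset.card_pos.2 ⟨r0, hr0⟩
      rw [Finset.card_sdiff_of_subset (Finset.subset_univ _), Finset.card_univ, Fintype.card_fin] at h1
      have : N7 = 126 := rfl
      omega
    · refine Finset.mem_sdiff.2 ⟨Finset.mem_univ _, fun h => (Finset.mem_sdiff.1 hx).2 ?_⟩
      rw [memZ] at h ⊢
      rw [hlam] at h
      exact (mul_eq_zero.1 h).resolve_left (hc.ne_zero (by norm_num))
  -- orth set of the zero set
  have hdist : ∀ a b : Fin N7, rB Φ a b ≠ 2 → rB Φ a b ≠ -2 → a ≠ b ∧ a.rev ≠ b ∧ a ≠ b.rev := by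
    intro a b h1 h2
    refine ⟨fun e => h1 ?_, fun e => h2 ?_, fun e => h2 ?_⟩
    · rw [← e, rB_self]
    · rw [← e, rB_rev, rB_self]
    · rw [show b = a.rev by rw [e, Fin.rev_rev], rB_rev, rB_self]
  have six_set : ∀ a b d : Fin N7, a ∈ Zs → b ∈ Zs → d ∈ Zs → rB Φ a b ≠ 2 → rB Φ a b ≠ -2 →
      rB Φ a d ≠ 2 → rB Φ a d ≠ -2 → rB Φ b d ≠ 2 → rB Φ b d ≠ -2 →
      Zs = {a, a.rev, b, b.rev, d, d.rev} := by
    intro a b d ha hb hd h1 h2 h3 h4 h5 h6
    obtain ⟨a1, a2, a3⟩ := hdist a b h1 h2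
    obtain ⟨b1, b2, b3⟩ := hdist a d h3 h4
    obtain ⟨d1, d2, d3⟩ := hdist b d h5 h6
    refine (Finset.eq_of_subset_of_card_le (fun x hx => ?_) ?_).symm
    · simp only [Finset.mem_insert, Finset.mem_singleton] at hx
      rcases hx with rfl | rfl | rfl | rfl | rfl | rfl <;> first | assumption | exact hZrev _ (by assumption)
    · rw [hsix]
      refine le_of_eq (Eq.symm ?_)
      have ra := rev_ne Φ a
      have rb := rev_ne Φ b
      have rd := rev_ne Φ d
      have n1 : a.rev ≠ b.rev := fun e => a1 (Fin.rev_injective e)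
      have n2 : a.rev ≠ d.rev := fun e => b1 (Fin.rev_injective e)
      have n3 : b.rev ≠ d.rev := fun e => d1 (Fin.rev_injective e)
      rw [Finset.card_insert_of_notMem (by simp [ra.symm, a1, a3, b1, b3]),
        Finset.card_insert_of_notMem (by simp [a2, n1, b2, n2]),
        Finset.card_insert_of_notMem (by simp [rb.symm, d1, d3]),
        Finset.card_insert_of_notMem (by simp [d2, n3]),
        Finset.card_insert_of_notMem (by simp [rd.symm]), Finset.card_singleton]
  have hortho : ∀ a ∈ Zs, ∀ b ∈ Zs, rB Φ a b = 0 ∨ b = a ∨ b = a.rev := by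
    intro a ha b hb
    by_contra hcon
    push Not at hcon
    obtain ⟨h0, hba, hbr⟩ := hcon
    obtain ⟨l1, l2, l3, l4⟩ := (root_pairing Φ a).2.2.1 b
    obtain ⟨b', hb', hab⟩ : ∃ b' ∈ Zs, rB Φ a b' = -1 := by
      rcases (show rB Φ a b = -1 ∨ rB Φ a b = 1 by
        have : rB Φ a b ≠ 2 := fun h => hba (l3 h)
        have : rB Φ a b ≠ -2 := fun h => hbr (l4 h)
        omega) with h | h
      · exact ⟨b, hb, h⟩
      · exact ⟨b.rev, hZrev b hb, by rw [rB_rev, h]⟩
    set d := rootRefl Φ a b' with hd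
    have hVd : Φ.V d = Φ.V b' + Φ.V a := funext fun j => by
      rw [hd, V_rootRefl, (root_pairing Φ a).2.1 b', hab, Pi.add_apply]
      ring
    have hdZ : d ∈ Zs := (memZ d).2 (by
      have h1 : lam Φ v d = lam Φ v b' + lam Φ v a := by
        simp only [lam, hVd, Pi.add_apply, Int.cast_add, add_mul, Finset.sum_add_distrib]
      rw [h1, (memZ _).1 ha, (memZ _).1 hb', add_zero])
    have hx : ∀ x, rB Φ x d = rB Φ x b' + rB Φ x a := fun x => by
      simp only [rB, Bf, hVd, Matrix.mulVec_add, dotProduct_add]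
    have hd1 : rB Φ a d = 1 := by rw [hx, hab, rB_self]; norm_num
    have hd2 : rB Φ b' d = 1 := by rw [hx, rB_self, rB_comm Φ b' a, hab]; norm_num
    have hset := six_set a b' d ha hb' hdZ (by omega) (by omega) (by omega) (by omega) (by omega) (by omega)
    set O := Finset.univ.filter fun x => rB Φ a x = 0 ∧ rB Φ b' x = 0 with hO
    have hall : ∀ x ∈ O, ∀ z ∈ Zs, rB Φ z x = 0 := fun x hxO z hz => by
      obtain ⟨-, e1, e2⟩ := Finset.mem_filter.1 hxO
      have e3 : rB Φ x d = 0 := by rw [hx, rB_comm Φ x b', rB_comm Φ x a, e1, e2, add_zero]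
      rw [hset] at hz
      simp only [Finset.mem_insert, Finset.mem_singleton] at hz
      rw [rB_comm Φ z x]
      rw [rB_comm] at e1 e2
      rcases hz with rfl | rfl | rfl | rfl | rfl | rfl <;> simp [rB_rev, e1, e2, e3]
    have hOπ : ∀ x ∈ O, π x ∈ O := fun x hxO => by
      obtain ⟨s1, hs1, hs1'⟩ : ∃ s ∈ Zs, π s = a := by
        have himg : Zs.image π = Zs := Finset.eq_of_subset_of_card_le
          (fun w hw => by obtain ⟨s, hs, rfl⟩ := Finset.mem_image.1 hw; exact hZπ s hs)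
          (le_of_eq (Finset.card_image_of_injective _ π.injective).symm)
        rw [← himg] at ha
        exact Finset.mem_image.1 ha
      obtain ⟨s2, hs2, hs2'⟩ : ∃ s ∈ Zs, π s = b' := by
        have himg : Zs.image π = Zs := Finset.eq_of_subset_of_card_le
          (fun w hw => by obtain ⟨s, hs, rfl⟩ := Finset.mem_image.1 hw; exact hZπ s hs)
          (le_of_eq (Finset.card_image_of_injective _ π.injective).symm)
        rw [← himg] at hb'
        exact Finset.mem_image.1 hb'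
      refine Finset.mem_filter.2 ⟨Finset.mem_univ _, ?_, ?_⟩
      · rw [← hs1', rB_map Φ hπ, hall x hxO s1 hs1]
      · rw [← hs2', rB_map Φ hπ, hall x hxO s2 hs2]
    have h12' := hstab O hOπ fun x hxO hxZ => by
      have := hall x hxO x hxZ
      rw [rB_self] at this
      norm_num at this
    rw [hO, (root_pairing Φ a).2.2.2.2 b' hab] at h12'
    norm_num at h12'
  have hmove : ∀ a ∈ Zs, π a ≠ a ∧ π a ≠ a.rev := by
    intro a ha
    rw [← not_or]
    intro hπa
    set O := (Finset.univ.filter fun x => rB Φ a x = 0) \ Zs with hO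
    have hOπ : ∀ x ∈ O, π x ∈ O := fun x hx => by
      obtain ⟨hx1, hx2⟩ := Finset.mem_sdiff.1 hx
      refine Finset.mem_sdiff.2 ⟨Finset.mem_filter.2 ⟨Finset.mem_univ _, ?_⟩, fun h => hx2 ?_⟩
      · have h0 := (Finset.mem_filter.1 hx1).2
        rw [← rB_map Φ hπ] at h0
        rcases hπa with e | e
        · rwa [e] at h0
        · rw [e, rB_comm, rB_rev, neg_eq_zero, rB_comm] at h0
          exact h0
      · rw [memZ] at h ⊢
        rw [hlam] at h
        exact (mul_eq_zero.1 h).resolve_left (hc.ne_zero (by norm_num))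
    have h12' := hstab O hOπ fun x hx => (Finset.mem_sdiff.1 hx).2
    have hin : (Finset.univ.filter fun x => rB Φ a x = 0) ∩ Zs = (Zs.erase a).erase a.rev := by
      ext x
      simp only [Finset.mem_inter, Finset.mem_filter, Finset.mem_univ, true_and, Finset.mem_erase]
      constructor
      · rintro ⟨h0, hx⟩
        refine ⟨fun e => ?_, fun e => ?_, hx⟩ <;> subst e
        · rw [rB_rev, rB_self] at h0; norm_num at h0
        · rw [rB_self] at h0; norm_num at h0
      · rintro ⟨h1, h2, hx⟩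
        exact ⟨((hortho a ha x hx).resolve_right (by simp [h1, h2])), hx⟩
    have h4 : ((Zs.erase a).erase a.rev).card = 4 := by
      rw [Finset.card_erase_of_mem (Finset.mem_erase.2 ⟨rev_ne Φ a, hZrev a ha⟩), Finset.card_erase_of_mem ha, hsix]
    rw [hO, Finset.card_sdiff, Finset.inter_comm, hin, h4, (root_pairing Φ a).2.2.2.1] at h12'
    norm_num at h12'
  have orth : ∀ x ∈ Zs, ∀ z ∈ Zs, z ≠ x → z ≠ x.rev → rB Φ x z = 0 := fun x hx z hz h1 h2 =>
    (hortho x hx z hz).resolve_right (by simp [h1, h2])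
  set b := π r0 with hb
  set d := π b with hd
  have hbZ : b ∈ Zs := hZπ _ hr0
  have hdZ : d ∈ Zs := hZπ _ hbZ
  have o1 : rB Φ r0 b = 0 := orth _ hr0 _ hbZ (hmove _ hr0).1 (hmove _ hr0).2
  have o2 : rB Φ b d = 0 := orth _ hbZ _ hdZ (hmove _ hbZ).1 (hmove _ hbZ).2
  have o3 : rB Φ r0 d = 0 := by
    by_contra h3
    rcases (hortho r0 hr0 d hdZ).resolve_left h3 with hd0 | hd0
    all_goals
      obtain ⟨e, he, he'⟩ : ∃ e ∈ Zs, e ∉ ({r0, r0.rev, b, b.rev} : Finset (Fin N7)) := by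
        by_contra! hc'
        have := (Finset.card_le_card hc').trans Finset.card_le_four
        omega
      simp only [Finset.mem_insert, Finset.mem_singleton, not_or] at he'
      obtain ⟨e1, e2, e3, e4⟩ := he'
      have oe1 : rB Φ r0 e = 0 := orth _ hr0 _ he e1 e2
      have oe2 : rB Φ b e = 0 := orth _ hbZ _ he e3 e4
      have hs := six_set r0 b e hr0 hbZ he (by omega) (by omega) (by omega) (by omega) (by omega) (by omega)
      have hπe := hZπ e he
      have i1 : rB Φ b (π e) = 0 := (rB_map Φ hπ r0 e).trans oe1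
      have i2 : rB Φ d (π e) = 0 := (rB_map Φ hπ b e).trans oe2
      rw [hd0] at i2
      rw [hs] at hπe
      simp only [Finset.mem_insert, Finset.mem_singleton] at hπe
      rcases hπe with h | h | h | h | h | h
      · rw [h] at i2; simp [rB_rev, rB_comm Φ r0.rev r0, rB_self] at i2
      · rw [h] at i2; simp [rB_rev, rB_comm Φ r0.rev r0, rB_self] at i2
      · rw [h, rB_self] at i1; norm_num at i1
      · rw [h, rB_rev, rB_self] at i1; norm_num at i1
      · exact (hmove e he).1 h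
      · exact (hmove e he).2 h
  have hs := six_set r0 b d hr0 hbZ hdZ (by omega) (by omega) (by omega) (by omega) (by omega) (by omega)
  refine ⟨r0, fun r => ?_, o1, o3, ?_, fun u => ?_, y12, hy12ne, h12⟩
  · rw [← memZ, hs]
    simp [Finset.mem_insert, hb, hd]
  · have h3 : π d ∈ Zs := hZπ _ hdZ
    have i1 : rB Φ b (π d) = 0 := (rB_map Φ hπ r0 d).trans o3
    have i2 : rB Φ d (π d) = 0 := (rB_map Φ hπ b d).trans o2
    rw [hs] at h3
    simp only [Finset.mem_insert, Finset.mem_singleton] at h3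
    rcases h3 with h | h | h | h | h | h
    · exact Or.inl h
    · exact Or.inr h
    · rw [h, rB_self] at i1; norm_num at i1
    · rw [h, rB_rev, rB_self] at i1; norm_num at i1
    · rw [h, rB_self] at i2; norm_num at i2
    · rw [h, rB_rev, rB_self] at i2; norm_num at i2
  · -- the lattice orthogonal to the orbit of `y12`
    set z := u ᵥ* aeval P (cyclotomic 12 ℤ) with hz
    have hzU : InU z := fun i => by
      have e : aeval P (cyclotomic 12 ℤ) * P ^ i = P ^ i * aeval P (cyclotomic 12 ℤ) := by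
        simpa [map_mul] using congrArg (aeval P) (mul_comm (cyclotomic 12 ℤ) (X ^ i))
      rw [hz, ← Matrix.dotProduct_mulVec, Matrix.mulVec_mulVec, e, ← Matrix.mulVec_mulVec, h12,
        Matrix.mulVec_zero, dotProduct_zero]
    set T := fun i : Fin 3 => M7 *ᵥ Φ.V (![r0, b, d] i) with hT
    have hG : ∀ i j : Fin 3, Φ.V (![r0, b, d] i) ⬝ᵥ T j = if i = j then 2 else 0 := fun i j => by
      show rB Φ (![r0, b, d] i) (![r0, b, d] j) = _
      fin_cases i <;> fin_cases j <;> simp [rB_self, o1, o2, o3, rB_comm Φ b r0, rB_comm Φ d r0, rB_comm Φ d b]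
    have hVU : ∀ i : Fin 3, InU (Φ.V (![r0, b, d] i)) := fun i => by
      fin_cases i
      exacts [hZU _ hr0, hZU _ hbZ, hZU _ hdZ]
    have key : ∀ x : Fin n7 → ℤ, InU x → (∀ i, x ⬝ᵥ T i = 0) → x = 0 := fun x hxU hxT => by
      funext k
      by_contra hne
      have hli : LinearIndependent ℤ
          (Sum.elim (Sum.elim T fun b : Fin 4 => P ^ (b : ℕ) *ᵥ y12) fun _ : Fin 1 => Pi.single k 1) := by
        rw [Fintype.linearIndependent_iff]
        intro g hg
        rw [Fintype.sum_sum_type, Fintype.sum_sum_type] at hg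
        simp only [Sum.elim_inl, Sum.elim_inr, Fin.sum_univ_one] at hg
        have h0 : g (Sum.inr 0) = 0 := by
          have := congrArg (x ⬝ᵥ ·) hg
          simp only [dotProduct_add, dotProduct_sum, dotProduct_smul, smul_eq_mul, hxT, hxU _, mul_zero,
            Finset.sum_const_zero, zero_add, dotProduct_single, mul_one, dotProduct_zero] at this
          exact (mul_eq_zero.1 this).resolve_right hne
        rw [h0, zero_smul, add_zero] at hg
        have h1 : ∀ i, g (Sum.inl (Sum.inl i)) = 0 := fun i => by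
          have := congrArg (Φ.V (![r0, b, d] i) ⬝ᵥ ·) hg
          simp only [dotProduct_add, dotProduct_sum, dotProduct_smul, smul_eq_mul, hG, hVU i _, mul_zero,
            Finset.sum_const_zero, add_zero, mul_ite, Finset.sum_ite_eq, Finset.mem_univ, if_true,
            dotProduct_zero] at this
          omega
        simp only [h1, zero_smul, Finset.sum_const_zero, zero_add] at hg
        rintro ((i | i) | i)
        · exact h1 i
        · exact Fintype.linearIndependent_iff.1 hY _ hg i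
        · rwa [Subsingleton.elim i 0]
      have := hli.fintype_card_le_finrank
      simp at this
      exact absurd this (by decide +kernel)
    have h0 := key ((2 : ℤ) • z - (Bf z (Φ.V r0) • Φ.V r0 + Bf z (Φ.V b) • Φ.V b + Bf z (Φ.V d) • Φ.V d))
      (fun i => by
        simp only [sub_dotProduct, add_dotProduct, smul_dotProduct, hzU i]
        have e0 := hVU 0 i
        have e1 := hVU 1 i
        have e2 := hVU 2 i
        simp only [Matrix.cons_val_zero, Matrix.cons_val_one, Matrix.cons_val] at e0 e1 e2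
        rw [e0, e1, e2]; simp)
      (fun i => by
        show Bf _ (Φ.V (![r0, b, d] i)) = 0
        have hl : ∀ (s : ℤ) (x w : Fin n7 → ℤ), Bf (s • x) w = s * Bf x w := fun s x w => by
          simp only [Bf]; rw [smul_dotProduct]; rfl
        have ha' : ∀ x x' w : Fin n7 → ℤ, Bf (x + x') w = Bf x w + Bf x' w := fun x x' w => add_dotProduct _ _ _
        have hs' : ∀ x x' w : Fin n7 → ℤ, Bf (x - x') w = Bf x w - Bf x' w := fun x x' w => sub_dotProduct _ _ _
        rw [hs', ha', ha', hl, hl, hl, hl]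
        have q1 := rB_comm Φ b r0; have q2 := rB_comm Φ d r0; have q3 := rB_comm Φ d b
        have s0 := rB_self Φ r0; have s1 := rB_self Φ b; have s2 := rB_self Φ d
        simp only [rB] at q1 q2 q3 s0 s1 s2 o1 o2 o3
        fin_cases i <;> simp [q1, q2, q3, s0, s1, s2, o1, o2, o3] <;> ring)
    exact sub_eq_zero.1 h0

end CfsgLib.CoxTorus.E7
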