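import Cfsg.Agent.Lib.CoxTorus.E6Cover
import Cfsg.Agent.Lib.CoxTorus.E7Roots
import Cfsg.Agent.Lib.CoxTorus.SylowFixed
import Cfsg.Agent.Lib.Chev.Aut.Sylow

/-!
The twisted torus of type E7 inside the group over the small field: it is the image of the twisted torus
of the presented group.
-/

set_option autoImplicit false
set_option linter.dupNamespace false
set_option linter.unusedSectionVars false
set_option maxRecDepth 100000
set_option maxHeartbeats 800000

namespace CfsgLib.CoxTorus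

open Cfsg.Lie Matrix CfsgLib.Chev CfsgLib.Chev.Chev

/-- A torus element of the group lies in the diagonal subgroup. -/
theorem torus_mem_diag_of_mem_group {D : ChevalleyDatum} (Φ : Chev D) {K : Type*} [Field K] [Finite K]
    {c : Fin D.rank → Kˣ} (hc : Φ.toAlg.torus c ∈ D.group K) : Φ.toAlg.torus c ∈ D.diagonalSubgroup K := by
  have key : ∀ {S : Fin D.nroots → Prop}, ∀ x ∈ Φ.US K S,
      Φ.toAlg.torus c * x * (Φ.toAlg.torus c)⁻¹ ∈ Φ.US K S := by
    intro S x hx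
    induction hx using Subgroup.closure_induction with
    | mem y hy =>
      obtain ⟨r, t, hr, rfl⟩ := hy
      rw [Φ.toAlg.torus_xg, mul_inv_cancel_right]
      exact Φ.xg_mem_US hr _
    | one => simp
    | mul a b _ _ ha hb =>
      rw [show Φ.toAlg.torus c * (a * b) * (Φ.toAlg.torus c)⁻¹ = (Φ.toAlg.torus c * a * (Φ.toAlg.torus c)⁻¹) *
        (Φ.toAlg.torus c * b * (Φ.toAlg.torus c)⁻¹) by group]
      exact mul_mem ha hb
    | inv a _ ha =>
      rw [show Φ.toAlg.torus c * a⁻¹ * (Φ.toAlg.torus c)⁻¹ = (Φ.toAlg.torus c * a * (Φ.toAlg.torus c)⁻¹)⁻¹ by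
        group]
      exact inv_mem ha
  refine Φ.mem_H_of_normalizes hc (fun x hx => ?_) fun x hx => ?_
  · rw [Φ.posUnipotent_eq_US] at hx ⊢
    exact key x hx
  · rw [Φ.negUnipotent_eq_US] at hx ⊢
    exact key x hx

namespace E7

variable (Φ : Chev Cfsg.Lie.chevE7)

theorem M7_det : M7.det = 2 := by decide +kernel

theorem A_symm (a b : Fin n7) : Φ.A a (Φ.p b) = Φ.A b (Φ.p a) := by
  rw [A_p Φ a b, A_p Φ b a]
  exact (congrFun (congrFun M7_symm a) b).symm

theorem coHom_eq_expM (K : Type*) [Field K] : Φ.coHom K = expM M7 := by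
  refine MonoidHom.ext fun c => funext fun j => ?_
  show ∏ k, c k ^ Φ.A k (Φ.p j) = ∏ k, c k ^ M7 j k
  refine Finset.prod_congr rfl fun k _ => ?_
  rw [A_symm Φ k j, A_p Φ j k]

theorem card_ker_coHom (K : Type*) [Field K] [Finite K] :
    Nat.card (Φ.coHom K).ker = Nat.gcd (Nat.card Kˣ) 2 := by
  rcases Nat.lt_or_ge (Nat.card Kˣ % 2) 1 with h | h
  · have h2 : 2 ∣ Nat.card Kˣ := Nat.dvd_of_mod_eq_zero (by omega)
    rw [coHom_eq_expM Φ K, card_ker_expM_det M7 (by rw [M7_det]; norm_num) (by rw [M7_det]; exact h2), M7_det,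
      Nat.gcd_eq_right h2]
    rfl
  · have h2 : Nat.gcd (Nat.card Kˣ) 2 = 1 :=
      ((Nat.prime_two.coprime_iff_not_dvd).2 fun h' => by omega).symm
    rw [h2, Subgroup.card_eq_one, eq_bot_iff]
    intro z hz
    rw [MonoidHom.mem_ker, coHom_eq_expM Φ K] at hz
    have h1 : (Matrix.of A7 : Matrix (Fin n7) (Fin n7) ℤ) * M7 = Matrix.scalar (Fin n7) 2 := by
      ext j k
      rw [Matrix.mul_apply, Matrix.scalar_apply, Matrix.diagonal_apply]
      exact A7_inv j k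
    have h3 : expM (Matrix.scalar (Fin n7) (2 : ℤ)) z = 1 := by
      rw [← h1, expM_mul, hz, map_one]
    rw [Subgroup.mem_bot]
    funext k
    have hk : z k ^ 2 = 1 := by
      have := congrFun h3 k
      rw [expM_apply, Finset.prod_eq_single k (fun j _ hj => by
        rw [Matrix.scalar_apply, Matrix.diagonal_apply_ne _ (Ne.symm hj), _root_.zpow_zero]) (by simp),
        Matrix.scalar_apply, Matrix.diagonal_apply_eq, Pi.one_apply] at this
      exact_mod_cast this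
    have h4 := pow_gcd_eq_one.2 ⟨hk, pow_card_eq_one'⟩
    rwa [Nat.gcd_comm, h2, pow_one] at h4

/-- The twisted torus of the presented group maps onto the torus elements of the small group. -/
theorem image_spec {F K : Type*} [Field F] [Field K] [Finite F] [Finite K] (f : F →+* K) (σ : K ≃+* K)
    {q : ℕ} (hσq : ∀ x, σ x = x ^ q) (hσ : ∀ x, σ x = x ↔ x ∈ Set.range f)
    (hgcd : Nat.gcd (Nat.card Kˣ) 2 ∣ q - 1) (hq : 1 ≤ q)
    {π : Equiv.Perm (Fin N7)} (hπ : π ∈ Φ.WL)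
    (h0 : (Matrix.scalar (Fin n7) (q : ℤ) - Pm Φ π).det ≠ 0)
    (hK : (Matrix.scalar (Fin n7) (q : ℤ) - Pm Φ π).det.natAbs ∣ Nat.card Kˣ)
    {g : GL Cfsg.Lie.chevE7.Idx K} (hg : g ∈ Cfsg.Lie.chevE7.group K)
    (han : g⁻¹ * Matrix.GeneralLinearGroup.map σ.toRingHom g ∈ Cfsg.Lie.chevE7.monomialSubgroup K)
    (ham : Φ.Mono (g⁻¹ * Matrix.GeneralLinearGroup.map σ.toRingHom g) π) :
    ∃ C' : Subgroup (Fin n7 → Kˣ),
      Nat.card C' * Nat.gcd (Nat.card Kˣ) 2 = (Matrix.scalar (Fin n7) (q : ℤ) - Pm Φ π).det.natAbs ∧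
      ∀ d, d ∈ C' ↔ (Φ.toAlg.torus d ∈ Cfsg.Lie.chevE7.diagonalSubgroup K ∧
        ∃ v ∈ Cfsg.Lie.chevE7.group F, Matrix.GeneralLinearGroup.map f v = g * Φ.toAlg.torus d * g⁻¹) := by
  classical
  haveI : Fintype K := Fintype.ofFinite K
  have hσf : σ.toRingHom.comp f = f := RingHom.ext fun a => (hσ (f a)).2 ⟨a, rfl⟩
  have hadj : Φ.Adj := Φ.adj_of_check adjE7
  -- the centre
  set Z := (Φ.coHom K).ker with hZ
  have hZcard : Nat.card Z = Nat.gcd (Nat.card Kˣ) 2 := card_ker_coHom Φ K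
  have hcenter : Nat.card (Subgroup.center (Cfsg.Lie.chevE7.SteinbergGroup K)) = Nat.gcd (Nat.card Kˣ) 2 := by
    obtain ⟨ec⟩ := Φ.center_equiv_of_check CfsgLib.Chev.chevE8 (F := K) hadj embedE7 centreE7
    rw [Nat.card_congr ec.toEquiv, IsCyclic.card_powMonoidHom_ker]
  have hZc : ∀ z ∈ Z, wSt Φ z ∈ Subgroup.center (Cfsg.Lie.chevE7.SteinbergGroup K) := fun z hzZ => by
    rw [← Φ.ker_proj_eq_center hadj, MonoidHom.mem_ker, proj_wSt, MonoidHom.mem_ker.1 hzZ, map_one]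
  let wZ : Z → Subgroup.center (Cfsg.Lie.chevE7.SteinbergGroup K) := fun z => ⟨wSt Φ z.1, hZc z.1 z.2⟩
  have hwZ : Function.Bijective wZ := by
    haveI : Finite (Subgroup.center (Cfsg.Lie.chevE7.SteinbergGroup K)) :=
      Nat.finite_of_card_ne_zero (by rw [hcenter]; exact (Nat.gcd_pos_of_pos_right _ (by norm_num)).ne')
    refine (Nat.bijective_iff_surjective_and_card wZ).2 ⟨fun x => ?_, hZcard.trans hcenter.symm⟩
    have hx : Φ.proj K x.1 = Φ.toAlg.torus 1 := by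
      rw [map_one]
      exact MonoidHom.mem_ker.1 (by rw [Φ.ker_proj_eq_center hadj]; exact x.2)
    obtain ⟨s, hs, hs1⟩ := exists_wSt Φ hadj (by rw [map_one]; exact one_mem _) hx
    exact ⟨⟨s, hs1⟩, Subtype.ext hs.symm⟩
  have hwinj : Function.Injective (wSt Φ : (Fin n7 → Kˣ) → _) := by
    show Function.Injective (wHom Φ hadj)
    rw [injective_iff_map_eq_one]
    intro s hs
    have hsZ : s ∈ Z := MonoidHom.mem_ker.2 <| Φ.torus_injective <| by
      rw [map_one, ← proj_wSt]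
      exact (congrArg (Φ.proj K) hs).trans (map_one _)
    have e : wZ ⟨s, hsZ⟩ = wZ ⟨1, one_mem _⟩ := Subtype.ext (hs.trans (map_one (wHom Φ hadj)).symm)
    exact congrArg Subtype.val (hwZ.1 e)
  -- lifts
  obtain ⟨φ, hφ, hφp⟩ := exists_mapSt Φ f
  obtain ⟨S, hS, hSp⟩ := exists_mapSt Φ σ.toRingHom
  obtain ⟨G, hG⟩ := exists_lift Φ hg
  have hSφ : ∀ x, S (φ x) = φ x :=
    Φ.gen_induction (Q := fun x => S (φ x) = φ x) (by simp) fun r t x hx => by
      rw [map_mul, map_mul, hφ, hS, hx, show σ.toRingHom (f t) = f t from RingHom.congr_fun hσf t]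
  obtain ⟨l, rfl⟩ := exists_lperm Φ hπ
  set A := G⁻¹ * S G with hA
  have hgn : Φ.proj K (Φ.gword K l) ∈ Cfsg.Lie.chevE7.monomialSubgroup K :=
    Φ.proj_gN (Subgroup.list_prod_mem _ fun x hx => by
      obtain ⟨i, -, rfl⟩ := List.mem_map.mp hx
      exact Subgroup.subset_closure ⟨_, _, rfl⟩)
  have hpA : Φ.proj K A = g⁻¹ * Matrix.GeneralLinearGroup.map σ.toRingHom g := by
    rw [hA, map_mul, map_inv, hSp, hG]
  have hBH : Φ.proj K ((Φ.gword K l)⁻¹ * A) ∈ Cfsg.Lie.chevE7.diagonalSubgroup K := by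
    rw [map_mul, map_inv, hpA]
    exact Φ.inv_mul_mem_H hgn han (mono_gword Φ l) ham
  obtain ⟨e, he⟩ := Φ.exists_torus_of_mem_H hBH
  obtain ⟨d0, hd0, -⟩ := exists_wSt Φ hadj (he ▸ hBH) he
  have hSs : ∀ s, S (wSt Φ s) = wSt Φ (s ^ q) := fun s => by
    rw [mapSt_wSt Φ S σ.toRingHom hS]
    congr 1
    funext k
    exact Units.ext (by simpa using hσq (s k))
  set X : Matrix (Fin n7) (Fin n7) ℤ := (Pm Φ (Φ.lperm l))ᵀ with hX
  have hconj : ∀ s, S (G * wSt Φ s * G⁻¹) = G * wSt Φ (expM X (s ^ q)) * G⁻¹ := fun s => by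
    have hAeq : A = Φ.gword K l * wSt Φ d0 := by rw [← hd0]; group
    have hc : wSt Φ d0 * wSt Φ (s ^ q) = wSt Φ (s ^ q) * wSt Φ d0 := by
      rw [← wSt_mul Φ hadj, ← wSt_mul Φ hadj, mul_comm]
    rw [map_mul, map_mul, map_inv, hSs, hX, ← gword_conj_wSt Φ hadj (A_symm Φ)]
    rw [show S G * wSt Φ (s ^ q) * (S G)⁻¹ = G * (A * wSt Φ (s ^ q) * A⁻¹) * G⁻¹ by rw [hA]; group, hAeq,
      show Φ.gword K l * wSt Φ d0 * wSt Φ (s ^ q) * (Φ.gword K l * wSt Φ d0)⁻¹ =
        Φ.gword K l * (wSt Φ d0 * wSt Φ (s ^ q) * (wSt Φ d0)⁻¹) * (Φ.gword K l)⁻¹ by group, hc,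
      mul_inv_cancel_right]
  set R := (q : ℤ) • X - 1 with hR
  have hkerR : ∀ s : Fin n7 → Kˣ, s ∈ (expM (A := Kˣ) R).ker ↔ S (G * wSt Φ s * G⁻¹) = G * wSt Φ s * G⁻¹ :=
    fun s => by
      rw [hconj, MonoidHom.mem_ker, hR, E6.expM_smul_sub_one, ← map_pow, mul_inv_eq_one, mul_left_inj,
        mul_right_inj]
      exact ⟨fun h => by rw [h], fun h => hwinj h⟩
  set N := (Matrix.scalar (Fin n7) (q : ℤ) - Pm Φ (Φ.lperm l)).det.natAbs with hN
  have hdetR : R.det.natAbs = N := by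
    set P : Matrix (Fin n7) (Fin n7) ℤ := Pm Φ (Φ.lperm l) with hP
    have hf' : P * M7 * Pᵀ = M7 := form_inv Φ hπ
    have h1 : ((q : ℤ) • P - 1) * M7 * Pᵀ = M7 * (Matrix.scalar (Fin n7) (q : ℤ) - P)ᵀ := by
      rw [Matrix.transpose_sub, Matrix.mul_sub, Matrix.sub_mul, Matrix.sub_mul, Matrix.one_mul,
        Matrix.smul_mul, Matrix.smul_mul, hf']
      congr 1
      rw [Matrix.scalar_apply, Matrix.diagonal_transpose, ← Matrix.smul_one_eq_diagonal, Matrix.mul_smul,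
        Matrix.mul_one]
    have h2 := congrArg (fun Y : Matrix (Fin n7) (Fin n7) ℤ => Y.det.natAbs) h1
    have h3' := congrArg (fun Y : Matrix (Fin n7) (Fin n7) ℤ => Y.det.natAbs) hf'
    simp only [Matrix.det_mul, Matrix.det_transpose, Int.natAbs_mul, M7_det] at h2 h3'
    have hP1 : P.det.natAbs = 1 := by
      have h4 : P.det.natAbs * P.det.natAbs = 1 := by
        have : (2 : ℤ).natAbs = 2 := rfl
        nlinarith [h3', this]
      exact Nat.eq_one_of_mul_eq_one_right h4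
    rw [hP1, mul_one, mul_comm] at h2
    have h5 := Nat.eq_of_mul_eq_mul_left (by norm_num : 0 < (2 : ℤ).natAbs) h2
    rw [hR, hX, ← Matrix.det_transpose ((q : ℤ) • Pᵀ - 1), Matrix.transpose_sub, Matrix.transpose_smul,
      Matrix.transpose_transpose, Matrix.transpose_one]
    exact h5
  have hRcard : Nat.card (expM (A := Kˣ) R).ker = N := by
    rw [card_ker_expM_det R (fun h => h0 (Int.natAbs_eq_zero.1 (by rw [← hN, ← hdetR, h]; rfl)))
      (hdetR ▸ hK), hdetR]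
  set R' := (expM (A := Kˣ) R).ker with hR'
  have hZR : Z ≤ R' := fun z hz => by
    have hzX : expM X z = z := hwinj <| by
      rw [← gword_conj_wSt Φ hadj (A_symm Φ), (Subgroup.mem_center_iff.1 (hZc z hz) _),
        mul_inv_cancel_right]
    have hzq : z ^ (q - 1) = 1 := by
      obtain ⟨k, hk⟩ := hgcd
      have h := congrArg Subtype.val (pow_card_eq_one' (x := (⟨z, hz⟩ : Z)))
      rw [hZcard] at h
      rw [hk, pow_mul, show z ^ Nat.gcd (Nat.card Kˣ) 2 = 1 from h, one_pow]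
    rw [hR', MonoidHom.mem_ker, hR, E6.expM_smul_sub_one, hzX, show q = q - 1 + 1 by omega, pow_succ, hzq,
      one_mul, mul_inv_cancel]
  refine ⟨R'.map (Φ.coHom K), ?_, fun d => ⟨?_, ?_⟩⟩
  · set ρ := (Φ.coHom K).comp R'.subtype with hρ
    have h1 : ρ.ker = Z.subgroupOf R' := by ext; rfl
    have h2 : Nat.card ρ.range = Nat.card (R'.map (Φ.coHom K)) := by
      rw [hρ, MonoidHom.range_comp, Subgroup.range_subtype]
    have h3 := ρ.ker.index_mul_card
    rw [Subgroup.index_ker, h2, h1, Nat.card_congr (Subgroup.subgroupOfEquivOfLe hZR).toEquiv, hZcard, hRcard]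
      at h3
    exact h3
  · rintro ⟨s, hs, rfl⟩
    have hH : Φ.toAlg.torus (Φ.coHom K s) ∈ Cfsg.Lie.chevE7.diagonalSubgroup K := by
      rw [Φ.diagonalSubgroup_eq]; exact ⟨s, rfl⟩
    refine ⟨hH, ?_⟩
    set z := g * Φ.toAlg.torus (Φ.coHom K s) * g⁻¹ with hz
    have hzp : Φ.proj K (G * wSt Φ s * G⁻¹) = z := by rw [map_mul, map_mul, map_inv, proj_wSt, hG]
    have hfixSt := (hkerR s).1 hs
    have hzfix : Matrix.GeneralLinearGroup.map σ.toRingHom z = z := by rw [← hzp, ← hSp, hfixSt]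
    obtain ⟨a, v, hv, hav⟩ := exists_of_fixed_mod_torus Φ σ f hσ
      (hzp ▸ Φ.proj_mem_group _ : z ∈ Cfsg.Lie.chevE7.group K) hzfix
    obtain ⟨y, hy⟩ := exists_lift Φ hv
    set W := G * wSt Φ s * G⁻¹ * (φ y)⁻¹ with hW
    have hpW : Φ.proj K W = Φ.toAlg.torus fun i => Units.map f.toMonoidHom (a i) := by
      rw [hW, map_mul, hzp, map_inv, hφp, hy, ← hav, map_mul, mul_inv_cancel_right, map_torus]
    obtain ⟨ee, hee, -⟩ := exists_wSt Φ hadj
      (torus_mem_diag_of_mem_group Φ (hpW ▸ Φ.proj_mem_group _)) hpW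
    have hWfix : S W = W := by rw [hW, map_mul, map_inv, hSφ, hfixSt]
    rw [hee, hSs] at hWfix
    have heq : ∀ k, (ee k : K) ^ q = ee k := fun k => by
      rw [← Units.val_pow_eq_pow_val]
      exact congrArg Units.val (congrFun (hwinj hWfix) k)
    choose e0 he0 using fun k => (hσ _).1 ((hσq _).trans (heq k))
    let e1 : Fin n7 → Fˣ := fun k => Units.mk0 (e0 k) fun h => (ee k).ne_zero (by rw [← he0, h, map_zero])
    refine ⟨Φ.proj F (wSt Φ e1) * v, mul_mem (Φ.proj_mem_group _) hv, ?_⟩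
    rw [map_mul, ← hφp, mapSt_wSt Φ φ f hφ,
      show (fun k => Units.map f.toMonoidHom (e1 k)) = ee from funext fun k => Units.ext (he0 k), ← hee,
      hW, map_mul, hzp, map_inv, hφp, hy, inv_mul_cancel_right]
  · rintro ⟨hdH, v, hv, hvd⟩
    obtain ⟨y, hy⟩ := exists_lift Φ hv
    obtain ⟨s, hs, hsc⟩ := exists_wSt Φ (g := G⁻¹ * φ y * G) hadj hdH (by
      rw [map_mul, map_mul, map_inv, hφp, hy, hG, hvd]; group)
    refine ⟨s, (hkerR s).2 ?_, hsc⟩
    rw [show G * wSt Φ s * G⁻¹ = φ y by rw [← hs]; group, hSφ]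

end E7

end CfsgLib.CoxTorus
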