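import Cfsg.Agent.Lib.InvTorus.Count
import Cfsg.Agent.Lib.CoxTorus.Alcove
import Cfsg.Agent.Lib.Chev.FieldFixed
import Mathlib.FieldTheory.Finite.Extension
import Mathlib.GroupTheory.PGroup
import Mathlib.GroupTheory.GroupAction.Quotient

/-!
An element of order `ℓ`, where `q` has order `e` modulo `ℓ`, generates the same centralizer as a twisted
torus.
-/

set_option autoImplicit false
set_option linter.dupNamespace false
set_option linter.unusedSectionVars false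

namespace CfsgLib.CoxTorus

open Cfsg.Lie Matrix CfsgLib.Chev CfsgLib.Chev.Chev CfsgLib.InvTorus

variable {D : ChevalleyDatum} (Φ : Chev D)

theorem mem_range_iff_pow_card {F K : Type*} [Field F] [Field K] [Finite F] (f : F →+* K) (x : K) :
    x ^ Nat.card F = x ↔ x ∈ Set.range f := by
  classical
  haveI := Fintype.ofFinite F
  rw [Nat.card_eq_fintype_card]
  refine ⟨fun h => ?_, ?_⟩
  · have h1 : 1 < Fintype.card F := Fintype.one_lt_card
    set P : Polynomial K := Polynomial.X ^ Fintype.card F - Polynomial.X with hP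
    have hP0 : P ≠ 0 := FiniteField.X_pow_card_sub_X_ne_zero K h1
    have hsub : Finset.univ.image f ⊆ P.roots.toFinset := by
      intro y hy
      obtain ⟨a, -, rfl⟩ := Finset.mem_image.1 hy
      rw [Multiset.mem_toFinset, Polynomial.mem_roots hP0]
      simp [hP, ← map_pow, FiniteField.pow_card]
    have hcard : P.roots.toFinset.card ≤ (Finset.univ.image f).card := by
      rw [Finset.card_image_of_injective _ f.injective, Finset.card_univ]
      refine (Multiset.toFinset_card_le _).trans ((Polynomial.card_roots' P).trans ?_)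
      rw [hP, FiniteField.X_pow_card_sub_X_natDegree_eq K h1]
    have hx : x ∈ Finset.univ.image f := by
      rw [Finset.eq_of_subset_of_card_le hsub hcard, Multiset.mem_toFinset, Polynomial.mem_roots hP0]
      simp [hP, h]
    obtain ⟨a, -, rfl⟩ := Finset.mem_image.1 hx
    exact ⟨a, rfl⟩
  · rintro ⟨a, rfl⟩
    rw [← map_pow, FiniteField.pow_card]

variable {K : Type*} [Field K]

theorem torus_mem_H (hs : Function.Surjective (Φ.coHom K)) (c : Fin D.rank → Kˣ) :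
    Φ.toAlg.torus c ∈ D.diagonalSubgroup K := by
  rw [Φ.diagonalSubgroup_eq]
  obtain ⟨d, hd⟩ := hs c
  exact ⟨d, by rw [MonoidHom.comp_apply, hd]⟩

theorem chi_map {π : Equiv.Perm (Fin D.nroots)} (hπ : π ∈ Φ.WL) (c : Fin D.rank → Kˣ)
    (r : Fin D.nroots) : Φ.toSys.chi c (π r) = ∏ k, Φ.toSys.chi c (π (Φ.p k)) ^ Φ.V r k := by
  simp only [Sys.chi, ← Finset.prod_zpow, ← _root_.zpow_mul]
  rw [Finset.prod_comm]
  refine Finset.prod_congr rfl fun i _ => ?_
  show c i ^ Φ.V (π r) i = ∏ k, c i ^ (Φ.V (π (Φ.p k)) i * Φ.V r k)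
  rw [Φ.V_map hπ]
  induction (Finset.univ : Finset (Fin D.rank)) using Finset.induction_on with
  | empty => simp
  | insert k s hk ih =>
    rw [Finset.prod_insert hk, Finset.sum_insert hk, _root_.zpow_add, ih, mul_comm (Φ.V r k)]

/-- Conjugation of a torus element by a monomial element. -/
theorem conj_torus_iff_of_mem {n : GL D.Idx K}
    (hn : n ∈ D.monomialSubgroup K) {π : Equiv.Perm (Fin D.nroots)} (hm : Φ.Mono n π)
    (c d : Fin D.rank → Kˣ)
    (hd : Φ.toAlg.torus d ∈ D.diagonalSubgroup K) : n * Φ.toAlg.torus d * n⁻¹ = Φ.toAlg.torus c ↔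
      ∀ r, Φ.toSys.chi c (π r) = Φ.toSys.chi d r := by
  have key : ∀ c' : Fin D.rank → Kˣ, n * Φ.toAlg.torus d * n⁻¹ = Φ.toAlg.torus c' →
      ∀ r, Φ.toSys.chi c' (π r) = Φ.toSys.chi d r := by
    intro c' e r
    obtain ⟨a, ha, a1, -⟩ := hm.1 r
    refine Units.ext ?_
    have h1 : n * Φ.toAlg.xg r 1 * n⁻¹ = Φ.toAlg.xg (π r) a := by rw [a1 1, mul_one]
    have h2 : Φ.toAlg.torus c' * Φ.toAlg.xg (π r) a * (Φ.toAlg.torus c')⁻¹ =
        Φ.toAlg.xg (π r) (a * (Φ.toSys.chi d r : K)) := by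
      rw [← h1, ← e, show n * Φ.toAlg.torus d * n⁻¹ * (n * Φ.toAlg.xg r (1 : K) * n⁻¹) *
        (n * Φ.toAlg.torus d * n⁻¹)⁻¹ = n * (Φ.toAlg.torus d * Φ.toAlg.xg r (1 : K) *
          (Φ.toAlg.torus d)⁻¹) * n⁻¹ by group, Φ.toAlg.torus_xg, mul_inv_cancel_right, mul_one, a1]
    rw [Φ.toAlg.torus_xg, mul_inv_cancel_right] at h2
    exact mul_left_cancel₀ ha (by rw [mul_comm]; exact Φ.toAlg.xg_injective _ h2)
  refine ⟨key c, fun h => ?_⟩
  obtain ⟨c', hc'⟩ := Φ.exists_torus_of_mem_H (Φ.H_conj_mem hn hd)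
  have : c' = c := funext fun i => by
    have e1 := key c' hc' (π⁻¹ (Φ.p i))
    have e2 := h (π⁻¹ (Φ.p i))
    rw [show π (π⁻¹ (Φ.p i)) = Φ.p i from π.apply_symm_apply _, Φ.toSys.chi_simple] at e1 e2
    rw [e1, e2]
  rw [hc', this]

theorem conj_torus_iff (hs : Function.Surjective (Φ.coHom K)) {n : GL D.Idx K}
    (hn : n ∈ D.monomialSubgroup K) {π : Equiv.Perm (Fin D.nroots)} (hm : Φ.Mono n π)
    (c d : Fin D.rank → Kˣ) : n * Φ.toAlg.torus d * n⁻¹ = Φ.toAlg.torus c ↔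
      ∀ r, Φ.toSys.chi c (π r) = Φ.toSys.chi d r :=
  conj_torus_iff_of_mem Φ hn hm c d (torus_mem_H Φ hs d)

/-- A fixed normal form intertwining two torus elements. -/
theorem twist_of_normal_form {c d : Fin D.rank → Kˣ} (hsH : Φ.toAlg.torus c ∈ D.diagonalSubgroup K)
    (htH : Φ.toAlg.torus d ∈ D.diagonalSubgroup K)
    {v x n u : GL D.Idx K} {π : Equiv.Perm (Fin D.nroots)} (hv : v ∈ D.posUnipotent K)
    (hx : x ∈ D.diagonalSubgroup K) (hn : n ∈ D.monomialSubgroup K) (hm : Φ.Mono n π)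
    (hu : u ∈ Φ.Uneg K π) (h : Φ.toAlg.torus c * (v * x * n * u) = v * x * n * u * Φ.toAlg.torus d) :
    n * Φ.toAlg.torus d * n⁻¹ = Φ.toAlg.torus c ∧ Commute (Φ.toAlg.torus c) v ∧
      Commute (Φ.toAlg.torus d) u := by
  set s := Φ.toAlg.torus c with hsd
  set t := Φ.toAlg.torus d with htd
  have hb : v * x ∈ D.borelSubgroup K := mul_mem (U_le_B hv) (H_le_B hx)
  have h' : n * t * n⁻¹ ∈ D.diagonalSubgroup K := Φ.H_conj_mem hn htH
  have htu : t⁻¹ * u * t ∈ Φ.Uneg K π := by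
    have := (Subgroup.mem_normalizer_iff.1 (Φ.H_le_normalizer_US _ (inv_mem htH)) u).1 hu
    rwa [inv_inv] at this
  have e : s * (v * x) * n * u = v * x * (n * t * n⁻¹) * n * (t⁻¹ * u * t) := by
    calc s * (v * x) * n * u = s * (v * x * n * u) := by group
      _ = v * x * n * u * t := h
      _ = _ := by group
  obtain ⟨e1, e2⟩ := Φ.normal_form_unique hm (mul_mem (H_le_B hsH) hb) (mul_mem hb (H_le_B h')) hu htu e
  have hv' : s * v * s⁻¹ ∈ D.posUnipotent K :=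
    (Subgroup.mem_normalizer_iff.1 (Φ.H_le_normalizer_U hsH) v).1 hv
  have e3 : v⁻¹ * (s * v * s⁻¹) = x * (n * t * n⁻¹) * (s * x)⁻¹ := by
    calc v⁻¹ * (s * v * s⁻¹) = v⁻¹ * (s * (v * x)) * (s * x)⁻¹ := by group
      _ = _ := by rw [e1]; group
  have hv1 := Φ.eq_one_of_mem_U_of_mem_N (mul_mem (inv_mem hv) hv')
    (e3 ▸ H_le_N (mul_mem (mul_mem hx h') (inv_mem (mul_mem hsH hx))))
  refine ⟨?_, mul_inv_eq_iff_eq_mul.1 (inv_mul_eq_one.1 hv1).symm, ?_⟩
  · rw [hv1, eq_comm, mul_inv_eq_one, (Φ.H_comm hsH hx).eq] at e3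
    exact mul_left_cancel e3
  · show t * u = u * t
    conv_lhs => rw [e2]
    group

/-- The normal form of an element intertwining two torus elements. -/
theorem twist_parts (hs : Function.Surjective (Φ.coHom K)) {c d : Fin D.rank → Kˣ} {a : GL D.Idx K}
    (ha : a ∈ D.group K) (h : Φ.toAlg.torus c * a = a * Φ.toAlg.torus d) :
    ∃ n ∈ D.monomialSubgroup K, ∃ π ∈ Φ.WL, Φ.Mono n π ∧
      (∀ r, Φ.toSys.chi c (π r) = Φ.toSys.chi d r) ∧ Commute (Φ.toAlg.torus c) (a * n⁻¹) := by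
  obtain ⟨b, hb, n, hn, π, hπ, hm, u, hu, rfl⟩ := Φ.exists_normal_form ha
  obtain ⟨v, hv, x, hx, rfl⟩ := Φ.mem_B_iff.1 hb
  obtain ⟨e, -, -⟩ := twist_of_normal_form Φ (torus_mem_H Φ hs c) (torus_mem_H Φ hs d) hv hx hn hm hu h
  refine ⟨n, hn, π, hπ, hm, (conj_torus_iff Φ hs hn hm c d).1 e, ?_⟩
  show _ * (v * x * n * u * n⁻¹) = v * x * n * u * n⁻¹ * _
  calc Φ.toAlg.torus c * (v * x * n * u * n⁻¹) = Φ.toAlg.torus c * (v * x * n * u) * n⁻¹ := by group
    _ = v * x * n * u * Φ.toAlg.torus d * n⁻¹ := by rw [h]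
    _ = v * x * n * u * n⁻¹ * (n * Φ.toAlg.torus d * n⁻¹) := by group
    _ = _ := by rw [e]

/-- The centralizer of a regular torus element. -/
theorem mem_H_of_regular (hs : Function.Surjective (Φ.coHom K)) {c : Fin D.rank → Kˣ}
    (hreg : ∀ r, Φ.toSys.chi c r ≠ 1)
    (hst : ∀ π ∈ Φ.WL, (∀ r, Φ.toSys.chi c (π r) = Φ.toSys.chi c r) → π = 1)
    {g : GL D.Idx K} (hg : g ∈ D.group K) (h : Commute (Φ.toAlg.torus c) g) :
    g ∈ D.diagonalSubgroup K := by
  have hbot : ∀ {S : Fin D.nroots → Prop} {u : GL D.Idx K},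
      u ∈ Φ.US K (fun r => S r ∧ Φ.toSys.chi c r = 1) → u = 1 := by
    intro S u hu
    have : Φ.US K (fun r => S r ∧ Φ.toSys.chi c r = 1) ≤ ⊥ := by
      rw [US, Subgroup.closure_le]
      rintro _ ⟨r, t, hr, rfl⟩
      exact absurd hr.2 (hreg r)
    exact Subgroup.mem_bot.1 (this hu)
  obtain ⟨v, hv, x, hx, n, hn, π, hπ, hm, hc, u, hu, rfl⟩ :=
    commute_parts Φ (torus_mem_H Φ hs c) hg h
  obtain rfl := hst π hπ hc
  rw [hbot hv, hbot hu, one_mul, mul_one]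
  exact mul_mem hx (Φ.mem_H_of_mono_one hn hm)

include Φ in
/-- An element of order `ℓ` is conjugate into the split torus if the index of the torus is prime to `ℓ`. -/
theorem exists_conj_torus [Finite K] {ℓ : ℕ} [Fact ℓ.Prime] (hQ : (Nat.card K : ZMod ℓ) = 1)
    (hW : ¬ ℓ ∣ Nat.card Φ.WL) {x : GL D.Idx K} (hx : x ∈ D.group K) (hxl : x ^ ℓ = 1) :
    ∃ g ∈ D.group K, ∃ c, x = g * Φ.toAlg.torus c * g⁻¹ := by
  classical
  have hHG : D.diagonalSubgroup K ≤ D.group K := fun h hh => Φ.B_le_group (H_le_B hh)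
  set H := (D.diagonalSubgroup K).subgroupOf (D.group K) with hH
  have hidx : H.index = Nat.card K ^ (D.nroots / 2) * ∑ π ∈ Φ.WFin, Nat.card K ^ Φ.inv π := by
    have h1 := H.card_mul_index
    rw [Φ.card_group, Nat.card_congr (Subgroup.subgroupOfEquivOfLe hHG).toEquiv] at h1
    refine mul_left_cancel₀ (Nat.card_pos (α := D.diagonalSubgroup K)).ne' (h1.trans ?_)
    ring
  have hnd : ¬ ℓ ∣ H.index := by
    rw [← ZMod.natCast_eq_zero_iff, hidx]
    push_cast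
    simp only [hQ, one_pow, one_mul, Finset.sum_const, nsmul_eq_mul, mul_one]
    rw [← Nat.subtype_card Φ.WFin (fun π => Φ.mem_WFin) ] at *
    exact fun h0 => hW ((ZMod.natCast_eq_zero_iff _ _).1 (by simpa using h0))
  set X : ↥(D.group K) := ⟨x, hx⟩
  have hXl : X ^ ℓ = 1 := Subtype.ext hxl
  have hPgrp : IsPGroup ℓ (Subgroup.zpowers X) := by
    rintro ⟨y, hy⟩
    obtain ⟨i, rfl⟩ := Subgroup.mem_zpowers_iff.1 hy
    refine ⟨1, Subtype.ext ?_⟩
    show (X ^ i) ^ (ℓ ^ 1) = 1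
    rw [pow_one, ← zpow_natCast, ← _root_.zpow_mul, mul_comm, _root_.zpow_mul, zpow_natCast, hXl,
      _root_.one_zpow]
  obtain ⟨z, hz⟩ := hPgrp.nonempty_fixed_point_of_prime_not_dvd_card (↥(D.group K) ⧸ H) hnd
  obtain ⟨g, rfl⟩ := QuotientGroup.mk_surjective z
  have hz' := hz ⟨X, Subgroup.mem_zpowers X⟩
  have hz2 : g⁻¹ * (X * g) ∈ H := (QuotientGroup.eq).1 (show (QuotientGroup.mk g : _ ⧸ H) =
    QuotientGroup.mk (X * g) from hz'.symm)
  obtain ⟨c, hc⟩ := Φ.exists_torus_of_mem_H (Subgroup.mem_subgroupOf.1 hz2)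
  refine ⟨g, g.2, c, ?_⟩
  rw [← hc]
  show x = (g : GL D.Idx K) * ((g : GL D.Idx K)⁻¹ * (x * g)) * (g : GL D.Idx K)⁻¹
  group

end CfsgLib.CoxTorus
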