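import Cfsg.Agent.Lib.CoxTorus.E7Twist
import Cfsg.Agent.Lib.CoxTorus.Twist
import Cfsg.Agent.Lib.Chev.Steinberg
import Cfsg.Agent.Lib.Chev.SL2Hom
import Cfsg.Agent.Lib.CoxTorus.SylowHom
import Mathlib.FieldTheory.SplittingField.Construction

/-!
An explicit step of Lang's theorem in three commuting root subgroups: the twisting element is changed by
a reflection in a root fixed by its cube.  In rank one this is the existence of a two-cycle of a twisted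
linear fractional map.
-/

set_option autoImplicit false
set_option linter.dupNamespace false
set_option linter.unusedSectionVars false
set_option maxRecDepth 100000
set_option maxHeartbeats 800000

namespace CfsgLib.CoxTorus

open Cfsg.Lie Matrix CfsgLib.Chev CfsgLib.Chev.Chev CfsgLib.InvTorus

section Mono

variable {D : ChevalleyDatum} (Φ : Chev D) {F : Type*} [Field F]

theorem rootRefl_p (i : Fin D.rank) : rootRefl Φ (Φ.p i) = Φ.reflPerm i :=
  Equiv.ext fun r => Φ.toSys.V_inj fun j => by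
    rw [V_rootRefl]
    show _ = Φ.V (Φ.refl i r) j
    simp [Φ.V_refl, pr, Φ.C_p, Φ.V_p, mul_ite, eq_comm]

/-- The permutation of `n_r(t)` is the reflection in `r`. -/
theorem mono_nw_root (r : Fin D.nroots) : ∀ t : Fˣ, Φ.Mono (Φ.nw r t) (rootRefl Φ r) := by
  induction r using Φ.root_induction with
  | hp i => intro t; rw [rootRefl_p]; exact Φ.mono_nw_p i t
  | hstep i r ih =>
    intro t
    have hn := Φ.nw_mem_N (Φ.p i) (1 : Fˣ)
    have h := Chev.Mono.mul Φ (Chev.Mono.mul Φ (Φ.nw_one_mono i) (ih ((Φ.etaU F i r)⁻¹ * t)))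
      (Φ.mono_inv hn (Φ.nw_one_mono i))
    rw [Φ.nw_conj_nw, mul_inv_cancel_left, mul_inv_cancel_right,
      rootRefl_conj Φ (Φ.reflPerm_mem_WL i), mul_inv_cancel_right] at h
    exact h

/-- A monomial element acts on opposite root subgroups by inverse scalars. -/
theorem mono_pair {g : GL D.Idx F} (hg : g ∈ D.monomialSubgroup F) {π : Equiv.Perm (Fin D.nroots)}
    (hm : Φ.Mono g π) (s : Fin D.nroots) : ∃ α : F, α ≠ 0 ∧
      (∀ t, g * Φ.toAlg.xg s t * g⁻¹ = Φ.toAlg.xg (π s) (α * t)) ∧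
      (∀ t, g * Φ.toAlg.xg s.rev t * g⁻¹ = Φ.toAlg.xg (π s).rev (α⁻¹ * t)) := by
  suffices H : ∃ ρ : Equiv.Perm (Fin D.nroots), Φ.Mono g ρ ∧ ∀ x, ∃ α : F, α ≠ 0 ∧
      (∀ t, g * Φ.toAlg.xg x t * g⁻¹ = Φ.toAlg.xg (ρ x) (α * t)) ∧
      (∀ t, g * Φ.toAlg.xg x.rev t * g⁻¹ = Φ.toAlg.xg (ρ x).rev (α⁻¹ * t)) by
    obtain ⟨ρ, hρ, h⟩ := H
    obtain rfl := Chev.Mono.unique Φ hm hρ
    exact h s
  clear hm s
  rw [Φ.monomialSubgroup_eq, ← Subgroup.closure_eq (D.diagonalSubgroup F), ← Subgroup.closure_union] at hg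
  induction hg using Subgroup.closure_induction with
  | mem x hx =>
    rcases hx with hx | ⟨i, rfl⟩
    · obtain ⟨c, rfl⟩ := Φ.exists_torus_of_mem_H hx
      refine ⟨1, Φ.mono_torus c, fun x => ⟨(Φ.toSys.chi c x : F), Units.ne_zero _, fun t => ?_, fun t => ?_⟩⟩
      · rw [Φ.toAlg.torus_xg, mul_inv_cancel_right]; rfl
      · rw [Φ.toAlg.torus_xg, mul_inv_cancel_right, Φ.toSys.chi_neg, Units.val_inv_eq_inv_val]; rfl
    · refine ⟨Φ.reflPerm i, Φ.nw_one_mono i, fun x => ⟨(Φ.eta i x : F), ?_, fun t => ?_, fun t => ?_⟩⟩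
      · rcases Φ.eta_unit i x with e | e <;> simp [e]
      · rw [Φ.nw_conj_xg, mul_inv_cancel_right]; rfl
      · rw [Φ.nw_conj_xg, mul_inv_cancel_right, Φ.refl_rev]
        have e : ((Φ.eta i x.rev : ℤ) : F) = ((Φ.eta i x : ℤ) : F)⁻¹ := by
          rw [← Φ.etaU_val, Φ.etaU_rev, Φ.etaU_val]
          rcases Φ.eta_unit i x with e | e <;> simp [e]
        rw [e]; rfl
  | one =>
    exact ⟨1, Chev.Mono.one Φ, fun x => ⟨1, one_ne_zero, fun t => by simp, fun t => by simp⟩⟩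
  | mul x y _ _ hx hy =>
    obtain ⟨ρ, hρ, h⟩ := hx
    obtain ⟨τ, hτ, h'⟩ := hy
    refine ⟨ρ * τ, Chev.Mono.mul Φ hρ hτ, fun z => ?_⟩
    obtain ⟨a, ha, a1, a2⟩ := h' z
    obtain ⟨b, hb, b1, b2⟩ := h (τ z)
    refine ⟨b * a, mul_ne_zero hb ha, fun t => ?_, fun t => ?_⟩
    · rw [show x * y * Φ.toAlg.xg z t * (x * y)⁻¹ = x * (y * Φ.toAlg.xg z t * y⁻¹) * x⁻¹ by group, a1, b1,
        mul_assoc]
      rfl
    · rw [show x * y * Φ.toAlg.xg z.rev t * (x * y)⁻¹ = x * (y * Φ.toAlg.xg z.rev t * y⁻¹) * x⁻¹ by group,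
        a2, b2, _root_.mul_inv, mul_assoc]
      rfl
  | inv x hx' hx =>
    obtain ⟨ρ, hρ, h⟩ := hx
    refine ⟨ρ⁻¹, Φ.mono_inv (by rw [Φ.monomialSubgroup_eq, ← Subgroup.closure_eq (D.diagonalSubgroup F),
      ← Subgroup.closure_union]; exact hx') hρ, fun z => ?_⟩
    obtain ⟨a, ha, a1, a2⟩ := h (ρ⁻¹ z)
    rw [show ρ (ρ⁻¹ z) = z from ρ.apply_symm_apply z] at a1 a2
    refine ⟨a⁻¹, inv_ne_zero ha, fun t => ?_, fun t => ?_⟩
    · have e := a1 (a⁻¹ * t)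
      rw [mul_inv_cancel_left₀ ha] at e
      rw [← e]; group
    · have e := a2 (a * t)
      rw [inv_mul_cancel_left₀ ha] at e
      rw [inv_inv, ← e]; group

include Φ in
theorem map_mem_monomial {K : Type*} [Field K] (f : F →+* K) {g : GL D.Idx F}
    (hg : g ∈ D.monomialSubgroup F) :
    Matrix.GeneralLinearGroup.map f g ∈ D.monomialSubgroup K := by
  have : D.monomialSubgroup F ≤ (D.monomialSubgroup K).comap (Matrix.GeneralLinearGroup.map f) := by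
    rw [Φ.monomialSubgroup_eq (F := F)]
    refine sup_le (fun x hx => H_le_N (Φ.map_mem_diagonal f hx)) ((Subgroup.closure_le _).2 ?_)
    rintro _ ⟨i, rfl⟩
    show _ ∈ D.monomialSubgroup K
    rw [map_nw]
    exact Φ.nw_mem_N _ _
  exact this hg

end Mono

section Rank1

open Polynomial in
/-- A twisted linear map of the plane has a two-cycle of independent lines. -/
theorem exists_antidiag {K1 : Type} [Field K1] [Finite K1] {p n : ℕ} [ExpChar K1 p] (h0 : ((p ^ n : ℕ) : K1) = 0)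
    (hQ : 3 ≤ p ^ n) (A : Matrix (Fin 2) (Fin 2) K1) (hA : A.det ≠ 0) :
    ∃ (K2 : Type) (_ : Field K2) (_ : Finite K2) (j : K1 →+* K2) (k : SpecialLinearGroup (Fin 2) K2) (s t : K2),
      A.map j * k.1.map (· ^ p ^ n) = k.1 * !![0, s; t, 0] := by
  classical
  set Q := p ^ n with hQd
  set B := A * A.map (· ^ Q) with hB
  have hAQ : (A.map (· ^ Q)).det = A.det ^ Q := by
    rw [Matrix.det_fin_two, Matrix.det_fin_two, sub_pow_expChar_pow, mul_pow, mul_pow]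
    rfl
  have hBdet : B.det ≠ 0 := by rw [hB, Matrix.det_mul, hAQ]; exact mul_ne_zero hA (pow_ne_zero _ hA)
  -- the polynomial of the fixed lines
  let pl : ℕ → Matrix (Fin 2) (Fin 2) K1 → K1[X] := fun m N =>
    C (N 0 1) + C (N 0 0) * X ^ m - C (N 1 1) * X - C (N 1 0) * X ^ (m + 1)
  have hne : ∀ (m : ℕ) (N : Matrix (Fin 2) (Fin 2) K1), 2 ≤ m → N.det ≠ 0 →
      (pl m N ≠ 0 ∧ m ≤ (pl m N).natDegree ∧ (pl m N).natDegree ≤ m + 1) := by
    intro m N hm hN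
    have c1 : (pl m N).coeff (m + 1) = -N 1 0 := by
      simp [pl, coeff_X, coeff_C, show m ≠ 0 by omega]
    have c0 : (pl m N).coeff m = N 0 0 := by
      simp [pl, coeff_X, coeff_C, show (1 : ℕ) ≠ m by omega, show m ≠ 0 by omega]
    have hup : (pl m N).natDegree ≤ m + 1 := by
      refine natDegree_le_iff_coeff_eq_zero.2 fun i hi => ?_
      simp [pl, coeff_X, coeff_C, show i ≠ 0 by omega, show i ≠ m by omega, show i ≠ m + 1 by omega,
        show (1 : ℕ) ≠ i by omega]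
    by_cases h10 : N 1 0 = 0
    · have h00 : N 0 0 ≠ 0 := fun h => hN (by rw [Matrix.det_fin_two, h, h10]; ring)
      exact ⟨fun h => h00 (by rw [← c0, h, coeff_zero]), le_natDegree_of_ne_zero (by rw [c0]; exact h00), hup⟩
    · have h' : (pl m N).coeff (m + 1) ≠ 0 := by rw [c1]; exact neg_ne_zero.2 h10
      exact ⟨fun h => h' (by rw [h, coeff_zero]), (Nat.le_succ m).trans (le_natDegree_of_ne_zero h'), hup⟩
  have hQ2 : 3 * Q ≤ Q ^ 2 := by rw [pow_two]; exact Nat.mul_le_mul_right Q hQ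
  obtain ⟨hf2, hd2, -⟩ := hne (Q ^ 2) B (by omega) hBdet
  obtain ⟨hf1, -, hd1⟩ := hne Q A (by omega) hA
  set f2 := pl (Q ^ 2) B with hf2d
  have hsep : f2.Separable := by
    refine ⟨C B.det⁻¹ * -C (B 1 0), C B.det⁻¹ * (C (B 1 0) * X - C (B 0 0)), ?_⟩
    have e : derivative f2 = -C (B 1 1) - C (B 1 0) * X ^ (Q ^ 2) := by
      have hz : ((Q ^ 2 : ℕ) : K1) = 0 := by rw [Nat.cast_pow, h0, zero_pow two_ne_zero]
      simp only [f2, pl, derivative_sub, derivative_add, derivative_C_mul, derivative_X_pow, derivative_C,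
        derivative_X, mul_one, Nat.add_sub_cancel, hz, Nat.cast_add, Nat.cast_one, map_add, map_one,
        map_zero, zero_mul, mul_zero, add_zero, zero_add, one_mul, zero_sub]
    rw [e]
    simp only [f2, pl]
    calc _ = C B.det⁻¹ * (C (B 0 0) * C (B 1 1) - C (B 0 1) * C (B 1 0)) := by ring
      _ = C B.det⁻¹ * C B.det := by rw [Matrix.det_fin_two, map_sub, map_mul, map_mul]
      _ = 1 := by rw [← map_mul, inv_mul_cancel₀ hBdet, map_one]
  let K2 := f2.SplittingField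
  let j : K1 →+* K2 := algebraMap K1 K2
  haveI : Finite K2 := Module.finite_of_finite K1
  haveI : ExpChar K2 p := expChar_of_injective_ringHom j.injective p
  have hcard : Fintype.card (f2.rootSet K2) = f2.natDegree :=
    card_rootSet_eq_natDegree hsep (SplittingField.splits f2)
  have hlt : (f2.rootSet K2).toFinset.card > ((pl Q A).rootSet K2).toFinset.card := by
    rw [Set.toFinset_card, Set.toFinset_card, hcard]
    have : Fintype.card ((pl Q A).rootSet K2) ≤ Q + 1 := by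
      rw [← Set.toFinset_card]
      simp only [rootSet_def, Finset.toFinset_coe]
      refine (Multiset.toFinset_card_le _).trans ((Polynomial.card_roots' _).trans ?_)
      rw [natDegree_map_eq_of_injective j.injective]
      exact hd1
    omega
  obtain ⟨z, hz2, hz1⟩ : ∃ z, z ∈ (f2.rootSet K2).toFinset ∧ z ∉ ((pl Q A).rootSet K2).toFinset := by
    by_contra! h
    exact absurd (Finset.card_le_card h) (not_le.2 hlt)
  rw [Set.mem_toFinset, mem_rootSet_of_ne hf2] at hz2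
  rw [Set.mem_toFinset, mem_rootSet_of_ne hf1] at hz1
  simp only [f2, pl, map_add, map_sub, map_mul, aeval_C, map_pow, aeval_X] at hz1 hz2
  change ¬ j (A 0 1) + j (A 0 0) * z ^ Q - j (A 1 1) * z - j (A 1 0) * z ^ (Q + 1) = 0 at hz1
  change j (B 0 1) + j (B 0 0) * z ^ Q ^ 2 - j (B 1 1) * z - j (B 1 0) * z ^ (Q ^ 2 + 1) = 0 at hz2
  set v0 := j (A 0 0) * z ^ Q + j (A 0 1) with hv0
  set v1 := j (A 1 0) * z ^ Q + j (A 1 1) with hv1
  set δ := z * v1 - v0 with hδ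
  have hδ0 : δ ≠ 0 := fun h => hz1 (by rw [hδ, hv0, hv1] at h; linear_combination -h)
  set lam := j (B 1 0) * z ^ Q ^ 2 + j (B 1 1) with hlam
  refine ⟨K2, inferInstance, inferInstance, j, ⟨!![δ⁻¹ * z, v0; δ⁻¹, v1], ?_⟩, lam * δ, δ⁻¹ ^ Q, ?_⟩
  · rw [Matrix.det_fin_two_of]
    calc δ⁻¹ * z * v1 - v0 * δ⁻¹ = δ⁻¹ * δ := by rw [hδ]; ring
      _ = 1 := inv_mul_cancel₀ hδ0
  have hp : ∀ a b : K2, (a + b) ^ Q = a ^ Q + b ^ Q := fun a b => by rw [hQd, add_pow_expChar_pow]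
  have hB0 : ∀ i l, j (B i l) = j (A i 0) * j (A 0 l) ^ Q + j (A i 1) * j (A 1 l) ^ Q := fun i l => by
    simp [hB, Matrix.mul_apply, Fin.sum_univ_two]
  have hw0 : j (A 0 0) * v0 ^ Q + j (A 0 1) * v1 ^ Q = lam * z := by
    rw [hB0, hB0, hB0, hB0] at hz2
    rw [hlam, hB0, hB0, hv0, hv1, hp, hp, mul_pow, mul_pow, ← pow_mul, show Q * Q = Q ^ 2 by ring]
    linear_combination hz2
  have hw1 : j (A 1 0) * v0 ^ Q + j (A 1 1) * v1 ^ Q = lam := by
    rw [hlam, hB0, hB0, hv0, hv1, hp, hp, mul_pow, mul_pow, ← pow_mul, show Q * Q = Q ^ 2 by ring]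
    ring
  ext a b
  fin_cases a <;> fin_cases b <;> simp [Matrix.mul_apply, Fin.sum_univ_two]
  · rw [mul_pow, hv0]; ring
  · rw [hw0, show δ⁻¹ * z * (lam * δ) = lam * z * (δ⁻¹ * δ) by ring, inv_mul_cancel₀ hδ0, mul_one]
  · rw [mul_pow, hv1]; ring
  · rw [hw1, show δ⁻¹ * (lam * δ) = lam * (δ⁻¹ * δ) by ring, inv_mul_cancel₀ hδ0, mul_one]

theorem sl2_hom_ext {F G : Type*} [Field F] [Group G] {f g : SpecialLinearGroup (Fin 2) F →* G}
    (hu : ∀ t, f (RankOne.u t) = g (RankOne.u t)) (hl : ∀ t, f (RankOne.l t) = g (RankOne.l t)) : f = g := by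
  refine MonoidHom.eq_of_eqOn_dense (RankOne.closure_u_w (F := F)) fun x hx => ?_
  rcases hx with ⟨t, rfl⟩ | rfl
  · exact hu t
  · rw [show (RankOne.w : SpecialLinearGroup (Fin 2) F) = RankOne.u 1 * RankOne.l (-1) * RankOne.u 1 from
      Subtype.ext (by
        simp only [RankOne.val_mul]
        ext i j; fin_cases i <;> fin_cases j <;>
          simp [RankOne.u, RankOne.l, RankOne.w, Matrix.mul_apply, Fin.sum_univ_two]),
      map_mul, map_mul, map_mul, map_mul, hu, hl]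

/-- The Frobenius power followed by the conjugation by `diag(c, 1)`. -/
def psiFun {K : Type*} [Field K] (φ : K →+* K) (c : Kˣ) (M : SpecialLinearGroup (Fin 2) K) :
    SpecialLinearGroup (Fin 2) K :=
  ⟨!![φ (M.1 0 0), (c : K) * φ (M.1 0 1); (c : K)⁻¹ * φ (M.1 1 0), φ (M.1 1 1)], by
    have h := congrArg φ M.2
    rw [Matrix.det_fin_two, map_sub, map_mul, map_mul, map_one] at h
    rw [Matrix.det_fin_two_of]
    calc φ (M.1 0 0) * φ (M.1 1 1) - (c : K) * φ (M.1 0 1) * ((c : K)⁻¹ * φ (M.1 1 0))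
        = φ (M.1 0 0) * φ (M.1 1 1) - φ (M.1 0 1) * φ (M.1 1 0) * ((c : K) * (c : K)⁻¹) := by ring
      _ = 1 := by rw [mul_inv_cancel₀ c.ne_zero, mul_one, h]⟩

theorem psiFun_val {K : Type*} [Field K] (φ : K →+* K) (c : Kˣ) (M : SpecialLinearGroup (Fin 2) K) :
    (psiFun φ c M).1 = !![φ (M.1 0 0), (c : K) * φ (M.1 0 1); (c : K)⁻¹ * φ (M.1 1 0), φ (M.1 1 1)] := rfl

/-- The homomorphism given by `psiFun`. -/
def psiHom {K : Type*} [Field K] (φ : K →+* K) (c : Kˣ) :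
    SpecialLinearGroup (Fin 2) K →* SpecialLinearGroup (Fin 2) K :=
  MonoidHom.mk' (psiFun φ c) fun M N => Subtype.ext (by
    have hc := c.ne_zero
    rw [RankOne.val_mul (psiFun φ c M) (psiFun φ c N), psiFun_val, psiFun_val, psiFun_val, RankOne.val_mul]
    ext i j
    fin_cases i <;> fin_cases j <;>
      simp [Matrix.mul_apply, Fin.sum_univ_two] <;> field_simp)

theorem psiHom_ul {K : Type*} [Field K] (φ : K →+* K) (c : Kˣ) (t : K) :
    psiHom φ c (RankOne.u t) = RankOne.u ((c : K) * φ t) ∧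
      psiHom φ c (RankOne.l t) = RankOne.l ((c : K)⁻¹ * φ t) := by
  constructor <;>
  · refine Subtype.ext ?_
    show (psiFun φ c _).1 = _
    rw [psiFun_val]
    ext i j
    fin_cases i <;> fin_cases j <;> simp [RankOne.u, RankOne.l]

end Rank1

namespace E7

variable (Φ : Chev Cfsg.Lie.chevE7)

theorem rootRefl_of_rev (r : Fin N7) : rootRefl Φ r.rev = rootRefl Φ r :=
  Equiv.ext fun x => Φ.toSys.V_inj fun j => by
    rw [V_rootRefl, V_rootRefl, (root_pairing Φ r.rev).2.1 x, (root_pairing Φ r).2.1 x, rB_comm Φ r.rev,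
      rB_rev, rB_comm Φ x r, Φ.V_neg]
    ring

theorem N_zero {r s : Fin N7} (h : rB Φ r s = 0) : Φ.N r s = 0 := by
  by_contra hN
  have hV : Φ.V (Φ.S r s) = Φ.V r + Φ.V s := funext fun j => Φ.V_add r s hN j
  have h2 : rB Φ r (Φ.S r s) = 2 := by
    simp only [rB, Bf, hV, Matrix.mulVec_add, dotProduct_add] at h ⊢
    have := rB_self Φ r
    simp only [rB, Bf] at this
    omega
  have h3 : Φ.V s = 0 := by
    rw [((root_pairing Φ r).2.2.1 _).2.2.1 h2] at hV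
    exact left_eq_add.1 hV
  have := rB_self Φ s
  simp [rB, Bf, h3] at this

theorem commute_orth {K : Type*} [Field K] {r s : Fin N7} (h : rB Φ r s = 0) (x y : K) :
    Commute (Φ.toAlg.xg r x) (Φ.toAlg.xg s y) := by
  refine Φ.toAlg.xg_commute (fun e => ?_) (N_zero Φ h) x y
  rw [e, rB_rev, rB_self] at h
  norm_num at h


/-- The group generated by a pair of opposite root subgroups. -/
def rootSL (K : Type*) [Field K] (r : Fin N7) : Subgroup (GL Cfsg.Lie.chevE7.Idx K) :=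
  Subgroup.closure (Set.range (fun t : K => Φ.toAlg.xg r t) ∪ Set.range fun t : K => Φ.toAlg.xg r.rev t)

theorem rootSL_eq_range (K : Type*) [Field K] (r : Fin N7) :
    rootSL Φ K r = (Φ.rankOne K r).hom.range := ((Φ.rankOne K r).range_hom).symm

theorem xg_mem_rootSL {K : Type*} [Field K] (r : Fin N7) (t : K) :
    Φ.toAlg.xg r t ∈ rootSL Φ K r ∧ Φ.toAlg.xg r.rev t ∈ rootSL Φ K r :=
  ⟨Subgroup.subset_closure (Or.inl ⟨t, rfl⟩), Subgroup.subset_closure (Or.inr ⟨t, rfl⟩)⟩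

theorem nw_mem_rootSL {K : Type*} [Field K] (r : Fin N7) (t : Kˣ) : Φ.nw r t ∈ rootSL Φ K r :=
  mul_mem (mul_mem (xg_mem_rootSL Φ r _).1 (xg_mem_rootSL Φ r _).2) (xg_mem_rootSL Φ r _).1

theorem rootSL_le_group (K : Type*) [Field K] (r : Fin N7) : rootSL Φ K r ≤ Cfsg.Lie.chevE7.group K := by
  rw [rootSL, Subgroup.closure_le]
  rintro _ (⟨t, rfl⟩ | ⟨t, rfl⟩) <;> exact Φ.toAlg.xg_mem_group _ _

theorem commute_rootSL {K : Type*} [Field K] {r s : Fin N7} (h : rB Φ r s = 0) {x y : GL Cfsg.Lie.chevE7.Idx K}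
    (hx : x ∈ rootSL Φ K r) (hy : y ∈ rootSL Φ K s) : Commute x y := by
  have key : rootSL Φ K r ≤ Subgroup.centralizer (rootSL Φ K s : Set (GL Cfsg.Lie.chevE7.Idx K)) := by
    rw [rootSL, Subgroup.closure_le]
    intro a ha
    rw [SetLike.mem_coe, Subgroup.mem_centralizer_iff]
    intro b hb
    suffices Commute a b from this.eq.symm
    induction hb using Subgroup.closure_induction with
    | mem b hb =>
      have h1 : rB Φ r.rev s = 0 := by rw [rB_comm, rB_rev, rB_comm, h, neg_zero]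
      rcases ha with ⟨t, rfl⟩ | ⟨t, rfl⟩ <;> rcases hb with ⟨u, rfl⟩ | ⟨u, rfl⟩
      exacts [commute_orth Φ h t u, commute_orth Φ (by rw [rB_rev, h, neg_zero]) t u, commute_orth Φ h1 t u,
        commute_orth Φ (by rw [rB_rev, h1, neg_zero]) t u]
    | one => exact Commute.one_right a
    | mul x y _ _ hx hy => exact hx.mul_right hy
    | inv x _ hx => exact hx.inv_right
  exact ((Subgroup.mem_centralizer_iff.1 (key hx)) y hy).symm

/-- A homomorphism permuting root elements permutes the rank one subgroups. -/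
theorem map_rootSL {K L : Type*} [Field K] [Field L] (τ : GL Cfsg.Lie.chevE7.Idx K →* GL Cfsg.Lie.chevE7.Idx L)
    {r s : Fin N7} (h1 : ∀ t, ∃ u, τ (Φ.toAlg.xg r t) = Φ.toAlg.xg s u)
    (h2 : ∀ t, ∃ u, τ (Φ.toAlg.xg r.rev t) = Φ.toAlg.xg s.rev u)
    {x : GL Cfsg.Lie.chevE7.Idx K} (hx : x ∈ rootSL Φ K r) : τ x ∈ rootSL Φ L s := by
  have key : rootSL Φ K r ≤ (rootSL Φ L s).comap τ := by
    rw [rootSL, Subgroup.closure_le]
    rintro _ (⟨t, rfl⟩ | ⟨t, rfl⟩)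
    · obtain ⟨u, hu⟩ := h1 t
      show τ (Φ.toAlg.xg r t) ∈ rootSL Φ L s
      rw [hu]; exact (xg_mem_rootSL Φ s u).1
    · obtain ⟨u, hu⟩ := h2 t
      show τ (Φ.toAlg.xg r.rev t) ∈ rootSL Φ L s
      rw [hu]; exact (xg_mem_rootSL Φ s u).2
  exact key hx

theorem commute_torus_rootSL {K : Type*} [Field K] {c : Fin n7 → Kˣ} {r : Fin N7}
    (h : Φ.toSys.chi c r = 1) {x : GL Cfsg.Lie.chevE7.Idx K} (hx : x ∈ rootSL Φ K r) :
    Commute (Φ.toAlg.torus c) x := by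
  induction hx using Subgroup.closure_induction with
  | mem y hy =>
    rcases hy with ⟨t, rfl⟩ | ⟨t, rfl⟩ <;> show _ * _ = _ <;> rw [Φ.toAlg.torus_xg]
    · rw [h, Units.val_one, one_mul]
    · rw [Φ.toSys.chi_neg, h, _root_.inv_one, Units.val_one, one_mul]
  | one => exact Commute.one_right _
  | mul x y _ _ hx hy => exact hx.mul_right hy
  | inv x _ hx => exact hx.inv_right

theorem conj_rootSL {K : Type*} [Field K] {h : GL Cfsg.Lie.chevE7.Idx K}
    (hh : h ∈ Cfsg.Lie.chevE7.diagonalSubgroup K) {r : Fin N7} {x : GL Cfsg.Lie.chevE7.Idx K}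
    (hx : x ∈ rootSL Φ K r) : h * x * h⁻¹ ∈ rootSL Φ K r := by
  obtain ⟨c, rfl⟩ := Φ.exists_torus_of_mem_H hh
  exact map_rootSL Φ (MulAut.conj (Φ.toAlg.torus c)).toMonoidHom
    (fun t => ⟨_, by show Φ.toAlg.torus c * _ * _ = _; rw [Φ.toAlg.torus_xg, mul_inv_cancel_right]⟩)
    (fun t => ⟨_, by show Φ.toAlg.torus c * _ * _ = _; rw [Φ.toAlg.torus_xg, mul_inv_cancel_right]⟩) hx

/-- An element commuting with a torus element whose zero set is three orthogonal pairs. -/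
theorem centralizer_parts {K : Type*} [Field K] {c : Fin n7 → Kˣ}
    (hcH : Φ.toAlg.torus c ∈ Cfsg.Lie.chevE7.diagonalSubgroup K) {a b d : Fin N7}
    (hz : ∀ x, Φ.toSys.chi c x = 1 ↔ Six a b d x) (o1 : rB Φ a b = 0) (o2 : rB Φ b d = 0) (o3 : rB Φ a d = 0)
    (hst : ∀ ρ ∈ Φ.WL, (∀ x, Φ.toSys.chi c (ρ x) = Φ.toSys.chi c x) →
      (∀ x ∈ ({a, b, d} : Finset (Fin N7)), ρ x = x ∨ ρ x = x.rev) ∧ (ρ a = a → ρ b = b → ρ d = d → ρ = 1))
    {g : GL Cfsg.Lie.chevE7.Idx K} (hg : g ∈ Cfsg.Lie.chevE7.group K) (hgc : Commute (Φ.toAlg.torus c) g) :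
    ∃ y0 ∈ rootSL Φ K a, ∃ y1 ∈ rootSL Φ K b, ∃ y2 ∈ rootSL Φ K d,
      ∃ h ∈ Cfsg.Lie.chevE7.diagonalSubgroup K, g = y0 * y1 * y2 * h := by
  classical
  let L : (rootSL Φ K a × rootSL Φ K b × rootSL Φ K d) →* GL Cfsg.Lie.chevE7.Idx K :=
    MonoidHom.mk' (fun p => (p.1 : GL Cfsg.Lie.chevE7.Idx K) * p.2.1 * p.2.2) fun p r => by
      show (p.1 * r.1 : GL Cfsg.Lie.chevE7.Idx K) * (p.2.1 * r.2.1) * (p.2.2 * r.2.2) = _
      have c1 := (commute_rootSL Φ o1 r.1.2 p.2.1.2).eq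
      have c2 := (commute_rootSL Φ o3 r.1.2 p.2.2.2).eq
      have c3 := (commute_rootSL Φ o2 r.2.1.2 p.2.2.2).eq
      calc (p.1 * r.1 : GL Cfsg.Lie.chevE7.Idx K) * (p.2.1 * r.2.1) * (p.2.2 * r.2.2)
          = (p.1 : GL Cfsg.Lie.chevE7.Idx K) * ((r.1 : GL Cfsg.Lie.chevE7.Idx K) * p.2.1) *
              ((r.2.1 : GL Cfsg.Lie.chevE7.Idx K) * p.2.2) * r.2.2 := by group
        _ = (p.1 : GL Cfsg.Lie.chevE7.Idx K) * p.2.1 * ((r.1 : GL Cfsg.Lie.chevE7.Idx K) * p.2.2) *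
              r.2.1 * r.2.2 := by rw [c1, c3]; group
        _ = _ := by rw [c2]; group
  have ha : rootSL Φ K a ≤ L.range := fun x hx => ⟨(⟨x, hx⟩, 1, 1), by simp [L]⟩
  have hb : rootSL Φ K b ≤ L.range := fun x hx => ⟨(1, ⟨x, hx⟩, 1), by simp [L]⟩
  have hd : rootSL Φ K d ≤ L.range := fun x hx => ⟨(1, 1, ⟨x, hx⟩), by simp [L]⟩
  have hconj : ∀ h ∈ Cfsg.Lie.chevE7.diagonalSubgroup K, ∀ x ∈ L.range, h * x * h⁻¹ ∈ L.range := by
    rintro h hh _ ⟨⟨p, q, r⟩, rfl⟩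
    show h * ((p : GL Cfsg.Lie.chevE7.Idx K) * q * r) * h⁻¹ ∈ _
    rw [show h * ((p : GL Cfsg.Lie.chevE7.Idx K) * q * r) * h⁻¹ = (h * p * h⁻¹) * (h * q * h⁻¹) * (h * r * h⁻¹)
      by group]
    exact mul_mem (mul_mem (ha (conj_rootSL Φ hh p.2)) (hb (conj_rootSL Φ hh q.2))) (hd (conj_rootSL Φ hh r.2))
  have hUS : ∀ {S : Fin N7 → Prop} {u : GL Cfsg.Lie.chevE7.Idx K},
      u ∈ Φ.US K (fun x => S x ∧ Φ.toSys.chi c x = 1) → u ∈ L.range := by
    intro S u hu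
    have : Φ.US K (fun x => S x ∧ Φ.toSys.chi c x = 1) ≤ L.range := by
      rw [US, Subgroup.closure_le]
      rintro _ ⟨x, t, ⟨-, hx⟩, rfl⟩
      rcases (hz x).1 hx with rfl | rfl | rfl | rfl | rfl | rfl
      exacts [ha (xg_mem_rootSL Φ _ t).1, ha (xg_mem_rootSL Φ _ t).2, hb (xg_mem_rootSL Φ _ t).1,
        hb (xg_mem_rootSL Φ _ t).2, hd (xg_mem_rootSL Φ _ t).1, hd (xg_mem_rootSL Φ _ t).2]
    exact this hu
  obtain ⟨v, hv, x, hx, n, hn, ρ, hρ, hm, hcρ, u, hu, rfl⟩ := commute_parts Φ hcH hg hgc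
  obtain ⟨hflip, hone⟩ := hst ρ hρ hcρ
  let e : Fin N7 → Equiv.Perm (Fin N7) := fun y => if ρ y = y then 1 else rootRefl Φ y
  let f : Fin N7 → GL Cfsg.Lie.chevE7.Idx K := fun y => if ρ y = y then 1 else Φ.nw y (1 : Kˣ)
  have hf : ∀ y, f y ∈ Cfsg.Lie.chevE7.monomialSubgroup K ∧ Φ.Mono (f y) (e y) ∧ f y ∈ rootSL Φ K y ∧
      e y ∈ Φ.WL := fun y => by
    simp only [f, e]
    split_ifs
    exacts [⟨one_mem _, Chev.Mono.one Φ, one_mem _, one_mem _⟩,
      ⟨Φ.nw_mem_N _ _, mono_nw_root Φ y 1, nw_mem_rootSL Φ y 1, rootRefl_mem Φ y⟩]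
  have hefix : ∀ {y z : Fin N7}, rB Φ y z = 0 → e y z = z := fun {y z} h => by
    simp only [e]; split_ifs
    exacts [rfl, rootRefl_fix Φ h]
  have heself : ∀ y ∈ ({a, b, d} : Finset (Fin N7)), e y y = ρ y ∧ e y y.rev = (ρ y).rev := fun y hy => by
    simp only [e]
    rcases hflip y hy with h | h
    · simp [h]
    · have : ρ y ≠ y := fun h' => rev_ne Φ y (h.symm.trans h')
      rw [if_neg this, rootRefl_self, rootRefl_rev, h, Fin.rev_rev]
      exact ⟨rfl, rfl⟩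
  set ε := e a * e b * e d with hε
  have hεW : ε ∈ Φ.WL := mul_mem (mul_mem (hf a).2.2.2 (hf b).2.2.2) (hf d).2.2.2
  have hεa : ε a = ρ a := by
    rw [hε, Equiv.Perm.mul_apply, Equiv.Perm.mul_apply, hefix (y := d) (by rw [rB_comm]; exact o3),
      hefix (y := b) (by rw [rB_comm]; exact o1), (heself a (by simp)).1]
  have hεb : ε b = ρ b := by
    rw [hε, Equiv.Perm.mul_apply, Equiv.Perm.mul_apply, hefix (y := d) (by rw [rB_comm]; exact o2),
      (heself b (by simp)).1]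
    rcases hflip b (by simp) with h | h <;> rw [h]
    · exact hefix o1
    · exact hefix (by rw [rB_rev, o1, neg_zero])
  have hεd : ε d = ρ d := by
    rw [hε, Equiv.Perm.mul_apply, Equiv.Perm.mul_apply, (heself d (by simp)).1]
    rcases hflip d (by simp) with h | h <;> rw [h]
    · rw [hefix o2]; exact hefix o3
    · rw [hefix (show rB Φ b d.rev = 0 by rw [rB_rev, o2, neg_zero])]
      exact hefix (by rw [rB_rev, o3, neg_zero])
  have hεc : ∀ z, Φ.toSys.chi c (ε z) = Φ.toSys.chi c z := by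
    have h1 : ∀ y, Φ.toSys.chi c y = 1 → ∀ z, Φ.toSys.chi c (e y z) = Φ.toSys.chi c z := fun y hy z => by
      simp only [e]; split_ifs
      · rfl
      · rw [chi_rootRefl, hy, _root_.one_zpow, _root_.inv_one, mul_one]
    intro z
    rw [hε, Equiv.Perm.mul_apply, Equiv.Perm.mul_apply, h1 a ((hz a).2 (Or.inl rfl)),
      h1 b ((hz b).2 (Or.inr (Or.inr (Or.inl rfl)))), h1 d ((hz d).2 (Or.inr (Or.inr (Or.inr (Or.inr (Or.inl rfl))))))]
  have hρε : ρ = ε := by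
    refine (inv_mul_eq_one.1 ((hst (ε⁻¹ * ρ) (mul_mem (inv_mem hεW) hρ) fun z => ?_).2 ?_ ?_ ?_)).symm
    · rw [Equiv.Perm.mul_apply, ← hεc, show ε (ε⁻¹ (ρ z)) = ρ z from ε.apply_symm_apply _, hcρ]
    all_goals simp only [Equiv.Perm.mul_apply, ← hεa, ← hεb, ← hεd]; exact ε.symm_apply_apply _
  set m := f a * f b * f d with hm'
  have hmN : m ∈ Cfsg.Lie.chevE7.monomialSubgroup K := mul_mem (mul_mem (hf a).1 (hf b).1) (hf d).1
  have hmM : Φ.Mono m ε := Chev.Mono.mul Φ (Chev.Mono.mul Φ (hf a).2.1 (hf b).2.1) (hf d).2.1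
  have hmL : m ∈ L.range := mul_mem (mul_mem (ha (hf a).2.2.1) (hb (hf b).2.2.1)) (hd (hf d).2.2.1)
  set h0 := m⁻¹ * n with hh0
  have hh0H : h0 ∈ Cfsg.Lie.chevE7.diagonalSubgroup K := Φ.inv_mul_mem_H hmN hn hmM (hρε ▸ hm)
  have hxh : x * h0 ∈ Cfsg.Lie.chevE7.diagonalSubgroup K := mul_mem hx hh0H
  obtain ⟨⟨y0, y1, y2⟩, hy⟩ := mul_mem (mul_mem (hUS hv) (hconj x hx m hmL)) (hconj (x * h0) hxh u (hUS hu))
  refine ⟨y0, y0.2, y1, y1.2, y2, y2.2, x * h0, hxh, ?_⟩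
  rw [show (y0 : GL Cfsg.Lie.chevE7.Idx K) * y1 * y2 = L (y0, y1, y2) from rfl, hy, hh0]
  group

/-- Lang's step: after a change by the three rank one subgroups the twisting element is monomial and its
cube moves the root `r` to its negative. -/
theorem lang_step {K1 : Type} [Field K1] [Finite K1] {p n0 q : ℕ} [ExpChar K1 p] (hpn : p ^ n0 = q)
    (hq0 : ((q : ℕ) : K1) = 0) (hq : 2 ≤ q) (σ1 : K1 ≃+* K1) (hσ1 : ∀ x, σ1 x = x ^ q)
    {a : GL Cfsg.Lie.chevE7.Idx K1} {w : GL Cfsg.Lie.chevE7.Idx K1}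
    (hwN : w ∈ Cfsg.Lie.chevE7.monomialSubgroup K1) {π : Equiv.Perm (Fin N7)} (hwM : Φ.Mono w π)
    {r : Fin N7} (o1 : rB Φ r (π r) = 0) (o2 : rB Φ (π r) (π (π r)) = 0) (o3 : rB Φ r (π (π r)) = 0)
    (h3 : π (π (π r)) = r) {y0 y1 y2 h : GL Cfsg.Lie.chevE7.Idx K1} (hy0 : y0 ∈ rootSL Φ K1 r)
    (hy1 : y1 ∈ rootSL Φ K1 (π r)) (hy2 : y2 ∈ rootSL Φ K1 (π (π r)))
    (hh : h ∈ Cfsg.Lie.chevE7.diagonalSubgroup K1) (hay : a * w⁻¹ = y0 * y1 * y2 * h) :
    ∃ (K2 : Type) (_ : Field K2) (_ : Finite K2) (j : K1 →+* K2) (σ2 : K2 ≃+* K2), (∀ x, σ2 x = x ^ q) ∧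
      ∃ k ∈ Cfsg.Lie.chevE7.group K2,
        (∀ c : Fin n7 → K2ˣ, Φ.toSys.chi c r = 1 → Φ.toSys.chi c (π r) = 1 → Φ.toSys.chi c (π (π r)) = 1 →
          Commute (Φ.toAlg.torus c) k) ∧
        k⁻¹ * (Matrix.GeneralLinearGroup.map j a * Matrix.GeneralLinearGroup.map σ2.toRingHom k) ∈
          Cfsg.Lie.chevE7.monomialSubgroup K2 ∧
        Φ.Mono (k⁻¹ * (Matrix.GeneralLinearGroup.map j a * Matrix.GeneralLinearGroup.map σ2.toRingHom k))
          (rootRefl Φ r * π) := by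
  classical
  -- over the first field
  set n1 := h * w with hn1d
  have hn1N : n1 ∈ Cfsg.Lie.chevE7.monomialSubgroup K1 := mul_mem (H_le_N hh) hwN
  have hn1M : Φ.Mono n1 π := by
    obtain ⟨c, hc⟩ := Φ.exists_torus_of_mem_H hh
    have := Chev.Mono.mul Φ (Φ.mono_torus c) hwM
    rwa [one_mul, ← hc] at this
  let τ1 : GL Cfsg.Lie.chevE7.Idx K1 →* GL Cfsg.Lie.chevE7.Idx K1 :=
    (MulAut.conj n1).toMonoidHom.comp (Matrix.GeneralLinearGroup.map σ1.toRingHom)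
  have hτ1 : ∀ x, τ1 x = n1 * Matrix.GeneralLinearGroup.map σ1.toRingHom x * n1⁻¹ := fun x => rfl
  have hτ1x : ∀ s (t : K1), τ1 (Φ.toAlg.xg s t) = n1 * Φ.toAlg.xg s (t ^ q) * n1⁻¹ := fun s t => by
    rw [hτ1, map_root_xg, show σ1.toRingHom t = t ^ q from hσ1 t]
  have hstep : ∀ {s x}, x ∈ rootSL Φ K1 s → τ1 x ∈ rootSL Φ K1 (π s) := fun {s x} hx => by
    obtain ⟨α, -, e1, e2⟩ := mono_pair Φ hn1N hn1M s
    exact map_rootSL Φ τ1 (fun t => ⟨_, (hτ1x s t).trans (e1 _)⟩) (fun t => ⟨_, (hτ1x s.rev t).trans (e2 _)⟩) hx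
  obtain ⟨k0, hk0⟩ : ∃ x, x = y1 * (y2 * τ1 y1) := ⟨_, rfl⟩
  obtain ⟨Y0, hY0⟩ : ∃ x, x = y0 * τ1 y2 * τ1 (τ1 y1) := ⟨_, rfl⟩
  have hY0S : Y0 ∈ rootSL Φ K1 r := by
    have m1 := hstep hy2
    have m2 := hstep (hstep hy1)
    rw [h3] at m1 m2
    rw [hY0]
    exact mul_mem (mul_mem hy0 m1) m2
  have key1 : k0⁻¹ * (a * Matrix.GeneralLinearGroup.map σ1.toRingHom k0) = Y0 * n1 := by
    have ea : a = y0 * y1 * y2 * n1 := by rw [hn1d, ← mul_assoc, ← hay, inv_mul_cancel_right]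
    rw [ea, show y0 * y1 * y2 * n1 * Matrix.GeneralLinearGroup.map σ1.toRingHom k0 = y0 * y1 * y2 * τ1 k0 * n1
      by rw [hτ1]; group, ← mul_assoc]
    congr 1
    rw [hY0, hk0, map_mul τ1 y1, map_mul τ1 y2]
    have t1 : τ1 y1 ∈ rootSL Φ K1 (π (π r)) := hstep hy1
    have c0 : Commute y0 (y1 * (y2 * τ1 y1)) :=
      (commute_rootSL Φ o1 hy0 hy1).mul_right
        ((commute_rootSL Φ o3 hy0 hy2).mul_right (commute_rootSL Φ o3 hy0 t1))
    calc (y1 * (y2 * τ1 y1))⁻¹ * (y0 * y1 * y2 * (τ1 y1 * (τ1 y2 * τ1 (τ1 y1))))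
        = (y1 * (y2 * τ1 y1))⁻¹ * (y0 * (y1 * (y2 * τ1 y1))) * (τ1 y2 * τ1 (τ1 y1)) := by group
      _ = _ := by rw [c0.eq]; group
  rw [rootSL_eq_range] at hY0S
  obtain ⟨M, hM⟩ := hY0S
  obtain ⟨α0, hα0, A0, -⟩ := mono_pair Φ hn1N hn1M r
  obtain ⟨α1, hα1, A1, -⟩ := mono_pair Φ hn1N hn1M (π r)
  obtain ⟨α2, hα2, A2, -⟩ := mono_pair Φ hn1N hn1M (π (π r))
  set C1 : K1 := α2 * (α1 * α0 ^ q) ^ q with hC1
  have hC10 : C1 ≠ 0 := by rw [hC1]; simp [hα0, hα1, hα2]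
  have hQ : 3 ≤ p ^ (3 * n0) := by
    rw [mul_comm, pow_mul, hpn]
    exact le_trans (by norm_num) (Nat.pow_le_pow_left hq 3)
  have hQ0 : ((p ^ (3 * n0) : ℕ) : K1) = 0 := by
    rw [mul_comm, pow_mul, hpn, Nat.cast_pow, hq0, zero_pow (by norm_num)]
  obtain ⟨K2, _, _, j, kk, s, t, hkk⟩ := exists_antidiag hQ0 hQ (M.1 * !![C1, 0; 0, 1]) (by
    rw [Matrix.det_mul, M.2, one_mul, Matrix.det_fin_two_of]; simpa using hC10)
  haveI : ExpChar K2 p := expChar_of_injective_ringHom j.injective p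
  let σ2 : K2 ≃+* K2 := RingEquiv.ofBijective (iterateFrobenius K2 p n0)
    (Finite.injective_iff_bijective.1 (iterateFrobenius K2 p n0).injective)
  have hσ2 : ∀ x, σ2 x = x ^ q := fun x => by
    show iterateFrobenius K2 p n0 x = _
    rw [iterateFrobenius_def, hpn]
  let mj := Matrix.GeneralLinearGroup.map (n := Cfsg.Lie.chevE7.Idx) j
  have hcompat : ∀ x, Matrix.GeneralLinearGroup.map σ2.toRingHom (mj x) =
      mj (Matrix.GeneralLinearGroup.map σ1.toRingHom x) := fun x => Units.ext (Matrix.ext fun i l => by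
    show σ2 (j _) = j (σ1 _)
    rw [hσ2, hσ1, map_pow])
  set n2 := mj n1 with hn2
  have hn2N : n2 ∈ Cfsg.Lie.chevE7.monomialSubgroup K2 := map_mem_monomial Φ j hn1N
  obtain ⟨ρ, -, hρ, -⟩ := Φ.exists_mono_W hn2N
  have hval : ∀ (s : Fin N7) (α : K1), α ≠ 0 →
      (∀ u, n1 * Φ.toAlg.xg s u * n1⁻¹ = Φ.toAlg.xg (π s) (α * u)) →
      ρ s = π s ∧ (∀ u, n2 * Φ.toAlg.xg s u * n2⁻¹ = Φ.toAlg.xg (π s) (j α * u)) ∧
        ∀ u, n2 * Φ.toAlg.xg s.rev u * n2⁻¹ = Φ.toAlg.xg (π s).rev ((j α)⁻¹ * u) := by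
    intro s α hα e1
    obtain ⟨β, hβ, f1, f2⟩ := mono_pair Φ hn2N hρ s
    have hj : n2 * Φ.toAlg.xg s 1 * n2⁻¹ = Φ.toAlg.xg (π s) (j α) := by
      show mj n1 * Φ.toAlg.xg s 1 * (mj n1)⁻¹ = _
      rw [← map_one j, ← map_root_xg Φ j, ← map_inv, ← map_mul, ← map_mul, e1, map_root_xg, mul_one]
    rw [f1, mul_one] at hj
    have hρπ : ρ s = π s := Φ.root_eq_of_xg_eq hβ hj
    rw [hρπ] at hj f1 f2
    have hβα : β = j α := Φ.toAlg.xg_injective _ hj
    exact ⟨hρπ, hβα ▸ f1, hβα ▸ f2⟩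
  have hn2M : Φ.Mono n2 π := by
    have : ρ = π := Equiv.ext fun s => by
      obtain ⟨α, hα, e1, -⟩ := mono_pair Φ hn1N hn1M s
      exact (hval s α hα e1).1
    rwa [← this]
  obtain ⟨-, B0, B0'⟩ := hval r α0 hα0 A0
  obtain ⟨-, B1, B1'⟩ := hval (π r) α1 hα1 A1
  obtain ⟨-, B2, B2'⟩ := hval (π (π r)) α2 hα2 A2
  rw [h3] at B2 B2'
  let τ : GL Cfsg.Lie.chevE7.Idx K2 →* GL Cfsg.Lie.chevE7.Idx K2 :=
    (MulAut.conj n2).toMonoidHom.comp (Matrix.GeneralLinearGroup.map σ2.toRingHom)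
  have hτ : ∀ x, τ x = n2 * Matrix.GeneralLinearGroup.map σ2.toRingHom x * n2⁻¹ := fun x => rfl
  have hτx : ∀ s (u : K2), τ (Φ.toAlg.xg s u) = n2 * Φ.toAlg.xg s (u ^ q) * n2⁻¹ := fun s u => by
    rw [hτ, map_root_xg, show σ2.toRingHom u = u ^ q from hσ2 u]
  let φ := (Φ.rankOne K2 r).hom
  let C : K2ˣ := Units.mk0 (j C1) ((map_ne_zero j).2 hC10)
  let fr : K2 →+* K2 := iterateFrobenius K2 p (3 * n0)
  have hfr : ∀ u, fr u = u ^ (q * q * q) := fun u => by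
    show iterateFrobenius K2 p (3 * n0) u = _
    rw [iterateFrobenius_def, mul_comm 3, pow_mul, hpn]; congr 1; ring
  have hcube : (τ.comp (τ.comp (τ.comp φ))) = φ.comp (psiHom fr C) := by
    refine sl2_hom_ext (fun u => ?_) fun u => ?_
    · show τ (τ (τ (φ (RankOne.u u)))) = φ (psiHom fr C (RankOne.u u))
      rw [(psiHom_ul fr C u).1, RankOne.hom_u, RankOne.hom_u]
      show τ (τ (τ (Φ.toAlg.xg r u))) = Φ.toAlg.xg r _
      rw [hτx, B0, hτx, B1, hτx, B2, hfr]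
      congr 1
      simp only [C, Units.val_mk0, hC1, map_mul, map_pow, mul_pow, ← pow_mul]
      ring
    · show τ (τ (τ (φ (RankOne.l u)))) = φ (psiHom fr C (RankOne.l u))
      rw [(psiHom_ul fr C u).2, RankOne.hom_l, RankOne.hom_l]
      show τ (τ (τ (Φ.toAlg.xg r.rev u))) = Φ.toAlg.xg r.rev _
      rw [hτx, B0', hτx, B1', hτx, B2', hfr]
      congr 1
      simp only [C, Units.val_mk0, hC1, map_mul, map_pow, mul_pow, _root_.mul_inv, inv_pow, ← pow_mul]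
      ring
  have hmapφ : mj.comp (Φ.rankOne K1 r).hom = φ.comp (SpecialLinearGroup.map j) := by
    refine sl2_hom_ext (fun u => ?_) fun u => ?_
    · show mj _ = φ _
      rw [RankOne.hom_u, show SpecialLinearGroup.map j (RankOne.u u) = RankOne.u (j u) from Subtype.ext (by
        ext i l; change j ((RankOne.u u).1 i l) = _; fin_cases i <;> fin_cases l <;> simp [RankOne.u]), RankOne.hom_u]
      exact map_root_xg Φ j r u
    · show mj _ = φ _
      rw [RankOne.hom_l, show SpecialLinearGroup.map j (RankOne.l u) = RankOne.l (j u) from Subtype.ext (by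
        ext i l; change j ((RankOne.l u).1 i l) = _; fin_cases i <;> fin_cases l <;> simp [RankOne.l]), RankOne.hom_l]
      exact map_root_xg Φ j r.rev u
  set Mj : SpecialLinearGroup (Fin 2) K2 := SpecialLinearGroup.map j M with hMj
  have hY : mj Y0 = φ Mj := by rw [← hM]; exact DFunLike.congr_fun hmapφ M
  -- the two-cycle
  set W := kk⁻¹ * (Mj * psiHom fr C kk) with hW
  have hWval : W.1 = !![0, s; t * ((C : K2))⁻¹, 0] := by
    have h1 : (Mj * psiHom fr C kk).1 = kk.1 * !![0, s; t * ((C : K2))⁻¹, 0] := by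
      have hk := hkk
      rw [Matrix.map_mul, show M.1.map j = Mj.1 from rfl, show (!![C1, 0; 0, 1] : Matrix (Fin 2) (Fin 2) K1).map j = !![(C : K2), 0; 0, 1] by
        ext i l; fin_cases i <;> fin_cases l <;> simp [C]] at hk
      calc (Mj * psiHom fr C kk).1 = Mj.1 * (psiFun fr C kk).1 := rfl
        _ = Mj.1 * (!![(C : K2), 0; 0, 1] * kk.1.map (· ^ p ^ (3 * n0))) * !![(C : K2)⁻¹, 0; 0, 1] := by
          rw [psiFun_val, mul_assoc]
          congr 1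
          have hc := C.ne_zero
          ext i l
          fin_cases i <;> fin_cases l <;> simp [Matrix.mul_apply, Matrix.vecMul, dotProduct, Fin.sum_univ_two, fr, iterateFrobenius_def] <;>
            field_simp
        _ = kk.1 * !![0, s; t, 0] * !![(C : K2)⁻¹, 0; 0, 1] := by
          rw [← mul_assoc Mj.1, hk]
        _ = _ := by
          rw [mul_assoc]
          congr 1
          ext i l
          fin_cases i <;> fin_cases l <;> simp [Matrix.mul_apply, Fin.sum_univ_two]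
    rw [hW, RankOne.val_mul, h1, ← mul_assoc, ← RankOne.val_mul, inv_mul_cancel]
    exact one_mul _
  have hst1 : s * (t * ((C : K2))⁻¹) = -1 := by
    have := W.2
    rw [hWval, Matrix.det_fin_two_of, zero_mul, zero_sub, neg_eq_iff_eq_neg] at this
    exact this
  have hs0 : s ≠ 0 := fun h => by rw [h, zero_mul] at hst1; simp at hst1
  have hWeq : W = RankOne.u s * RankOne.l (-s⁻¹) * RankOne.u s := Subtype.ext (by
    rw [hWval]
    simp only [RankOne.val_mul]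
    have e : t * ((C : K2))⁻¹ = -s⁻¹ := by
      refine mul_left_cancel₀ hs0 ?_
      rw [hst1, mul_neg, mul_inv_cancel₀ hs0]
    rw [e]
    ext i l
    fin_cases i <;> fin_cases l <;> simp [RankOne.u, RankOne.l, Matrix.mul_apply, Fin.sum_univ_two, hs0])
  have hφW : φ W = Φ.nw r (Units.mk0 s hs0) := by
    rw [hWeq, map_mul, map_mul, RankOne.hom_u, RankOne.hom_l]
    rfl
  set k1 := φ kk with hk1
  have hk1S : k1 ∈ rootSL Φ K2 r := by rw [rootSL_eq_range]; exact ⟨kk, rfl⟩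
  have hfin : k1⁻¹ * (mj Y0 * τ (τ (τ k1))) = Φ.nw r (Units.mk0 s hs0) := by
    rw [← hφW, hW, map_mul, map_mul, map_inv, hY, hk1]
    congr 2
    exact DFunLike.congr_fun hcube kk
  have hstep2 : ∀ {x : GL Cfsg.Lie.chevE7.Idx K2}, x ∈ rootSL Φ K2 r →
      τ x ∈ rootSL Φ K2 (π r) ∧ τ (τ x) ∈ rootSL Φ K2 (π (π r)) := fun {x} hx => by
    have h1 := map_rootSL Φ τ (fun u => ⟨_, (hτx r u).trans (B0 _)⟩) (fun u => ⟨_, (hτx r.rev u).trans (B0' _)⟩) hx
    exact ⟨h1, map_rootSL Φ τ (fun u => ⟨_, (hτx (π r) u).trans (B1 _)⟩)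
      (fun u => ⟨_, (hτx (π r).rev u).trans (B1' _)⟩) h1⟩
  obtain ⟨hk1b, hk1d⟩ := hstep2 hk1S
  have hYS : mj Y0 ∈ rootSL Φ K2 r := by rw [rootSL_eq_range, hY]; exact ⟨Mj, rfl⟩
  have key2 : (k1 * τ k1 * τ (τ k1))⁻¹ * (mj Y0 * τ (k1 * τ k1 * τ (τ k1))) =
      k1⁻¹ * (mj Y0 * τ (τ (τ k1))) := by
    rw [map_mul, map_mul]
    have hc : Commute (k1⁻¹ * mj Y0) (τ k1 * τ (τ k1)) :=
      (commute_rootSL Φ o1 (mul_mem (inv_mem hk1S) hYS) hk1b).mul_right
        (commute_rootSL Φ o3 (mul_mem (inv_mem hk1S) hYS) hk1d)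
    calc (k1 * τ k1 * τ (τ k1))⁻¹ * (mj Y0 * (τ k1 * τ (τ k1) * τ (τ (τ k1))))
        = (τ k1 * τ (τ k1))⁻¹ * ((k1⁻¹ * mj Y0) * (τ k1 * τ (τ k1))) * τ (τ (τ k1)) := by group
      _ = _ := by rw [hc.eq]; group
  set k := mj k0 * (k1 * τ k1 * τ (τ k1)) with hk
  have hk0S : ∀ (f : Subgroup (GL Cfsg.Lie.chevE7.Idx K2)), rootSL Φ K2 (π r) ≤ f → rootSL Φ K2 (π (π r)) ≤ f →
      mj k0 ∈ f := by
    intro f hb hd
    have hm : ∀ {x : Fin N7} {z}, z ∈ rootSL Φ K1 x → mj z ∈ rootSL Φ K2 x := fun {x z} hz =>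
      map_rootSL Φ mj (fun u => ⟨_, map_root_xg Φ j x u⟩) (fun u => ⟨_, map_root_xg Φ j x.rev u⟩) hz
    rw [hk0, map_mul, map_mul]
    exact mul_mem (hb (hm hy1)) (mul_mem (hd (hm hy2)) (hd (hm (hstep hy1))))
  have hkey : k⁻¹ * (mj a * Matrix.GeneralLinearGroup.map σ2.toRingHom k) = Φ.nw r (Units.mk0 s hs0) * n2 := by
    have e1 : (mj k0)⁻¹ * (mj a * Matrix.GeneralLinearGroup.map σ2.toRingHom (mj k0)) = mj Y0 * n2 := by
      rw [hcompat, ← map_inv, ← map_mul, ← map_mul, key1, map_mul]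
    calc k⁻¹ * (mj a * Matrix.GeneralLinearGroup.map σ2.toRingHom k)
        = (k1 * τ k1 * τ (τ k1))⁻¹ * ((mj k0)⁻¹ * (mj a * Matrix.GeneralLinearGroup.map σ2.toRingHom (mj k0))) *
            Matrix.GeneralLinearGroup.map σ2.toRingHom (k1 * τ k1 * τ (τ k1)) := by
          rw [hk, map_mul]; group
      _ = (k1 * τ k1 * τ (τ k1))⁻¹ * (mj Y0 * τ (k1 * τ k1 * τ (τ k1))) * n2 := by
          generalize k1 * τ k1 * τ (τ k1) = x
          rw [e1, hτ x]; group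
      _ = _ := by rw [key2, hfin]
  refine ⟨K2, inferInstance, inferInstance, j, σ2, hσ2, k, ?_, fun c c0 c1 c2 => ?_, ?_, ?_⟩
  · exact mul_mem (hk0S _ (rootSL_le_group Φ K2 _) (rootSL_le_group Φ K2 _))
      (mul_mem (mul_mem (rootSL_le_group Φ K2 _ hk1S) (rootSL_le_group Φ K2 _ hk1b)) (rootSL_le_group Φ K2 _ hk1d))
  · have hk0c : mj k0 ∈ Subgroup.centralizer {Φ.toAlg.torus c} :=
      hk0S _ (fun x hx => Subgroup.mem_centralizer_singleton_iff.2 (commute_torus_rootSL Φ c1 hx).eq.symm)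
        fun x hx => Subgroup.mem_centralizer_singleton_iff.2 (commute_torus_rootSL Φ c2 hx).eq.symm
    exact (show Commute (Φ.toAlg.torus c) (mj k0) from (Subgroup.mem_centralizer_singleton_iff.1 hk0c).symm).mul_right
      (((commute_torus_rootSL Φ c0 hk1S).mul_right (commute_torus_rootSL Φ c1 hk1b)).mul_right
        (commute_torus_rootSL Φ c2 hk1d))
  · rw [hkey]; exact mul_mem (Φ.nw_mem_N _ _) hn2N
  · rw [hkey]; exact Chev.Mono.mul Φ (mono_nw_root Φ r _) hn2M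

end E7

end CfsgLib.CoxTorus
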