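import Cfsg.Agent.Lib.CoxTorus.E7Lang
import Cfsg.Agent.Lib.CoxTorus.E7Cover
import Cfsg.Agent.Lib.CoxTorus.E6Main

/-!
A self-centralizing cyclic subgroup of order `Φ₁₂(q)(q³+1)/(2, q-1)` in the Chevalley group of type E7.
-/

set_option autoImplicit false
set_option linter.dupNamespace false
set_option linter.unusedSectionVars false
set_option maxRecDepth 100000
set_option maxHeartbeats 1600000

namespace CfsgLib.CoxTorus.E7

open Cfsg.Lie Matrix Polynomial CfsgLib.Chev CfsgLib.Chev.Chev CfsgLib.InvTorus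

variable (Φ : Chev Cfsg.Lie.chevE7)

/-- The order of the twisted torus. -/
def tor (q : ℕ) : ℕ := (q ^ 4 - q ^ 2 + 1) * (q ^ 3 + 1)

theorem tor_cast (q : ℕ) :
    (tor q : ℤ) = (cyclotomic 12 ℤ * cyclotomic 6 ℤ * cyclotomic 2 ℤ).eval (q : ℤ) := by
  rw [eval_mul, eval_mul, E6.eval_twelve, cyclotomic_two_six.1, cyclotomic_two_six.2, tor]
  simp only [eval_add, eval_sub, eval_pow, eval_X, eval_one]
  push_cast [Nat.cast_sub (E6.sq_le_four q)]
  ring

theorem dvd_X_pow_sub_one : cyclotomic 12 ℤ * cyclotomic 6 ℤ * cyclotomic 2 ℤ ∣ X ^ 12 - 1 := by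
  rw [← prod_cyclotomic_eq_X_pow_sub_one (by norm_num) ℤ, mul_assoc,
    ← Finset.prod_pair (f := fun d => cyclotomic d ℤ) (show (6 : ℕ) ≠ 2 by norm_num),
    ← Finset.prod_insert (f := fun d => cyclotomic d ℤ) (show (12 : ℕ) ∉ ({6, 2} : Finset ℕ) by simp)]
  exact Finset.prod_dvd_prod_of_subset _ _ _ (by decide)

include Φ in
theorem card_H_gcd (K : Type*) [Field K] [Finite K] :
    Nat.gcd (Nat.card K - 1) 2 * Nat.card (Cfsg.Lie.chevE7.diagonalSubgroup K) =
      (Nat.card K - 1) ^ Cfsg.Lie.chevE7.rank := by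
  refine Eq.trans ?_ (cardHE7 Φ K)
  simp [Fin.prod_univ_seven]

include Φ in
theorem dvd_card_group {F : Type*} [Field F] [Finite F] {ℓ : ℕ} (hℓp : ℓ.Prime) (hℓ : 12 < ℓ)
    (h : (ℓ : ℤ) ∣ (cyclotomic 12 ℤ).eval (Nat.card F : ℤ)) : ℓ ∣ Nat.card (Cfsg.Lie.chevE7.group F) := by
  have ho := Φ.order_formula (F := F) (g := Nat.gcd (Nat.card F - 1) 2) (degs := [2, 6, 8, 10, 12, 14, 18]) rfl
    (card_H_gcd Φ F) (sumWE7 Φ)
  have h12 : ℓ ∣ Nat.card F ^ 12 - 1 := by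
    rw [← Int.natCast_dvd_natCast, Nat.cast_sub (Nat.one_le_pow _ _ Nat.card_pos)]
    push_cast
    have h1 := Polynomial.eval_dvd (x := (Nat.card F : ℤ)) (Polynomial.cyclotomic.dvd_X_pow_sub_one 12 ℤ)
    simpa using h.trans h1
  have hd : ℓ ∣ Nat.gcd (Nat.card F - 1) 2 * Nat.card (Cfsg.Lie.chevE7.group F) := by
    rw [ho]
    exact dvd_mul_of_dvd_right (h12.trans (List.dvd_prod (List.mem_map.2 ⟨12, by simp, rfl⟩))) _
  refine ((hℓp.coprime_iff_not_dvd).2 fun h3 => ?_).dvd_of_dvd_mul_left hd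
  have := Nat.le_of_dvd (by norm_num) (h3.trans (Nat.gcd_dvd_right _ _))
  omega

theorem exists_lam {K : Type*} [Field K] {ℓ : ℕ} [Fact ℓ.Prime] {c : Fin n7 → Kˣ} (hcl : c ^ ℓ = 1)
    (hc1 : c ≠ 1) : ∃ v : Fin n7 → ZMod ℓ, v ≠ 0 ∧
      ∀ r s (m : ℕ), Φ.toSys.chi c r = Φ.toSys.chi c s ^ m ↔ lam Φ v r = m * lam Φ v s := by
  classical
  obtain ⟨i0, hi0⟩ : ∃ i, c i ≠ 1 := by
    by_contra! h
    exact hc1 (funext h)
  set ζ := c i0 with hζd
  have hoζ : orderOf ζ = ℓ := orderOf_eq_prime (congrFun hcl i0) hi0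
  have hprim : IsPrimitiveRoot ζ ℓ := IsPrimitiveRoot.iff_orderOf.2 hoζ
  haveI : NeZero ℓ := ⟨(Fact.out : ℓ.Prime).ne_zero⟩
  have hmem : ∀ k, ∃ z : ℤ, ζ ^ z = c k := fun k => by
    have : c k ∈ Subgroup.zpowers ζ := by
      rw [hprim.zpowers_eq, mem_rootsOfUnity]
      exact congrFun hcl k
    exact Subgroup.mem_zpowers_iff.1 this
  choose n hn using hmem
  set v : Fin n7 → ZMod ℓ := fun k => (n k : ZMod ℓ) with hv
  have hzeq : ∀ a b : ℤ, ζ ^ a = ζ ^ b ↔ (a : ZMod ℓ) = b := fun a b => by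
    rw [zpow_eq_zpow_iff_modEq, hoζ, ZMod.intCast_eq_intCast_iff]
  have hchi : ∀ r, ∃ z : ℤ, Φ.toSys.chi c r = ζ ^ z ∧ (z : ZMod ℓ) = lam Φ v r := fun r => by
    refine ⟨∑ i, n i * Φ.V r i, ?_, by simp [lam, hv, mul_comm]⟩
    simp only [Sys.chi, ← hn, ← _root_.zpow_mul]
    induction (Finset.univ : Finset (Fin n7)) using Finset.induction_on with
    | empty => simp
    | insert k s hk ih => rw [Finset.prod_insert hk, Finset.sum_insert hk, _root_.zpow_add, ih]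
  refine ⟨v, fun h => hi0 ?_, fun r s m => ?_⟩
  · have : ζ ^ n i0 = ζ ^ (0 : ℤ) := (hzeq _ _).2 (by simpa [hv] using congrFun h i0)
    rwa [hn, _root_.zpow_zero] at this
  · obtain ⟨a, ha, ha'⟩ := hchi r
    obtain ⟨b, hb, hb'⟩ := hchi s
    rw [ha, hb, ← zpow_natCast, ← _root_.zpow_mul, hzeq, ← ha', ← hb']
    push_cast
    rw [mul_comm (b : ZMod ℓ)]

theorem chi_eq_one_iff {K : Type*} [Field K] {ℓ : ℕ} [Fact ℓ.Prime] {c : Fin n7 → Kˣ} {v : Fin n7 → ZMod ℓ}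
    (h : ∀ r s (m : ℕ), Φ.toSys.chi c r = Φ.toSys.chi c s ^ m ↔ lam Φ v r = m * lam Φ v s) (r : Fin N7) :
    Φ.toSys.chi c r = 1 ↔ lam Φ v r = 0 := by
  have := h r r 0
  simpa using this

theorem rootMultiplicity_two :
    ((cyclotomic 12 ℤ * cyclotomic 6 ℤ * cyclotomic 2 ℤ).map (Int.castRingHom (ZMod 2))).rootMultiplicity 1 ≤ 1 := by
  haveI : Fact (Nat.Prime 2) := ⟨Nat.prime_two⟩
  rw [cyclotomic_twelve, cyclotomic_two_six.1, cyclotomic_two_six.2]
  simp only [Polynomial.map_mul, Polynomial.map_add, Polynomial.map_sub, Polynomial.map_pow, map_X,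
    Polynomial.map_one]
  have n1 : ¬ ((X : (ZMod 2)[X]) ^ 4 - X ^ 2 + 1).IsRoot 1 := by simp [IsRoot]
  have n2 : ¬ ((X : (ZMod 2)[X]) ^ 2 - X + 1).IsRoot 1 := by simp [IsRoot]
  have hne : ∀ {Q : (ZMod 2)[X]}, ¬ Q.IsRoot 1 → Q ≠ 0 := fun {Q} h h0 => h (by simp [h0])
  have h3 : (X + 1 : (ZMod 2)[X]) = X - C 1 := by
    rw [map_one, sub_eq_add_neg]
    congr 1
    exact (CharTwo.neg_eq 1).symm
  rw [h3, rootMultiplicity_mul (mul_ne_zero (mul_ne_zero (hne n1) (hne n2)) (X_sub_C_ne_zero 1)),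
    rootMultiplicity_mul (mul_ne_zero (hne n1) (hne n2)), rootMultiplicity_eq_zero n1,
    rootMultiplicity_eq_zero n2, rootMultiplicity_X_sub_C_self]

/-- Few elements of prime order in the twisted kernel when the eigenvalue is simple modulo the prime. -/
theorem card_torsion_le_of_simple {r : ℕ} {K : Type*} [Field K] [Finite K] {p : ℕ} [Fact p.Prime]
    (P : Matrix (Fin r) (Fin r) ℤ) (q : ℤ)
    (hP : (P.charpoly.map (Int.castRingHom (ZMod p))).rootMultiplicity (q : ZMod p) ≤ 1)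
    (hpK : p ∣ Nat.card Kˣ) :
    Nat.card (powMonoidHom p : (expM (A := Kˣ) (Matrix.scalar (Fin r) q - P)).ker →* _).ker ≤ p := by
  classical
  obtain ⟨η, hη⟩ := exists_prime_orderOf_dvd_card' p hpK
  have hprim : IsPrimitiveRoot η p := IsPrimitiveRoot.iff_orderOf.2 hη
  haveI : NeZero p := ⟨(Fact.out : p.Prime).ne_zero⟩
  have hmem : ∀ u : Kˣ, u ^ p = 1 → ∃ z : ℤ, η ^ z = u := fun u hu => by
    have : u ∈ Subgroup.zpowers η := by
      rw [hprim.zpowers_eq, mem_rootsOfUnity]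
      exact hu
    exact Subgroup.mem_zpowers_iff.1 this
  set T := Matrix.scalar (Fin r) q - P with hT
  set Pp : Matrix (Fin r) (Fin r) (ZMod p) := P.map (Int.castRingHom (ZMod p)) with hPp
  let S := (powMonoidHom p : (expM (A := Kˣ) T).ker →* _).ker
  have hpow : ∀ (d : S) (k : Fin r), (d.1.1 k) ^ p = 1 := fun d k => by
    have h := congrArg (fun x : (expM (A := Kˣ) T).ker => x.1 k) (MonoidHom.mem_ker.1 d.2)
    simpa using h
  choose y hy using fun (d : S) (k : Fin r) => hmem _ (hpow d k)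
  let E := Module.End.eigenspace (Matrix.toLin' Pp) (q : ZMod p)
  have hmapsto : ∀ d : S, (fun k => (y d k : ZMod p)) ∈ E := fun d => by
    rw [Module.End.mem_eigenspace_iff, Matrix.toLin'_apply]
    funext k
    have h := congrFun (MonoidHom.mem_ker.1 d.1.2) k
    have h' : η ^ (∑ j, T k j * y d j) = 1 := by
      refine Eq.trans ?_ h
      rw [expM_apply]
      simp only [← hy, ← _root_.zpow_mul, mul_comm (T k _)]
      induction (Finset.univ : Finset (Fin r)) using Finset.induction_on with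
      | empty => simp
      | insert j s hj ih => rw [Finset.prod_insert hj, Finset.sum_insert hj, _root_.zpow_add, ih]
    rw [← orderOf_dvd_iff_zpow_eq_one, hη, ← ZMod.intCast_zmod_eq_zero_iff_dvd] at h'
    push_cast at h'
    simp only [hT, Matrix.sub_apply, Matrix.scalar_apply, Matrix.diagonal_apply, Int.cast_sub, sub_mul,
      Finset.sum_sub_distrib, apply_ite (fun z : ℤ => (z : ZMod p)), Int.cast_zero, ite_mul, zero_mul,
      Finset.sum_ite_eq, Finset.mem_univ, if_true, sub_eq_zero] at h'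
    simp only [Matrix.mulVec, dotProduct, hPp, Matrix.map_apply, Pi.smul_apply, smul_eq_mul,
      eq_intCast, h']
  refine (Nat.card_le_card_of_injective (fun d : S => (⟨_, hmapsto d⟩ : E)) fun d d' h => ?_).trans ?_
  · refine Subtype.ext (Subtype.ext (funext fun k => ?_))
    have hk : (y d k : ZMod p) = (y d' k : ZMod p) := congrFun (congrArg (fun u : E => u.1) h) k
    rw [← hy d k, ← hy d' k, zpow_eq_zpow_iff_modEq, hη]
    exact (ZMod.intCast_eq_intCast_iff _ _ _).1 hk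
  · have h1 := LinearMap.finrank_eigenspace_le (Matrix.toLin' Pp) (q : ZMod p)
    rw [Matrix.charpoly_toLin', hPp, Matrix.charpoly_map] at h1
    rw [Module.natCard_eq_pow_finrank (K := ZMod p), Nat.card_zmod]
    calc p ^ Module.finrank (ZMod p) E ≤ p ^ 1 := Nat.pow_le_pow_right (Fact.out : p.Prime).pos (h1.trans hP)
      _ = p := pow_one p

theorem expM_zsmul {A : Type*} [CommGroup A] {l : ℕ} (z : ℤ) (B : Matrix (Fin l) (Fin l) ℤ) (d : Fin l → A)
    (k : Fin l) : expM (z • B) d k = expM B d k ^ z := by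
  simp only [expM_apply, Matrix.smul_apply, smul_eq_mul, ← Finset.prod_zpow, ← _root_.zpow_mul, mul_comm z]

theorem expM_add_sub {A : Type*} [CommGroup A] {l : ℕ} (B B' B'' : Matrix (Fin l) (Fin l) ℤ) (d : Fin l → A) :
    expM (B - B' + B'') d = expM B d * (expM B' d)⁻¹ * expM B'' d := by
  funext k
  simp only [expM_apply, Matrix.add_apply, Matrix.sub_apply, _root_.zpow_add, _root_.zpow_sub,
    Finset.prod_mul_distrib, Finset.prod_inv_distrib, Pi.mul_apply, Pi.inv_apply]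

/-- A torsion element killed by the three roots is trivial at a prime dividing `q³ + 1` only. -/
theorem eq_one_of_chi {K : Type*} [Field K] {q : ℕ} {π : Equiv.Perm (Fin N7)}
    {a b e : Fin N7} (hrows : ∀ u : Fin n7 → ℤ, (2 : ℤ) • (u ᵥ* aeval (Pm Φ π) (cyclotomic 12 ℤ)) =
      Bf (u ᵥ* aeval (Pm Φ π) (cyclotomic 12 ℤ)) (Φ.V a) • Φ.V a +
      Bf (u ᵥ* aeval (Pm Φ π) (cyclotomic 12 ℤ)) (Φ.V b) • Φ.V b +
      Bf (u ᵥ* aeval (Pm Φ π) (cyclotomic 12 ℤ)) (Φ.V e) • Φ.V e)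
    {d : Fin n7 → Kˣ} (hd : expM (Pm Φ π) d = d ^ q) (ha : Φ.toSys.chi d a = 1) (hb : Φ.toSys.chi d b = 1)
    (he : Φ.toSys.chi d e = 1) {p : ℕ} (hp : d ^ p = 1) (hcop : Nat.Coprime (2 * (q ^ 4 - q ^ 2 + 1)) p) :
    d = 1 := by
  set P := Pm Φ π with hP
  have hpw : ∀ i : ℕ, expM (P ^ i) d = d ^ q ^ i := by
    intro i
    induction i with
    | zero => rw [pow_zero, expM_one, pow_zero, pow_one]
    | succ i ih => rw [pow_succ', expM_mul, ih, map_pow, hd, ← pow_mul, ← pow_succ']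
  set M := aeval P (cyclotomic 12 ℤ) with hM
  have hMd : expM M d = d ^ (q ^ 4) * (d ^ (q ^ 2))⁻¹ * d := by
    rw [hM, cyclotomic_twelve, map_add, map_sub, map_pow, map_pow, aeval_X, map_one, expM_add_sub, hpw, hpw,
      expM_one]
  funext k
  rw [Pi.one_apply]
  have hrow := hrows (Pi.single k 1)
  rw [Matrix.single_one_vecMul] at hrow
  have h2 : expM M d k ^ (2 : ℤ) = 1 := by
    rw [← expM_zsmul, expM_apply]
    have e1 : ∀ j, ((2 : ℤ) • M) k j = Bf (M k) (Φ.V a) * Φ.V a j + Bf (M k) (Φ.V b) * Φ.V b j +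
        Bf (M k) (Φ.V e) * Φ.V e j := fun j => congrFun hrow j
    simp only [e1, _root_.zpow_add, Finset.prod_mul_distrib, mul_comm (Bf _ _), _root_.zpow_mul, Finset.prod_zpow]
    rw [show ∏ j, d j ^ Φ.V a j = 1 from ha, show ∏ j, d j ^ Φ.V b j = 1 from hb,
      show ∏ j, d j ^ Φ.V e j = 1 from he]
    simp
  have h3 : d k ^ (2 * (q ^ 4 - q ^ 2 + 1)) = 1 := by
    have h4 : d k ^ (q ^ 4 - q ^ 2 + 1) = expM M d k := by
      rw [hMd, Pi.mul_apply, Pi.mul_apply, Pi.inv_apply, Pi.pow_apply, Pi.pow_apply, pow_succ,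
        pow_sub _ (E6.sq_le_four q)]
    rw [mul_comm, pow_mul, h4]
    exact_mod_cast h2
  have h5 := pow_gcd_eq_one.2 ⟨h3, show d k ^ p = 1 from congrFun hp k⟩
  rwa [hcop, pow_one] at h5

/-- If a root kills the twisted kernel up to fourth powers, the orbit has the wrong pairing. -/
theorem chi_four_ne {K : Type*} [Field K] [Finite K] {π : Equiv.Perm (Fin N7)} (hπ : π ∈ Φ.WL) {q : ℕ}
    (hq : 2 ≤ q) {a : Fin N7} (o1 : rB Φ a (π a) = 0) (o3 : rB Φ a (π (π a)) = 0)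
    (h3 : π (π (π a)) = a.rev) (hdet : (Matrix.scalar (Fin n7) (q : ℤ) - Pm Φ π).det = (tor q : ℤ))
    (hdvd : tor q ∣ Nat.card Kˣ)
    (h4 : ∀ d ∈ (expM (A := Kˣ) (Matrix.scalar (Fin n7) (q : ℤ) - Pm Φ π)).ker, Φ.toSys.chi d a ^ 4 = 1) :
    False := by
  classical
  set T := Matrix.scalar (Fin n7) (q : ℤ) - Pm Φ π with hT
  obtain ⟨γ, hγ⟩ := IsCyclic.exists_generator (α := Kˣ)
  have hoγ : orderOf γ = Nat.card Kˣ := orderOf_eq_card_of_forall_mem_zpowers hγ
  obtain ⟨m, hm⟩ := hdvd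
  have hm0 : m ≠ 0 := fun h => by
    rw [h, mul_zero] at hm
    exact Nat.card_pos.ne' hm
  set ω := γ ^ m with hω
  have hN0 : 0 < tor q := by rw [tor]; positivity
  have hoω : orderOf ω = tor q := by
    rw [hω, orderOf_pow_of_dvd hm0 (by rw [hoγ, hm]; exact dvd_mul_left m _), hoγ, hm,
      Nat.mul_div_cancel _ (Nat.pos_of_ne_zero hm0)]
  have hγz : ∀ (y x : Fin n7 → ℤ), ∏ k, (ω ^ y k) ^ x k = ω ^ (x ⬝ᵥ y) := fun y x => by
    simp only [← _root_.zpow_mul, dotProduct, mul_comm (x _)]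
    induction (Finset.univ : Finset (Fin n7)) using Finset.induction_on with
    | empty => simp
    | insert k s hk ih => rw [Finset.prod_insert hk, Finset.sum_insert hk, _root_.zpow_add, ih]
  have hω1 : ∀ z : ℤ, ω ^ z = 1 ↔ T.det ∣ z := fun z => by
    rw [← orderOf_dvd_iff_zpow_eq_one, hoω, hdet]
  have hk : ∀ k : Fin n7, T.det ∣ 4 * (Φ.V a ᵥ* T.adjugate) k := fun k => by
    set y := T.adjugate *ᵥ Pi.single k 1 with hy
    have hd : (fun i => ω ^ y i) ∈ (expM (A := Kˣ) T).ker := by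
      rw [MonoidHom.mem_ker]
      funext i
      rw [expM_apply, hγz, Pi.one_apply, hω1]
      show T.det ∣ (T *ᵥ y) i
      rw [hy, Matrix.mulVec_mulVec, Matrix.mul_adjugate, Matrix.smul_mulVec, Matrix.one_mulVec, Pi.smul_apply,
        smul_eq_mul]
      exact dvd_mul_right _ _
    have h := h4 _ hd
    rw [Sys.chi, hγz, hy, Matrix.dotProduct_mulVec, dotProduct_single, mul_one, ← zpow_natCast,
      ← _root_.zpow_mul, hω1, mul_comm] at h
    exact_mod_cast h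
  choose u hu using hk
  have hu' : (4 : ℤ) • Φ.V a = u ᵥ* T := by
    have e : (4 : ℤ) • (Φ.V a ᵥ* T.adjugate) = T.det • u := funext fun k => hu k
    have e2 := congrArg (· ᵥ* T) e
    simp only [Matrix.smul_vecMul, Matrix.vecMul_vecMul, Matrix.adjugate_mul, Matrix.vecMul_smul,
      Matrix.vecMul_one, smul_comm (4 : ℤ)] at e2
    exact smul_right_injective _ (by rw [hdet]; exact_mod_cast hN0.ne') e2
  set P := Pm Φ π with hP
  have hTv : u ᵥ* T = (q : ℤ) • u - u ᵥ* P := by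
    rw [hT, Matrix.vecMul_sub, Matrix.scalar_apply, ← Matrix.smul_one_eq_diagonal, Matrix.vecMul_smul,
      Matrix.vecMul_one]
  have heq : ∀ x, 4 * rB Φ a x = q * Bf u (Φ.V x) - Bf (u ᵥ* P) (Φ.V x) := fun x => by
    have := congrArg (fun z => Bf z (Φ.V x)) (hu'.trans hTv)
    simpa only [rB, Bf, sub_dotProduct, smul_dotProduct, smul_eq_mul] using this
  have hshift : ∀ x, Bf (u ᵥ* P) (Φ.V (π x)) = Bf u (Φ.V x) := fun x => by
    rw [V_vecMul Φ hπ]; exact Bf_map Φ hπ _ _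
  have q0 := heq a
  have q1 := heq (π a)
  have q2 := heq (π (π a))
  rw [hshift] at q1 q2
  rw [o1] at q1
  rw [o3] at q2
  have hlast : Bf (u ᵥ* P) (Φ.V a) = -Bf u (Φ.V (π (π a))) := by
    rw [← hshift (π (π a)), h3, show Φ.V a.rev = -Φ.V a from funext fun j => Φ.V_neg a j]
    simp [Bf, Matrix.mulVec_neg]
  rw [hlast, rB_self] at q0
  set b0 := Bf u (Φ.V a)
  set b1 := Bf u (Φ.V (π a))
  set b2 := Bf u (Φ.V (π (π a)))
  have hb : (8 : ℤ) = ((q : ℤ) ^ 3 + 1) * b2 := by linear_combination q0 + (q : ℤ) * q1 + (q : ℤ) ^ 2 * q2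
  have h9 : (9 : ℤ) ≤ (q : ℤ) ^ 3 + 1 := by
    have : (8 : ℤ) ≤ (q : ℤ) ^ 3 := by
      exact_mod_cast (show 2 ^ 3 ≤ q ^ 3 from Nat.pow_le_pow_left hq 3)
    omega
  have := Int.le_of_dvd (by norm_num) (⟨b2, hb⟩ : ((q : ℤ) ^ 3 + 1) ∣ 8)
  omega

include Φ in
/-- The conclusion from an adapted frame. -/
theorem exists_of_frame {F K : Type*} [Field F] [Field K] [Finite F] [Finite K] (f : F →+* K) (σ : K ≃+* K)
    (hσq : ∀ x, σ x = x ^ Nat.card F) {ℓ : ℕ} [Fact ℓ.Prime] (hℓ : 12 < ℓ) (hW : ¬ ℓ ∣ Nat.card Φ.WL)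
    (hprimq : IsPrimitiveRoot (Nat.card F : ZMod ℓ) 12) (hdvdK : tor (Nat.card F) ∣ Nat.card Kˣ)
    (hgcd : Nat.gcd (Nat.card Kˣ) 2 = Nat.gcd 2 (Nat.card F - 1))
    {X₀ : GL Cfsg.Lie.chevE7.Idx F} (hX₀ : X₀ ∈ Cfsg.Lie.chevE7.group F)
    {g : GL Cfsg.Lie.chevE7.Idx K} (hg : g ∈ Cfsg.Lie.chevE7.group K) {c : Fin n7 → Kˣ}
    (hgc : Matrix.GeneralLinearGroup.map f X₀ = g * Φ.toAlg.torus c * g⁻¹)
    (hcl : c ^ ℓ = 1) (hc1 : c ≠ 1) (hcH : Φ.toAlg.torus c ∈ Cfsg.Lie.chevE7.diagonalSubgroup K)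
    (haN : g⁻¹ * Matrix.GeneralLinearGroup.map σ.toRingHom g ∈ Cfsg.Lie.chevE7.monomialSubgroup K)
    {π : Equiv.Perm (Fin N7)} (haM : Φ.Mono (g⁻¹ * Matrix.GeneralLinearGroup.map σ.toRingHom g) π)
    {r0 : Fin N7} (hr0 : Φ.toSys.chi c r0 = 1) (hr3 : π (π (π r0)) = r0.rev) :
    ∃ C : Subgroup ↥(Cfsg.Lie.chevE7.group F), IsCyclic C ∧
      Nat.card C = tor (Nat.card F) / Nat.gcd 2 (Nat.card F - 1) ∧
      Subgroup.centralizer (C : Set ↥(Cfsg.Lie.chevE7.group F)) = C := by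
  classical
  set q := Nat.card F with hq
  have hq2 : 2 ≤ q := Finite.one_lt_card
  have hσ : ∀ x, σ x = x ↔ x ∈ Set.range f := fun x => by rw [hσq]; exact mem_range_iff_pow_card f x
  have hσf : σ.toRingHom.comp f = f := RingHom.ext fun a => (hσ (f a)).2 ⟨a, rfl⟩
  set a := g⁻¹ * Matrix.GeneralLinearGroup.map σ.toRingHom g with had
  have hπ : π ∈ Φ.WL := Φ.mem_W_of_mono haN haM
  have hfix : ∀ y : GL Cfsg.Lie.chevE7.Idx F,
      Matrix.GeneralLinearGroup.map σ.toRingHom (Matrix.GeneralLinearGroup.map f y) =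
        Matrix.GeneralLinearGroup.map f y := fun y => by
    conv_rhs => rw [← hσf, Matrix.GeneralLinearGroup.map_comp]
    rfl
  have hmapT : ∀ d : Fin n7 → Kˣ, Matrix.GeneralLinearGroup.map σ.toRingHom (Φ.toAlg.torus d) =
      Φ.toAlg.torus (d ^ q) := fun d => by
    rw [map_torus]
    congr 1
    funext i
    exact Units.ext (by simpa using hσq (d i))
  have hconjfix : ∀ d : Fin n7 → Kˣ,
      Matrix.GeneralLinearGroup.map σ.toRingHom (g * Φ.toAlg.torus d * g⁻¹) = g * Φ.toAlg.torus d * g⁻¹ ↔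
        a * Φ.toAlg.torus (d ^ q) * a⁻¹ = Φ.toAlg.torus d := fun d => by
    rw [map_mul, map_mul, map_inv, hmapT,
      show Matrix.GeneralLinearGroup.map σ.toRingHom g = g * a by rw [had]; group]
    constructor
    · intro h
      calc a * Φ.toAlg.torus (d ^ q) * a⁻¹ = g⁻¹ * (g * a * Φ.toAlg.torus (d ^ q) * (g * a)⁻¹) * g := by
            group
        _ = _ := by rw [h]; group
    · intro h
      calc g * a * Φ.toAlg.torus (d ^ q) * (g * a)⁻¹ = g * (a * Φ.toAlg.torus (d ^ q) * a⁻¹) * g⁻¹ := by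
            group
        _ = _ := by rw [h]
  have hpowH : ∀ (d : Fin n7 → Kˣ) (k : ℕ), Φ.toAlg.torus d ∈ Cfsg.Lie.chevE7.diagonalSubgroup K →
      Φ.toAlg.torus (d ^ k) ∈ Cfsg.Lie.chevE7.diagonalSubgroup K := fun d k h => by
    rw [map_pow]; exact pow_mem h k
  set P : Matrix (Fin n7) (Fin n7) ℤ := Pm Φ π with hPdef
  set T := Matrix.scalar (Fin n7) (q : ℤ) - P with hTdef
  set J := (expM (A := Kˣ) T).ker with hJ
  have hJchi : ∀ d ∈ J, ∀ r, Φ.toSys.chi d (π r) = Φ.toSys.chi d r ^ q := by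
    intro d h r
    rw [chi_map Φ hπ]
    simp only [Sys.chi, ← Finset.prod_pow]
    refine Finset.prod_congr rfl fun k _ => ?_
    have hk := congrFun (MonoidHom.mem_ker.1 h) k
    rw [hTdef, expM_scalar_sub, Pi.one_apply, mul_inv_eq_one] at hk
    rw [← zpow_natCast, ← _root_.zpow_mul, mul_comm, _root_.zpow_mul, zpow_natCast, hk]
    rfl
  have hJexp : ∀ d ∈ J, expM P d = d ^ q := fun d h => funext fun k => by
    have hk := congrFun (MonoidHom.mem_ker.1 h) k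
    rw [hTdef, expM_scalar_sub, Pi.one_apply, mul_inv_eq_one] at hk
    rw [Pi.pow_apply, hk, expM_apply]
  have hfixJ : ∀ d : Fin n7 → Kˣ, Φ.toAlg.torus d ∈ Cfsg.Lie.chevE7.diagonalSubgroup K →
      Matrix.GeneralLinearGroup.map σ.toRingHom (g * Φ.toAlg.torus d * g⁻¹) = g * Φ.toAlg.torus d * g⁻¹ →
        d ∈ J := fun d hdH h => by
    rw [hconjfix, conj_torus_iff_of_mem Φ haN haM _ _ (hpowH d q hdH)] at h
    rw [hJ, MonoidHom.mem_ker]
    funext k
    rw [hTdef, expM_scalar_sub, Pi.one_apply, mul_inv_eq_one]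
    have hk := h (Φ.p k)
    rw [Φ.toSys.chi_simple] at hk
    exact hk.symm
  -- the functional
  have hcJ : c ∈ J := hfixJ c hcH (by rw [← hgc]; exact hfix X₀)
  obtain ⟨v, hv0, hchi_iff⟩ := exists_lam Φ hcl hc1
  have hchi1 := chi_eq_one_iff Φ hchi_iff
  have hlamπ : ∀ r, lam Φ v (π r) = (q : ZMod ℓ) * lam Φ v r := fun r => (hchi_iff _ _ q).1 (hJchi c hcJ r)
  obtain ⟨a0, hzero, o1, o3, h3or, hrows, y, hy, hy12⟩ := zero_roots Φ hℓ hπ hv0 hprimq hlamπ
  have h3 : π (π (π a0)) = a0.rev := rev_of_six Φ hπ ((hzero r0).1 ((hchi1 r0).1 hr0)) hr3 h3or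
  have o2 : rB Φ (π a0) (π (π a0)) = 0 := (rB_map Φ hπ a0 (π a0)).trans o1
  have hcp : P.charpoly = cyclotomic 12 ℤ * cyclotomic 6 ℤ * cyclotomic 2 ℤ :=
    charpoly_twist Φ hπ o1 o3 h3 hy hy12
  have hTdet : T.det = (tor q : ℤ) := by rw [hTdef, ← Matrix.eval_charpoly, hcp, tor_cast]
  have hN0 : 0 < tor q := by rw [tor]; positivity
  have hdet0 : T.det ≠ 0 := by rw [hTdet]; exact_mod_cast hN0.ne'
  have hdetN : T.det.natAbs = tor q := by rw [hTdet, Int.natAbs_natCast]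
  have hcardJ : Nat.card J = tor q := (card_ker_expM_det (A := Kˣ) T hdet0 (hdetN ▸ hdvdK)).trans hdetN
  haveI : IsCyclic J := isCyclic_of_prime_card_le fun p hp => by
    haveI : Fact p.Prime := ⟨hp⟩
    set S := (powMonoidHom p : J →* _).ker with hS
    have hSp : IsPGroup p S := fun x => ⟨1, Subtype.ext ((congrArg (fun m => x.1 ^ m) (pow_one p)).trans x.2)⟩
    obtain ⟨k, hk⟩ := IsPGroup.iff_card.1 hSp
    have hkN : p ^ k ∣ tor q := hk ▸ hcardJ ▸ Subgroup.card_subgroup_dvd_card S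
    by_cases hk1 : k ≤ 1
    · rw [hk]
      exact (Nat.pow_le_pow_right hp.pos hk1).trans (le_of_eq (pow_one p))
    have hp1 : p ∣ tor q := (dvd_pow_self p (show k ≠ 0 by omega)).trans hkN
    have hpK : p ∣ Nat.card Kˣ := hp1.trans hdvdK
    obtain ⟨m3, m2⟩ := E6.twelve_mod q
    by_cases h12 : p ∣ q ^ 4 - q ^ 2 + 1
    · refine card_torsion_le_of_separable P ?_ (q : ℤ) hpK
      rw [hcp]
      refine Polynomial.Separable.of_dvd ?_ (Polynomial.map_dvd _ dvd_X_pow_sub_one)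
      rw [Polynomial.map_sub, Polynomial.map_pow, Polynomial.map_X, Polynomial.map_one,
        Polynomial.X_pow_sub_one_separable_iff]
      intro h12'
      have h' : p ∣ 2 ^ 2 * 3 := (ZMod.natCast_eq_zero_iff _ _).1 h12'
      rcases (Nat.Prime.dvd_mul hp).1 h' with h | h
      · have := (Nat.prime_dvd_prime_iff_eq hp Nat.prime_two).1 (hp.dvd_of_dvd_pow h)
        subst this; omega
      · have := (Nat.prime_dvd_prime_iff_eq hp Nat.prime_three).1 h
        subst this; omega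
    by_cases hp2 : p = 2
    · subst hp2
      refine card_torsion_le_of_simple P (q : ℤ) ?_ hpK
      have hodd : q % 2 = 1 := by
        rcases (Nat.Prime.dvd_mul Nat.prime_two).1 (show 2 ∣ (q ^ 4 - q ^ 2 + 1) * (q ^ 3 + 1) from hp1) with h | h
        · exact absurd h h12
        · by_contra hne
          have : 2 ∣ q ^ 3 := dvd_pow (by omega) (by norm_num)
          omega
      have hq1 : ((q : ℤ) : ZMod 2) = 1 := by
        rw [Int.cast_natCast, ← ZMod.natCast_mod, hodd, Nat.cast_one]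
      rw [hcp, hq1]
      exact rootMultiplicity_two
    · have hcop : Nat.Coprime (2 * (q ^ 4 - q ^ 2 + 1)) p := by
        refine ((hp.coprime_iff_not_dvd).2 fun h => ?_).symm
        rcases (Nat.Prime.dvd_mul hp).1 h with h | h
        · exact hp2 ((Nat.prime_dvd_prime_iff_eq hp Nat.prime_two).1 h)
        · exact h12 h
      let χ : S →* (powMonoidHom p : Kˣ →* Kˣ).ker :=
        { toFun := fun d => ⟨Φ.toSys.chi d.1.1 a0, MonoidHom.mem_ker.2 (by
            have h := congrArg (fun x : J => (x : Fin n7 → Kˣ)) (MonoidHom.mem_ker.1 d.2)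
            have h' : (d.1.1) ^ p = 1 := by simpa using h
            rw [powMonoidHom_apply, ← chi_pow Φ, h']
            simp [Sys.chi])⟩
          map_one' := Subtype.ext (by simp [Sys.chi])
          map_mul' := fun d d' => Subtype.ext (by
            simp [Sys.chi, _root_.mul_zpow, Finset.prod_mul_distrib]) }
      have hinj : Function.Injective χ := (injective_iff_map_eq_one χ).2 fun d hd => by
        have ha : Φ.toSys.chi d.1.1 a0 = 1 := congrArg Subtype.val hd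
        have hb : Φ.toSys.chi d.1.1 (π a0) = 1 := by rw [hJchi _ d.1.2, ha, one_pow]
        have he : Φ.toSys.chi d.1.1 (π (π a0)) = 1 := by rw [hJchi _ d.1.2, hb, one_pow]
        have h := congrArg (fun x : J => (x : Fin n7 → Kˣ)) (MonoidHom.mem_ker.1 d.2)
        exact Subtype.ext (Subtype.ext (eq_one_of_chi Φ hrows (hJexp _ d.1.2) ha hb he (by simpa using h) hcop))
      refine (Nat.card_le_card_of_injective χ hinj).trans ?_
      rw [IsCyclic.card_powMonoidHom_ker]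
      exact Nat.le_of_dvd hp.pos (Nat.gcd_dvd_right _ _)
  -- the subgroup
  obtain ⟨C', hC'card, hC'mem⟩ := image_spec Φ f σ hσq hσ (hgcd ▸ Nat.gcd_dvd_right _ _) (by omega) hπ hdet0
    (hdetN ▸ hdvdK) hg haN haM
  rw [hdetN, hgcd] at hC'card
  have hC'J : C' ≤ J := fun d hd => by
    obtain ⟨hdH, w, -, hwd⟩ := (hC'mem d).1 hd
    exact hfixJ d hdH (by rw [← hwd]; exact hfix w)
  haveI : IsCyclic C' := isCyclic_of_injective (Subgroup.inclusion hC'J) (Subgroup.inclusion_injective hC'J)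
  obtain ⟨⟨e, heC⟩, he⟩ := IsCyclic.exists_generator (α := C')
  have hgen : ∀ d ∈ C', ∃ k : ℤ, e ^ k = d := fun d hd => by
    obtain ⟨k, hk⟩ := Subgroup.mem_zpowers_iff.1 (he ⟨d, hd⟩)
    exact ⟨k, congrArg Subtype.val hk⟩
  have hchiz : ∀ (k : ℤ) r, Φ.toSys.chi (e ^ k) r = Φ.toSys.chi e r ^ k := fun k r => by
    simp only [Sys.chi, Pi.pow_apply, ← Finset.prod_zpow, ← _root_.zpow_mul, mul_comm k]
  have hcC : c ∈ C' := (hC'mem c).2 ⟨hcH, X₀, hX₀, hgc⟩
  obtain ⟨kc, hkc⟩ := hgen c hcC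
  have hsix : ∀ r, Φ.toSys.chi e r = 1 → Six a0 (π a0) (π (π a0)) r := fun r h =>
    (hzero r).1 ((hchi1 r).1 (by rw [← hkc, hchiz, h, _root_.one_zpow]))
  have hsq0 : Φ.toSys.chi e a0 ^ 2 ≠ 1 := fun h2 => by
    refine chi_four_ne Φ hπ hq2 o1 o3 h3 hTdet hdvdK fun d hd => ?_
    set Ci := C'.subgroupOf J with hCi
    have hidx : Ci.index = Nat.gcd 2 (q - 1) := by
      have h1 := Ci.card_mul_index
      rw [Nat.card_congr (Subgroup.subgroupOfEquivOfLe hC'J).toEquiv, hcardJ, ← hC'card] at h1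
      exact mul_left_cancel₀ Nat.card_pos.ne' h1
    have hmem := Ci.pow_index_mem (⟨d, hd⟩ : J)
    rw [hidx, Subgroup.mem_subgroupOf] at hmem
    obtain ⟨k, hk⟩ := hgen _ hmem
    obtain ⟨m, hm⟩ : Nat.gcd 2 (q - 1) ∣ 2 := Nat.gcd_dvd_left _ _
    have h1 : Φ.toSys.chi d a0 ^ Nat.gcd 2 (q - 1) = Φ.toSys.chi e a0 ^ k := by
      rw [← hchiz, hk, ← chi_pow Φ]
      rfl
    calc Φ.toSys.chi d a0 ^ 4 = ((Φ.toSys.chi d a0 ^ Nat.gcd 2 (q - 1)) ^ m) ^ 2 := by
          rw [← pow_mul, ← pow_mul]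
          congr 1
          rw [← mul_assoc, ← hm]; norm_num
      _ = (Φ.toSys.chi e a0 ^ 2) ^ (k * m) := by
          rw [h1, ← zpow_natCast, ← zpow_natCast, ← _root_.zpow_mul, ← _root_.zpow_mul, ← zpow_natCast (Φ.toSys.chi e a0) 2,
            ← _root_.zpow_mul]
          congr 1
          ring
      _ = 1 := by rw [h2, _root_.one_zpow]
  have heJ : e ∈ J := hC'J heC
  have hsq : ∀ x ∈ ({a0, π a0, π (π a0)} : Finset (Fin N7)), Φ.toSys.chi e x ^ 2 ≠ 1 := by
    have h2 : Φ.toSys.chi e (π (π a0)) ^ 2 ≠ 1 := fun h => hsq0 (by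
      have := hJchi e heJ (π (π a0))
      rw [h3, Φ.toSys.chi_neg] at this
      rw [← inv_eq_one, ← inv_pow, this, ← pow_mul, mul_comm, pow_mul, h, one_pow])
    have h1 : Φ.toSys.chi e (π a0) ^ 2 ≠ 1 := fun h => h2 (by
      rw [hJchi e heJ, ← pow_mul, mul_comm, pow_mul, h, one_pow])
    intro x hx
    simp only [Finset.mem_insert, Finset.mem_singleton] at hx
    rcases hx with rfl | rfl | rfl
    exacts [hsq0, h1, h2]
  have hreg : ∀ r, Φ.toSys.chi e r ≠ 1 := fun r h => by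
    have key : ∀ x ∈ ({a0, π a0, π (π a0)} : Finset (Fin N7)), r ≠ x ∧ r ≠ x.rev := fun x hx => by
      refine ⟨fun h' => hsq x hx ?_, fun h' => hsq x hx ?_⟩ <;> rw [h'] at h
      · rw [h, one_pow]
      · rw [Φ.toSys.chi_neg, inv_eq_one] at h
        rw [h, one_pow]
    have ka := key a0 (by simp)
    have kb := key (π a0) (by simp)
    have kd := key (π (π a0)) (by simp)
    rcases hsix r h with h' | h' | h' | h' | h' | h'
    exacts [ka.1 h', ka.2 h', kb.1 h', kb.2 h', kd.1 h', kd.2 h']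
  have hstab : ∀ ρ ∈ Φ.WL, (∀ r, Φ.toSys.chi e (ρ r) = Φ.toSys.chi e r) → ρ = 1 := fun ρ hρ hfx => by
    obtain ⟨hflip, hone⟩ := stab_three Φ hW (v := v) hzero o1 o2 o3 hρ fun r => by
      have h := (hchi_iff (ρ r) r 1).1 (by rw [pow_one, ← hkc, hchiz, hchiz, hfx])
      simpa using h
    have hfix' : ∀ x ∈ ({a0, π a0, π (π a0)} : Finset (Fin N7)), ρ x = x := fun x hx => by
      refine (hflip x hx).resolve_right fun h => hsq x hx ?_
      have h' := hfx x
      rw [h, Φ.toSys.chi_neg] at h'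
      rw [pow_two]
      conv_lhs => arg 1; rw [← h']
      rw [inv_mul_cancel]
    exact hone (hfix' _ (by simp)) (hfix' _ (by simp)) (hfix' _ (by simp))
  let ι : ↥(Cfsg.Lie.chevE7.group F) →* GL Cfsg.Lie.chevE7.Idx K :=
    (Matrix.GeneralLinearGroup.map f).comp (Cfsg.Lie.chevE7.group F).subtype
  have hιinj : Function.Injective ι := fun a b h =>
    Subtype.ext (Units.ext (Matrix.map_injective f.injective (congrArg Units.val h :)))
  let ψ : (Fin n7 → Kˣ) →* GL Cfsg.Lie.chevE7.Idx K := (MulAut.conj g).toMonoidHom.comp Φ.toAlg.torus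
  have hψ : ∀ d, ψ d = g * Φ.toAlg.torus d * g⁻¹ := fun d => rfl
  have hψinj : Function.Injective ψ := (MulAut.conj g).injective.comp Φ.torus_injective
  set C : Subgroup ↥(Cfsg.Lie.chevE7.group F) := (C'.map ψ).comap ι with hC
  have hCmap : C'.map ψ = C.map ι := by
    refine (Subgroup.map_comap_eq_self ?_).symm
    rintro _ ⟨d, hd, rfl⟩
    obtain ⟨-, w, hw, hwd⟩ := (hC'mem d).1 hd
    exact ⟨⟨w, hw⟩, hwd⟩
  let eC : C ≃* C' :=
    ((C.equivMapOfInjective ι hιinj).trans (MulEquiv.subgroupCongr hCmap.symm)).trans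
      (C'.equivMapOfInjective ψ hψinj).symm
  refine ⟨C, isCyclic_of_surjective eC.symm eC.symm.surjective, (Nat.card_congr eC.toEquiv).trans ?_,
    le_antisymm ?_ ?_⟩
  · rw [← hC'card, Nat.mul_div_cancel _ (Nat.gcd_pos_of_pos_left _ (by norm_num))]
  · intro z hz
    obtain ⟨heH, w, hw, hwe⟩ := (hC'mem e).1 heC
    have hYC : (⟨w, hw⟩ : ↥(Cfsg.Lie.chevE7.group F)) ∈ C := ⟨e, heC, hwe.symm⟩
    have h := congrArg ι (Subgroup.mem_centralizer_iff.1 hz _ hYC)
    rw [map_mul, map_mul, show ι ⟨w, hw⟩ = g * Φ.toAlg.torus e * g⁻¹ from hwe] at h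
    have hcomm : Commute (Φ.toAlg.torus e) (g⁻¹ * ι z * g) := by
      show Φ.toAlg.torus e * (g⁻¹ * ι z * g) = g⁻¹ * ι z * g * Φ.toAlg.torus e
      calc Φ.toAlg.torus e * (g⁻¹ * ι z * g)
          = g⁻¹ * (g * Φ.toAlg.torus e * g⁻¹ * ι z) * g := by group
        _ = _ := by rw [h]; group
    have hzH := mem_H_of_regular_mem Φ heH hreg hstab
      (mul_mem (mul_mem (inv_mem hg) (Φ.map_mem_group f z.2)) hg) hcomm
    obtain ⟨d, hd⟩ := Φ.exists_torus_of_mem_H hzH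
    have hzd : ι z = g * Φ.toAlg.torus d * g⁻¹ := by rw [← hd]; group; rfl
    exact ⟨d, (hC'mem d).2 ⟨hd ▸ hzH, z.1, z.2, hzd⟩, hzd.symm⟩
  · intro y hy z hz
    have := congrArg Subtype.val (eC.symm.injective.eq_iff.2 (mul_comm (eC ⟨z, hz⟩) (eC ⟨y, hy⟩)))
    simpa [← map_mul] using this

include Φ in
/-- The cyclic self-centralizing torus of type E7. -/
theorem exists_cyclic {F : Type*} [Field F] [Finite F] :
    ∃ C : Subgroup ↥(Cfsg.Lie.chevE7.group F), IsCyclic C ∧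
      Nat.card C = tor (Nat.card F) / Nat.gcd 2 (Nat.card F - 1) ∧
      Subgroup.centralizer (C : Set ↥(Cfsg.Lie.chevE7.group F)) = C := by
  classical
  haveI : NeZero (12 : ℕ) := ⟨by norm_num⟩
  obtain ⟨p0, hp0⟩ := CharP.exists F
  haveI : Fact p0.Prime := ⟨CharP.char_is_prime F p0⟩
  let K := FiniteField.Extension F p0 12
  let f : F →+* K := algebraMap F K
  let σ : K ≃+* K := (FiniteField.Extension.frob F p0 12).toRingEquiv
  have hQK : Nat.card K = Nat.card F ^ 12 := FiniteField.natCard_extension F p0 12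
  set q := Nat.card F with hq
  have hq2 : 2 ≤ q := Finite.one_lt_card
  have hσq : ∀ x, σ x = x ^ q := fun x => FiniteField.Extension.frob_apply F p0 12
  have hσ : ∀ x, σ x = x ↔ x ∈ Set.range f := fun x => by
    rw [hσq]; exact mem_range_iff_pow_card f x
  have hσf : σ.toRingHom.comp f = f := RingHom.ext fun a => (hσ (f a)).2 ⟨a, rfl⟩
  haveI : CharP K p0 := charP_of_injective_ringHom f.injective p0
  haveI : ExpChar K p0 := ExpChar.prime Fact.out
  obtain ⟨n0, hn0⟩ : ∃ n0, p0 ^ n0 = q := by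
    letI := Fintype.ofFinite F
    obtain ⟨n0, -, h⟩ := FiniteField.card F p0
    exact ⟨n0, by rw [hq, Nat.card_eq_fintype_card, h]⟩
  -- the prime
  have he1 : (cyclotomic 12 ℤ).eval (q : ℤ) = ((q ^ 4 - q ^ 2 + 1 : ℕ) : ℤ) := by
    rw [E6.eval_twelve]; push_cast [Nat.cast_sub (E6.sq_le_four q)]; ring
  obtain ⟨ℓ, hℓp, hℓd⟩ := Nat.exists_prime_and_dvd (show q ^ 4 - q ^ 2 + 1 ≠ 1 by
    have h4 : 2 * q ^ 2 ≤ q ^ 4 :=
      le_of_le_of_eq (Nat.mul_le_mul_right (q ^ 2) (show 2 ≤ q ^ 2 by nlinarith)) (by ring)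
    have : 0 < q ^ 2 := by positivity
    omega)
  haveI : Fact ℓ.Prime := ⟨hℓp⟩
  have hℓN : (ℓ : ℤ) ∣ (cyclotomic 12 ℤ).eval (q : ℤ) := he1 ▸ Int.natCast_dvd_natCast.2 hℓd
  have hl12 : ¬ ℓ ∣ 12 := by
    intro h
    obtain ⟨m3, m2⟩ := E6.twelve_mod q
    rcases (Nat.Prime.dvd_mul hℓp).1 (show ℓ ∣ 2 ^ 2 * 3 from h) with h2 | h2
    · have := (Nat.prime_dvd_prime_iff_eq hℓp Nat.prime_two).1 (hℓp.dvd_of_dvd_pow h2)
      subst this; omega
    · have := (Nat.prime_dvd_prime_iff_eq hℓp Nat.prime_three).1 h2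
      subst this; omega
  have hℓ : 12 < ℓ := lt_of_dvd_eval (by norm_num) hl12 hℓN
  have hW : ¬ ℓ ∣ Nat.card Φ.WL := by
    rw [cardWE7 Φ]
    intro h
    rcases (Nat.Prime.dvd_mul hℓp).1 (show ℓ ∣ 2 ^ 10 * (3 ^ 4 * (5 * 7)) by simpa using h) with h6 | h6
    · have := Nat.le_of_dvd (by norm_num) (hℓp.dvd_of_dvd_pow h6); omega
    · rcases (Nat.Prime.dvd_mul hℓp).1 h6 with h7 | h7
      · have := Nat.le_of_dvd (by norm_num) (hℓp.dvd_of_dvd_pow h7); omega
      · have := Nat.le_of_dvd (by norm_num) h7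
        rcases (Nat.Prime.dvd_mul hℓp).1 h7 with h8 | h8 <;>
        · have := Nat.le_of_dvd (by norm_num) h8; omega
  have hprimq : IsPrimitiveRoot (q : ZMod ℓ) 12 := by
    haveI : NeZero ((12 : ℕ) : ZMod ℓ) := ⟨fun h => hl12 ((ZMod.natCast_eq_zero_iff _ _).1 h)⟩
    have h1 := Polynomial.eval_intCast_map (Int.castRingHom (ZMod ℓ)) (cyclotomic 12 ℤ) (q : ℤ)
    rw [Polynomial.map_cyclotomic] at h1
    refine Polynomial.isRoot_cyclotomic_iff.1 ?_
    rw [Polynomial.IsRoot.def]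
    simpa [(ZMod.intCast_zmod_eq_zero_iff_dvd _ ℓ).2 hℓN] using h1
  have hQ1 : (Nat.card K : ZMod ℓ) = 1 := by
    rw [hQK, Nat.cast_pow]
    exact hprimq.pow_eq_one
  have hℓG : ℓ ∣ Nat.card (Cfsg.Lie.chevE7.group F) := dvd_card_group Φ hℓp hℓ hℓN
  obtain ⟨X₀, hX⟩ := exists_prime_orderOf_dvd_card' ℓ hℓG
  have hinjf : Function.Injective (Matrix.GeneralLinearGroup.map (n := Cfsg.Lie.chevE7.Idx) f) := fun a b h =>
    Units.ext (Matrix.map_injective f.injective (congrArg Units.val h :))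
  have hxG : Matrix.GeneralLinearGroup.map f X₀.1 ∈ Cfsg.Lie.chevE7.group K := Φ.map_mem_group f X₀.2
  have hxl : Matrix.GeneralLinearGroup.map f X₀.1 ^ ℓ = 1 := by
    rw [← map_pow, ← Subgroup.coe_pow, ← hX, pow_orderOf_eq_one, Subgroup.coe_one, map_one]
  obtain ⟨g, hg, c, hgc⟩ := exists_conj_torus Φ hQ1 hW hxG hxl
  have hcl : c ^ ℓ = 1 := by
    refine Φ.torus_injective ?_
    rw [map_pow, map_one,
      show Φ.toAlg.torus c = g⁻¹ * Matrix.GeneralLinearGroup.map f X₀.1 * g⁻¹⁻¹ by rw [hgc]; group, conj_pow, hxl]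
    group
  have hc1 : c ≠ 1 := fun h => by
    have h1 : X₀ = 1 := Subtype.ext (hinjf (by
      rw [hgc, h, map_one, mul_one, mul_inv_cancel, Subgroup.coe_one, map_one]))
    rw [h1, orderOf_one] at hX
    exact (Fact.out : ℓ.Prime).one_lt.ne hX
  have hcH : Φ.toAlg.torus c ∈ Cfsg.Lie.chevE7.diagonalSubgroup K := mem_H_of_coprime Φ (card_H_gcd Φ K) (by
    refine Nat.Coprime.coprime_dvd_left (Nat.gcd_dvd_right _ _) ((Nat.prime_two.coprime_iff_not_dvd).2 fun h => ?_)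
    have := (Nat.prime_dvd_prime_iff_eq Nat.prime_two hℓp).1 h
    omega) hcl
  have hcqH : Φ.toAlg.torus (c ^ q) ∈ Cfsg.Lie.chevE7.diagonalSubgroup K := by
    rw [map_pow]; exact pow_mem hcH q
  -- the twisting element
  set a := g⁻¹ * Matrix.GeneralLinearGroup.map σ.toRingHom g with had
  have haG : a ∈ Cfsg.Lie.chevE7.group K := mul_mem (inv_mem hg) (Φ.map_mem_group _ hg)
  have hac : Φ.toAlg.torus c * a = a * Φ.toAlg.torus (c ^ q) := by
    have h1 : Matrix.GeneralLinearGroup.map σ.toRingHom (Matrix.GeneralLinearGroup.map f X₀.1) =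
        Matrix.GeneralLinearGroup.map f X₀.1 := by
      conv_rhs => rw [← hσf, Matrix.GeneralLinearGroup.map_comp]
      rfl
    have hmapT : Matrix.GeneralLinearGroup.map σ.toRingHom (Φ.toAlg.torus c) = Φ.toAlg.torus (c ^ q) := by
      rw [map_torus]
      congr 1
      funext i
      exact Units.ext (by simpa using hσq (c i))
    rw [hgc, map_mul, map_mul, map_inv, hmapT] at h1
    calc Φ.toAlg.torus c * a
        = g⁻¹ * (g * Φ.toAlg.torus c * g⁻¹) * Matrix.GeneralLinearGroup.map σ.toRingHom g := by rw [had]; group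
      _ = _ := by rw [← h1, had]; group
  obtain ⟨w, hw, π, hπ, hm, hπc, hcomm⟩ := twist_parts_of_mem Φ hcH hcqH haG hac
  obtain ⟨v, hv0, hchi_iff⟩ := exists_lam Φ hcl hc1
  have hchi1 := chi_eq_one_iff Φ hchi_iff
  have hlamπ : ∀ r, lam Φ v (π r) = (q : ZMod ℓ) * lam Φ v r := fun r =>
    (hchi_iff _ _ q).1 ((hπc r).trans (chi_pow Φ c q r))
  obtain ⟨r, hzero, o1, o3, h3or, -, -⟩ := zero_roots Φ hℓ hπ hv0 hprimq hlamπ
  have o2 : rB Φ (π r) (π (π r)) = 0 := (rB_map Φ hπ r (π r)).trans o1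
  have hcr : Φ.toSys.chi c r = 1 := (hchi1 r).2 ((hzero r).2 (Or.inl rfl))
  -- make the cube fix `r`
  obtain ⟨w1, hw1, π1, hm1, e1, e2, h31, hcomm1⟩ : ∃ w1 ∈ Cfsg.Lie.chevE7.monomialSubgroup K,
      ∃ π1 : Equiv.Perm (Fin N7), Φ.Mono w1 π1 ∧ π1 r = π r ∧ π1 (π1 r) = π (π r) ∧ π1 (π1 (π1 r)) = r ∧
        Commute (Φ.toAlg.torus c) (a * w1⁻¹) := by
    rcases h3or with h | h
    · exact ⟨w, hw, π, hm, rfl, rfl, h, hcomm⟩
    · refine ⟨Φ.nw r 1 * w, mul_mem (Φ.nw_mem_N _ _) hw, rootRefl Φ r * π,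
        Chev.Mono.mul Φ (mono_nw_root Φ r 1) hm, ?_, ?_, ?_, ?_⟩
      · rw [Equiv.Perm.mul_apply, rootRefl_fix Φ o1]
      · rw [Equiv.Perm.mul_apply, Equiv.Perm.mul_apply, rootRefl_fix Φ o1, rootRefl_fix Φ o3]
      · rw [Equiv.Perm.mul_apply, Equiv.Perm.mul_apply, Equiv.Perm.mul_apply, rootRefl_fix Φ o1,
          rootRefl_fix Φ o3, h, rootRefl_rev]
      · rw [_root_.mul_inv_rev, ← mul_assoc]
        exact hcomm.mul_right (commute_torus_rootSL Φ hcr (nw_mem_rootSL Φ r 1)).inv_right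
  obtain ⟨y0, hy0, y1, hy1, y2, hy2, h, hh, hay⟩ := centralizer_parts Φ hcH (a := r) (b := π r) (d := π (π r))
    (fun x => (hchi1 x).trans (hzero x)) o1 o2 o3 (fun ρ hρ hfx => stab_three Φ hW hzero o1 o2 o3 hρ fun x => by
      have := (hchi_iff (ρ x) x 1).1 (by rw [pow_one]; exact hfx x)
      simpa using this) (mul_mem haG (inv_mem (Φ.N_le_group hw1))) hcomm1
  obtain ⟨K2, _, _, j, σ2, hσ2, k, hk, hkc, hkN, hkM⟩ := lang_step Φ hn0
    (by
      rw [← hn0, Nat.cast_pow, CharP.cast_eq_zero, zero_pow]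
      rintro rfl
      rw [pow_zero] at hn0; omega) hq2 σ hσq hw1 hm1 (r := r)
    (by rw [e1]; exact o1) (by rw [e2, e1]; exact o2) (by rw [e2]; exact o3) h31 hy0
    (by rw [e1]; exact hy1) (by rw [e2]; exact hy2) hh hay
  let mj := Matrix.GeneralLinearGroup.map (n := Cfsg.Lie.chevE7.Idx) j
  have hcompat : ∀ x, Matrix.GeneralLinearGroup.map σ2.toRingHom (mj x) =
      mj (Matrix.GeneralLinearGroup.map σ.toRingHom x) := fun x => Units.ext (Matrix.ext fun i l => by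
    show σ2 (j _) = j (σ _)
    rw [hσ2, hσq, map_pow])
  set c2 : Fin n7 → K2ˣ := fun i => Units.map j.toMonoidHom (c i) with hc2
  have hchi2 : ∀ x, Φ.toSys.chi c2 x = Units.map j.toMonoidHom (Φ.toSys.chi c x) := fun x => by
    simp only [Sys.chi, hc2, map_prod, map_zpow]
  have hTc2 : mj (Φ.toAlg.torus c) = Φ.toAlg.torus c2 := map_torus Φ j c
  have hk2 : Commute (Φ.toAlg.torus c2) k := by
    refine hkc c2 ?_ ?_ ?_ <;> rw [hchi2]
    · rw [hcr, map_one]
    · rw [e1, (hchi1 _).2 ((hzero _).2 (Or.inr (Or.inr (Or.inl rfl)))), map_one]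
    · rw [e2, (hchi1 _).2 ((hzero _).2 (Or.inr (Or.inr (Or.inr (Or.inr (Or.inl rfl)))))), map_one]
  have ha' : (mj g * k)⁻¹ * Matrix.GeneralLinearGroup.map σ2.toRingHom (mj g * k) =
      k⁻¹ * (mj a * Matrix.GeneralLinearGroup.map σ2.toRingHom k) := by
    rw [map_mul, hcompat, had, map_mul mj, map_inv mj]
    group
  have hKK2 : Nat.card Kˣ ∣ Nat.card K2ˣ := Subgroup.card_dvd_of_injective _
    (Units.map_injective (f := j.toMonoidHom) j.injective)
  have htorK : tor q ∣ Nat.card Kˣ := by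
    rw [Nat.card_units, hQK, ← Int.natCast_dvd_natCast, Nat.cast_sub (Nat.one_le_pow _ _ (by omega)), tor_cast]
    have h1 := Polynomial.eval_dvd (x := (q : ℤ)) dvd_X_pow_sub_one
    simpa using h1
  have hgcd : Nat.gcd (Nat.card K2ˣ) 2 = Nat.gcd 2 (q - 1) := by
    rcases Nat.even_or_odd q with hev | hod
    · have hp : p0 = 2 := by
        have h2 : 2 ∣ p0 ^ n0 := hn0 ▸ hev.two_dvd
        exact ((Nat.prime_dvd_prime_iff_eq Nat.prime_two (Fact.out : p0.Prime)).1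
          (Nat.prime_two.dvd_of_dvd_pow h2)).symm
      haveI : CharP K2 p0 := charP_of_injective_ringHom j.injective p0
      letI := Fintype.ofFinite K2
      obtain ⟨n2, -, hc⟩ := FiniteField.card K2 p0
      have he : 2 ∣ Nat.card K2 := by
        rw [Nat.card_eq_fintype_card, hc, hp]
        exact dvd_pow_self 2 n2.ne_zero
      have h1 : 0 < Nat.card K2 := Nat.card_pos
      obtain ⟨m, hm⟩ := hev
      rw [Nat.card_units, Nat.gcd_comm, (Nat.prime_two.coprime_iff_not_dvd).2 (by omega),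
        (Nat.prime_two.coprime_iff_not_dvd).2 (by omega)]
    · have h2 : 2 ∣ tor q := dvd_mul_of_dvd_right (by
        obtain ⟨m, hm⟩ := hod.pow (n := 3)
        exact ⟨m + 1, by omega⟩) _
      obtain ⟨m, hm⟩ := hod
      rw [Nat.gcd_eq_right (h2.trans (htorK.trans hKK2)), Nat.gcd_eq_left ⟨m, by omega⟩]
  have hlam1 : rootRefl Φ r (π1 (π1 (π1 r))) = r.rev := by rw [h31, rootRefl_self]
  refine exists_of_frame Φ (j.comp f) σ2 hσ2 hℓ hW hprimq (htorK.trans hKK2) hgcd X₀.2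
    (g := mj g * k) (mul_mem (Φ.map_mem_group j hg) hk) (c := c2) ?_ ?_ ?_ ?_ (π := rootRefl Φ r * π1) ?_ ?_
    (r0 := r) ?_ ?_
  · rw [Matrix.GeneralLinearGroup.map_comp]
    show mj (Matrix.GeneralLinearGroup.map f X₀.1) = _
    rw [hgc, map_mul, map_mul, map_inv, hTc2,
      show mj g * k * Φ.toAlg.torus c2 * (mj g * k)⁻¹ = mj g * (k * Φ.toAlg.torus c2 * k⁻¹) * (mj g)⁻¹ by group,
      hk2.eq.symm, mul_inv_cancel_right]
  · funext i
    rw [Pi.pow_apply, hc2, ← map_pow, show c i ^ ℓ = 1 from congrFun hcl i, map_one]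
    rfl
  · intro h2
    refine hc1 (funext fun i => Units.map_injective (f := j.toMonoidHom) j.injective ?_)
    rw [show Units.map j.toMonoidHom (c i) = c2 i from rfl, h2, Pi.one_apply, Pi.one_apply, map_one]
  · rw [← hTc2]
    exact Φ.map_mem_diagonal j hcH
  · rw [ha']; exact hkN
  · rw [ha']; exact hkM
  · rw [hchi2, hcr, map_one]
  · show rootRefl Φ r (π1 (rootRefl Φ r (π1 (rootRefl Φ r (π1 r))))) = r.rev
    rw [rootRefl_fix Φ (show rB Φ r (π1 r) = 0 by rw [e1]; exact o1),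
      rootRefl_fix Φ (show rB Φ r (π1 (π1 r)) = 0 by rw [e2]; exact o3)]
    exact hlam1

end CfsgLib.CoxTorus.E7
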