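import Cfsg.Agent.Lib.CoxTorus.E7Roots

/-!
The twisted element of type E7 after adjusting by a reflection: its characteristic polynomial and the
stabiliser of the eigenfunctional.
-/

set_option autoImplicit false
set_option linter.dupNamespace false
set_option linter.unusedSectionVars false
set_option maxRecDepth 100000
set_option maxHeartbeats 800000

namespace CfsgLib.CoxTorus

open Cfsg.Lie Matrix Polynomial CfsgLib.Chev CfsgLib.Chev.Chev CfsgLib.InvTorus

section Invariant

variable {D : ChevalleyDatum} (Φ : Chev D)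

/-- An element of the Weyl group preserving a functional without zeros on the roots is trivial. -/
theorem eq_one_of_invariant {f : Fin D.rank → ℤ} {π : Equiv.Perm (Fin D.nroots)} (hπ : π ∈ Φ.WL)
    (hinv : ∀ r, Fv Φ f (π r) = Fv Φ f r) (hne : ∀ r, Fv Φ f r ≠ 0) : π = 1 := by
  classical
  have hex : ∃ n, ∃ σ ∈ Φ.WL, (negs Φ fun k => Fv Φ f (σ (Φ.p k))).card = n := ⟨_, 1, one_mem _, rfl⟩
  obtain ⟨σ, hσ, hcard⟩ := Nat.find_spec hex
  set F := fun k => Fv Φ f (σ (Φ.p k)) with hFdef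
  have hF : ∀ r, Fv Φ F r = Fv Φ f (σ r) := fun r => (Fv_map Φ hσ f r).symm
  have hnn : ∀ i, 0 ≤ F i := fun i => by
    by_contra hi
    have hlt := negs_lt Φ (not_le.1 hi)
    simp only [hF] at hlt
    rw [hcard] at hlt
    exact Nat.find_min hex hlt ⟨σ * Φ.reflPerm i, mul_mem hσ (Φ.reflPerm_mem_WL i), rfl⟩
  have hpos : ∀ r, Φ.toTables.Pos r ↔ 0 < Fv Φ f (σ r) := fun r => by
    have key : ∀ s, Φ.toTables.Pos s → 0 < Fv Φ f (σ s) := fun s hs =>
      lt_of_le_of_ne (by rw [← hF]; exact Finset.sum_nonneg fun i _ => mul_nonneg (Φ.V_nonneg s hs i) (hnn i))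
        (hne _).symm
    refine ⟨key r, fun h => by_contra fun hn => ?_⟩
    have := key r.rev ((Φ.pos_rev_iff r).2 hn)
    rw [Φ.map_rev hσ, Fv_rev] at this
    omega
  have h1 : σ⁻¹ * π * σ = 1 := by
    refine Φ.eq_one_of_pos (mul_mem (mul_mem (inv_mem hσ) hπ) hσ) fun r hr => ?_
    rw [hpos, Equiv.Perm.mul_apply, Equiv.Perm.mul_apply,
      show σ (σ⁻¹ (π (σ r))) = π (σ r) from σ.apply_symm_apply _, hinv]
    exact (hpos r).1 hr
  calc π = σ * (σ⁻¹ * π * σ) * σ⁻¹ := by group
    _ = 1 := by rw [h1, mul_one, mul_inv_cancel]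

theorem lam_rootRefl {ℓ : ℕ} [Fact ℓ.Prime] (v : Fin D.rank → ZMod ℓ) {a : Fin D.nroots}
    (ha : lam Φ v a = 0) (x : Fin D.nroots) : lam Φ v (rootRefl Φ a x) = lam Φ v x := by
  have : lam Φ v (rootRefl Φ a x) = lam Φ v x - (pr Φ a x : ZMod ℓ) * lam Φ v a := by
    simp only [lam, V_rootRefl, Int.cast_sub, Int.cast_mul, sub_mul, Finset.sum_sub_distrib, Finset.mul_sum,
      mul_assoc]
  rw [this, ha, mul_zero, sub_zero]

end Invariant

namespace E7

variable (Φ : Chev Cfsg.Lie.chevE7)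

/-- The six roots `±a, ±b, ±d`. -/
def Six (a b d r : Fin N7) : Prop := r = a ∨ r = a.rev ∨ r = b ∨ r = b.rev ∨ r = d ∨ r = d.rev

theorem rootRefl_fix {a x : Fin N7} (h : rB Φ a x = 0) : rootRefl Φ a x = x :=
  Φ.toSys.V_inj fun j => by rw [V_rootRefl, (root_pairing Φ a).2.1 x, h, zero_mul, sub_zero]

/-- Composition with a reflection turns the orbit of length three into one of length six. -/
theorem refl_twist {ℓ : ℕ} [Fact ℓ.Prime] {π : Equiv.Perm (Fin N7)} (hπ : π ∈ Φ.WL)
    {v : Fin n7 → ZMod ℓ} {c : ZMod ℓ} (hlam : ∀ r : Fin N7, lam Φ v (π r) = c * lam Φ v r)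
    {a : Fin N7} (ha : lam Φ v a = 0) (o1 : rB Φ a (π a) = 0) (o3 : rB Φ a (π (π a)) = 0)
    (h3 : π (π (π a)) = a) :
    rootRefl Φ a * π ∈ Φ.WL ∧ (∀ r, lam Φ v ((rootRefl Φ a * π) r) = c * lam Φ v r) ∧
      (rootRefl Φ a * π) ((rootRefl Φ a * π) ((rootRefl Φ a * π) a)) = a.rev := by
  refine ⟨mul_mem (rootRefl_mem Φ a) hπ, fun r => ?_, ?_⟩
  · rw [Equiv.Perm.mul_apply, lam_rootRefl Φ v ha, hlam]
  · rw [Equiv.Perm.mul_apply, Equiv.Perm.mul_apply, Equiv.Perm.mul_apply, rootRefl_fix Φ o1,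
      rootRefl_fix Φ o3, h3, rootRefl_self]

/-- The length six of the orbit does not depend on the chosen root of the zero set. -/
theorem rev_of_six {π : Equiv.Perm (Fin N7)} (hπ : π ∈ Φ.WL) {a r : Fin N7}
    (hr : Six a (π a) (π (π a)) r) (h : π (π (π r)) = r.rev) (h3 : π (π (π a)) = a ∨ π (π (π a)) = a.rev) :
    π (π (π a)) = a.rev := by
  refine h3.resolve_left fun e => rev_ne Φ r ?_
  rw [← h]
  rcases hr with rfl | rfl | rfl | rfl | rfl | rfl <;> simp only [Φ.map_rev hπ, e]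

theorem cyclotomic_two_six : cyclotomic 2 ℤ = X + 1 ∧ cyclotomic 6 ℤ = X ^ 2 - X + 1 :=
  ⟨cyclotomic_two ℤ, cyclotomic_six ℤ⟩

/-- The characteristic polynomial of the twisting element. -/
theorem charpoly_twist {π : Equiv.Perm (Fin N7)} (hπ : π ∈ Φ.WL) {a : Fin N7} (o1 : rB Φ a (π a) = 0)
    (o3 : rB Φ a (π (π a)) = 0) (h3 : π (π (π a)) = a.rev) {y : Fin n7 → ℤ} (hy : y ≠ 0)
    (h12 : aeval (Pm Φ π) (cyclotomic 12 ℤ) *ᵥ y = 0) :
    (Pm Φ π).charpoly = cyclotomic 12 ℤ * cyclotomic 6 ℤ * cyclotomic 2 ℤ := by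
  classical
  set P : Matrix (Fin n7) (Fin n7) ℤ := Pm Φ π with hPdef
  set b := π a with hb
  set d := π b with hd
  have hstep : ∀ x : Fin N7, P *ᵥ (M7 *ᵥ Φ.V (π x)) = M7 *ᵥ Φ.V x := fun x => by
    rw [V_vecMul Φ hπ, ← hPdef]
    conv_rhs => rw [← form_inv Φ hπ, ← Matrix.mulVec_mulVec, ← Matrix.mulVec_mulVec, Matrix.mulVec_transpose]
  set z0 := M7 *ᵥ Φ.V a with hz0
  set z1 := M7 *ᵥ Φ.V b with hz1
  set z2 := M7 *ᵥ Φ.V d with hz2
  have e1 : P *ᵥ z1 = z0 := hstep a
  have e2 : P *ᵥ z2 = z1 := hstep b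
  have e0 : P *ᵥ z0 = -z2 := by
    have h := hstep d
    have hV : Φ.V a.rev = -Φ.V a := funext fun j => Φ.V_neg a j
    rw [hd, hb, h3, hV, Matrix.mulVec_neg, Matrix.mulVec_neg, neg_eq_iff_eq_neg] at h
    exact h
  have q0 : Φ.V a ⬝ᵥ z0 = 2 := rB_self Φ a
  have q1 : Φ.V a ⬝ᵥ z1 = 0 := o1
  have q2 : Φ.V a ⬝ᵥ z2 = 0 := o3
  have h2v : aeval P (cyclotomic 2 ℤ) *ᵥ (z0 - z1 + z2) = 0 := by
    rw [cyclotomic_two_six.1, map_add, aeval_X, map_one, Matrix.add_mulVec, Matrix.one_mulVec,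
      Matrix.mulVec_add, Matrix.mulVec_sub, e0, e1, e2]
    abel
  have h6v : aeval P (cyclotomic 6 ℤ) *ᵥ (z0 + z1) = 0 := by
    rw [cyclotomic_two_six.2, map_add, map_sub, map_pow, aeval_X, map_one, Matrix.add_mulVec,
      Matrix.sub_mulVec, Matrix.one_mulVec, pow_two, ← Matrix.mulVec_mulVec, Matrix.mulVec_add, e0, e1,
      Matrix.mulVec_add, Matrix.mulVec_neg, e2, e0]
    abel
  have hne2 : z0 - z1 + z2 ≠ 0 := fun h => by
    have := congrArg (Φ.V a ⬝ᵥ ·) h
    simp only [dotProduct_add, dotProduct_sub, q0, q1, q2, dotProduct_zero] at this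
    norm_num at this
  have hne6 : z0 + z1 ≠ 0 := fun h => by
    have := congrArg (Φ.V a ⬝ᵥ ·) h
    simp only [dotProduct_add, q0, q1, dotProduct_zero] at this
    norm_num at this
  set B := P.map (Int.castRingHom ℚ) with hB
  have hdvd : cyclotomic 12 ℚ * cyclotomic 6 ℚ * cyclotomic 2 ℚ ∣ B.charpoly :=
    (IsCoprime.mul_dvd
      (IsCoprime.mul_left (cyclotomic.isCoprime_rat (by norm_num)) (cyclotomic.isCoprime_rat (by norm_num)))
      (IsCoprime.mul_dvd (cyclotomic.isCoprime_rat (by norm_num))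
        (dvd_minpoly_of_mulVec (by norm_num) hy h12) (dvd_minpoly_of_mulVec (by norm_num) hne6 h6v))
      (dvd_minpoly_of_mulVec (by norm_num) hne2 h2v)).trans (Matrix.minpoly_dvd_charpoly B)
  have hcp : B.charpoly = cyclotomic 12 ℚ * cyclotomic 6 ℚ * cyclotomic 2 ℚ := by
    refine eq_of_monic_of_dvd_of_natDegree_le
      (((cyclotomic.monic 12 ℚ).mul (cyclotomic.monic 6 ℚ)).mul (cyclotomic.monic 2 ℚ))
      (Matrix.charpoly_monic B) hdvd ?_
    rw [Matrix.charpoly_natDegree_eq_dim, Fintype.card_fin,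
      ((cyclotomic.monic 12 ℚ).mul (cyclotomic.monic 6 ℚ)).natDegree_mul (cyclotomic.monic 2 ℚ),
      (cyclotomic.monic 12 ℚ).natDegree_mul (cyclotomic.monic 6 ℚ), natDegree_cyclotomic, natDegree_cyclotomic,
      natDegree_cyclotomic]
    decide
  refine Polynomial.map_injective (Int.castRingHom ℚ) Int.cast_injective ?_
  rw [← Matrix.charpoly_map, Polynomial.map_mul, Polynomial.map_mul, map_cyclotomic, map_cyclotomic,
    map_cyclotomic]
  exact hcp

/-- The stabiliser of the eigenfunctional is generated by three commuting reflections. -/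
theorem stab_three {ℓ : ℕ} [Fact ℓ.Prime] (hW : ¬ ℓ ∣ Nat.card Φ.WL) {v : Fin n7 → ZMod ℓ} {a b d : Fin N7}
    (hz : ∀ r, lam Φ v r = 0 ↔ Six a b d r) (o1 : rB Φ a b = 0) (o2 : rB Φ b d = 0) (o3 : rB Φ a d = 0)
    {π : Equiv.Perm (Fin N7)} (hπ : π ∈ Φ.WL) (hfix : ∀ r, lam Φ v (π r) = lam Φ v r) :
    (∀ x ∈ ({a, b, d} : Finset (Fin N7)), π x = x ∨ π x = x.rev) ∧
      (π a = a → π b = b → π d = d → π = 1) := by
  classical
  set S : Finset (Fin N7) := {a, b, d} with hS
  have memS : ∀ x, x ∈ S ↔ (x = a ∨ x = b ∨ x = d) := fun x => by simp [hS]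
  have hne : ∀ {x y : Fin N7}, rB Φ x y = 0 → x ≠ y := fun {x y} h e => by
    rw [← e, rB_self] at h
    norm_num at h
  have hsum : ∀ h : Fin N7 → ℤ, ∑ x ∈ S, h x = h a + h b + h d := fun h => by
    rw [hS, Finset.sum_insert (by simp [hne o1, hne o3]), Finset.sum_insert (by simp [hne o2]),
      Finset.sum_singleton, add_assoc]
  -- the case of a stable set
  have key : ∀ σ ∈ Φ.WL, (∀ r, lam Φ v (σ r) = lam Φ v r) → (∀ x ∈ S, σ x ∈ S) → σ = 1 := by
    intro σ hσ hf hSσ
    have himg : S.image σ = S := Finset.eq_of_subset_of_card_le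
      (fun w hw => by obtain ⟨x, hx, rfl⟩ := Finset.mem_image.1 hw; exact hSσ x hx)
      (le_of_eq (Finset.card_image_of_injective _ σ.injective).symm)
    set m := orderOf σ with hm
    set g : Fin n7 → ℤ := fun i => ((v i).val : ℤ) with hg
    set f0 : Fin n7 → ℤ := fun k => ∑ i ∈ Finset.range m, Fv Φ g ((σ ^ i) (Φ.p k)) with hf0
    set f1 : Fin n7 → ℤ := fun k => 7 * f0 k + ∑ x ∈ S, rB Φ x (Φ.p k) with hf1
    have hF0 : ∀ r, Fv Φ f0 r = ∑ i ∈ Finset.range m, Fv Φ g ((σ ^ i) r) := fun r => by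
      rw [Finset.sum_congr rfl fun i _ => Fv_map Φ (pow_mem hσ i) g r]
      simp only [Fv, hf0, Finset.mul_sum]
      exact Finset.sum_comm
    have hG : ∀ x r : Fin N7, ∑ k, Φ.V r k * rB Φ x (Φ.p k) = rB Φ x r := fun x r => by
      rw [rB_comm Φ x r]
      show _ = ∑ k, Φ.V r k * (M7 *ᵥ Φ.V x) k
      refine Finset.sum_congr rfl fun k _ => ?_
      rw [rB_comm Φ x, rB, V_p_single, Bf_single]
    have hF1 : ∀ r, Fv Φ f1 r = 7 * Fv Φ f0 r + ∑ x ∈ S, rB Φ x r := fun r => by
      simp only [Fv, hf1, mul_add, Finset.sum_add_distrib, Finset.mul_sum, mul_left_comm _ (7 : ℤ)]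
      congr 1
      rw [Finset.sum_comm]
      exact Finset.sum_congr rfl fun x _ => hG x r
    refine eq_one_of_invariant Φ (f := f1) hσ (fun r => ?_) fun r => ?_
    · rw [hF1, hF1]
      congr 1
      · rw [hF0, hF0]
        set h := fun i : ℕ => Fv Φ g ((σ ^ i) r) with hh
        have e : ∀ i, Fv Φ g ((σ ^ i) (σ r)) = h (i + 1) := fun i => by
          simp only [hh, pow_succ, Equiv.Perm.mul_apply]
        simp only [e]
        have h0 : h m = h 0 := by simp only [hh, hm, pow_orderOf_eq_one, pow_zero]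
        have h1 := Finset.sum_range_succ' h m
        have h3 := Finset.sum_range_succ h m
        show 7 * ∑ i ∈ Finset.range m, h (i + 1) = 7 * ∑ i ∈ Finset.range m, h i
        linarith
      · calc ∑ x ∈ S, rB Φ x (σ r) = ∑ x ∈ S.image σ, rB Φ x (σ r) := by rw [himg]
          _ = ∑ x ∈ S, rB Φ (σ x) (σ r) := Finset.sum_image fun x _ y _ h => σ.injective h
          _ = _ := Finset.sum_congr rfl fun x _ => rB_map Φ hσ x r
    · rw [hF1, hsum]
      obtain ⟨a1, a2, -, -⟩ := (root_pairing Φ a).2.2.1 r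
      obtain ⟨b1, b2, -, -⟩ := (root_pairing Φ b).2.2.1 r
      obtain ⟨d1, d2, -, -⟩ := (root_pairing Φ d).2.2.1 r
      intro h0
      by_cases hr : lam Φ v r = 0
      · have := rB_self Φ a
        have := rB_self Φ b
        have := rB_self Φ d
        have := rB_comm Φ a b
        have := rB_comm Φ a d
        have := rB_comm Φ b d
        rcases (hz r).1 hr with rfl | rfl | rfl | rfl | rfl | rfl <;>
          first | omega | (simp only [rB_rev] at h0; omega)
      · have hi : ∀ i : ℕ, lam Φ v ((σ ^ i) r) = lam Φ v r := by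
          intro i
          induction i with
          | zero => simp
          | succ i ih => rw [pow_succ', Equiv.Perm.mul_apply, hf, ih]
        have hcast : ∀ s, (Fv Φ g s : ZMod ℓ) = lam Φ v s := fun s => by
          simp [Fv, lam, hg]
        have h3 : ((Fv Φ f0 r : ℤ) : ZMod ℓ) = (m : ZMod ℓ) * lam Φ v r := by
          rw [hF0]
          simp only [Int.cast_sum, hcast, hi, Finset.sum_const, Finset.card_range, nsmul_eq_mul]
        have hf0' : Fv Φ f0 r ≠ 0 := fun h => by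
          rw [h, Int.cast_zero, eq_comm, mul_eq_zero] at h3
          rcases h3 with h4 | h4
          · exact hW (((ZMod.natCast_eq_zero_iff _ _).1 h4).trans (Subgroup.orderOf_dvd_natCard _ hσ))
          · exact hr h4
        omega
  refine ⟨?_, fun ha hb hd => key π hπ hfix fun x hx => by
    rcases (memS x).1 hx with rfl | rfl | rfl <;> simp [ha, hb, hd, hS]⟩
  -- flips
  let e : Fin N7 → Equiv.Perm (Fin N7) := fun y => if y.rev ∈ S.image π then rootRefl Φ y else 1
  have heW : ∀ y, e y ∈ Φ.WL := fun y => by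
    simp only [e]; split_ifs
    exacts [rootRefl_mem Φ y, one_mem _]
  have hefix : ∀ {y w : Fin N7}, rB Φ y w = 0 → e y w = w := fun {y w} h => by
    simp only [e]; split_ifs
    exacts [rootRefl_fix Φ h, rfl]
  have helam : ∀ y ∈ S, ∀ r, lam Φ v (e y r) = lam Φ v r := fun y hy r => by
    simp only [e]; split_ifs
    · refine lam_rootRefl Φ v ((hz y).2 ?_) r
      rcases (memS y).1 hy with rfl | rfl | rfl <;> simp [Six]
    · rfl
  have nrev : ∀ x ∈ S, x.rev ∉ S := by
    intro x hx hxr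
    have h1 : rB Φ x x.rev = -2 := by rw [rB_rev, rB_self]
    rcases (memS x).1 hx with hx' | hx' | hx' <;> rcases (memS _).1 hxr with h | h | h <;> rw [h, hx'] at h1 <;>
      simp [rB_self, o1, o2, o3, rB_comm Φ b a, rB_comm Φ d a, rB_comm Φ d b] at h1
  have hpm : ∀ x ∈ S, π x ∈ S ∨ (π x).rev ∈ S := fun x hx => by
    have h0 : lam Φ v (π x) = 0 := by
      rw [hfix]
      refine (hz x).2 ?_
      rcases (memS x).1 hx with rfl | rfl | rfl <;> simp [Six]
    rcases (hz _).1 h0 with h | h | h | h | h | h <;> simp [h, hS, Fin.rev_rev]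
  set z := e a * e b * e d with hzdef
  have hzW : z ∈ Φ.WL := mul_mem (mul_mem (heW a) (heW b)) (heW d)
  have hzval : ∀ w ∈ S, z w = e w w := fun w hw => by
    rcases (memS w).1 hw with rfl | rfl | rfl
    · rw [hzdef, Equiv.Perm.mul_apply, Equiv.Perm.mul_apply, hefix (y := d) (w := w) (by rw [rB_comm]; exact o3),
        hefix (y := b) (w := w) (by rw [rB_comm]; exact o1)]
    · rw [hzdef, Equiv.Perm.mul_apply, Equiv.Perm.mul_apply, hefix (y := d) (w := w) (by rw [rB_comm]; exact o2)]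
      by_cases h : w.rev ∈ S.image π
      · simp only [e, if_pos h, rootRefl_self]
        exact (Φ.map_rev (heW a) w).trans (congrArg Fin.rev (hefix o1))
      · simp only [e, if_neg h]
        exact hefix o1
    · rw [hzdef, Equiv.Perm.mul_apply, Equiv.Perm.mul_apply]
      by_cases h : w.rev ∈ S.image π
      · simp only [e, if_pos h, rootRefl_self]
        refine (congrArg (e a) ((Φ.map_rev (heW b) w).trans (congrArg Fin.rev (hefix o2)))).trans ?_
        exact (Φ.map_rev (heW a) w).trans (congrArg Fin.rev (hefix o3))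
      · simp only [e, if_neg h, Equiv.Perm.one_apply]
        exact (congrArg (e a) (hefix o2)).trans (hefix o3)
  have hstable : ∀ x ∈ S, (z * π) x ∈ S := fun x hx => by
    rw [Equiv.Perm.mul_apply]
    rcases hpm x hx with h | h
    · rw [hzval _ h]
      have : (π x).rev ∉ S.image π := fun h' => by
        obtain ⟨x', hx', he⟩ := Finset.mem_image.1 h'
        rw [← Φ.map_rev hπ] at he
        exact nrev x hx (π.injective he ▸ hx')
      simp only [e, if_neg this, Equiv.Perm.one_apply]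
      exact h
    · have h' : (π x).rev.rev ∈ S.image π := by rw [Fin.rev_rev]; exact Finset.mem_image_of_mem _ hx
      have h1 : z (π x).rev = π x := by
        rw [hzval _ h]
        simp only [e, if_pos h', rootRefl_self, Fin.rev_rev]
      rw [← Fin.rev_rev (π x), Φ.map_rev hzW, h1]
      exact h
  have h1 := key (z * π) (mul_mem hzW hπ) (fun r => by
    simp only [hzdef, Equiv.Perm.mul_apply]
    rw [helam a (by simp [hS]), helam b (by simp [hS]), helam d (by simp [hS]), hfix]) hstable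
  intro x hx
  have hinv : z (π x) = x := congrArg (fun σ : Equiv.Perm (Fin N7) => σ x) h1
  rcases hpm x hx with h | h
  · left
    rw [hzval _ h] at hinv
    have : (π x).rev ∉ S.image π := fun h' => by
      obtain ⟨x', hx', he⟩ := Finset.mem_image.1 h'
      rw [← Φ.map_rev hπ] at he
      exact nrev x hx (π.injective he ▸ hx')
    simp only [e, if_neg this, Equiv.Perm.one_apply] at hinv
    exact hinv
  · right
    have h' : (π x).rev.rev ∈ S.image π := by rw [Fin.rev_rev]; exact Finset.mem_image_of_mem _ hx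
    have h2 : z (π x).rev = π x := by
      rw [hzval _ h]
      simp only [e, if_pos h', rootRefl_self, Fin.rev_rev]
    rw [Φ.map_rev hzW, hinv] at h2
    exact h2.symm

end E7

end CfsgLib.CoxTorus
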