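import Cfsg.Agent.Lib.CoxTorus.Twist
import Cfsg.Agent.Lib.CoxTorus.KerCount

/-!
A self-centralizing cyclic subgroup of order `Φ_e(q)` for a regular number `e` with `φ(e) = rank`.
-/

set_option autoImplicit false
set_option linter.dupNamespace false
set_option linter.unusedSectionVars false

namespace CfsgLib.CoxTorus

open Cfsg.Lie Matrix CfsgLib.Chev CfsgLib.Chev.Chev CfsgLib.InvTorus

variable {D : ChevalleyDatum} (Φ : Chev D)

theorem chi_pow {K : Type*} [Field K] (c : Fin D.rank → Kˣ) (n : ℕ) (r : Fin D.nroots) :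
    Φ.toSys.chi (c ^ n) r = Φ.toSys.chi c r ^ n := by
  induction n with
  | zero => simp [Sys.chi]
  | succ n ih => rw [pow_succ, pow_succ, Φ.toSys.chi_mul, ih]

theorem expM_scalar_sub {A : Type*} [CommGroup A] {l : ℕ} (P : Matrix (Fin l) (Fin l) ℤ) (q : ℕ)
    (d : Fin l → A) (k : Fin l) :
    expM (Matrix.scalar (Fin l) (q : ℤ) - P) d k = d k ^ q * (∏ j, d j ^ P k j)⁻¹ := by
  simp only [expM_apply, Matrix.sub_apply, Matrix.scalar_apply, Matrix.diagonal_apply, _root_.zpow_sub,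
    Finset.prod_mul_distrib, Finset.prod_inv_distrib]
  rw [Finset.prod_eq_single k]
  · simp
  · intro j _ hj; simp [hj.symm]
  · simp

/-- The general existence statement. -/
theorem exists_selfCentralizing {F : Type*} [Field F] [Finite F] {e ℓ : ℕ} [Fact ℓ.Prime]
    (he : 2 < e) (hr : e.totient = D.rank) (hW : ¬ ℓ ∣ Nat.card Φ.WL) {th : Fin D.nroots}
    (htop : ∀ r j, Φ.V r j ≤ Φ.V th j) (h2 : ∀ k, 2 ≤ Φ.V th k) (hℓth : ∀ k, Φ.V th k < ℓ)
    (hle : ¬ ℓ ∣ e) (hℓN : (ℓ : ℤ) ∣ (Polynomial.cyclotomic e ℤ).eval (Nat.card F : ℤ))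
    (hℓG : ℓ ∣ Nat.card (D.group F)) (hsF : Function.Surjective (Φ.coHom F))
    (hsK : ∀ (K : Type) [Field K], Function.Surjective (Φ.coHom K))
    (hmult : ∀ p : ℕ, p.Prime → p ∣ ((Polynomial.cyclotomic e ℤ).eval (Nat.card F : ℤ)).natAbs →
      ¬ p ∣ e ∨ ¬ p ^ 2 ∣ ((Polynomial.cyclotomic e ℤ).eval (Nat.card F : ℤ)).natAbs) :
    ∃ C : Subgroup ↥(D.group F), IsCyclic C ∧
      Nat.card C = ((Polynomial.cyclotomic e ℤ).eval (Nat.card F : ℤ)).natAbs ∧
      Subgroup.centralizer (C : Set ↥(D.group F)) = C := by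
  classical
  haveI : NeZero e := ⟨by omega⟩
  obtain ⟨p0, hp0⟩ := CharP.exists F
  haveI : Fact p0.Prime := ⟨CharP.char_is_prime F p0⟩
  let K := FiniteField.Extension F p0 e
  let f : F →+* K := algebraMap F K
  let σ : K ≃+* K := (FiniteField.Extension.frob F p0 e).toRingEquiv
  have hQK : Nat.card K = Nat.card F ^ e := FiniteField.natCard_extension F p0 e
  set q := Nat.card F with hq
  have hσq : ∀ x, σ x = x ^ q := fun x => FiniteField.Extension.frob_apply F p0 e
  have hσ : ∀ x, σ x = x ↔ x ∈ Set.range f := fun x => by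
    rw [hσq]; exact mem_range_iff_pow_card f x
  have hσf : σ.toRingHom.comp f = f := RingHom.ext fun a => (hσ (f a)).2 ⟨a, rfl⟩
  have hs : Function.Surjective (Φ.coHom K) := hsK K
  -- arithmetic modulo ℓ
  haveI : NeZero (e : ZMod ℓ) := ⟨fun h => hle ((ZMod.natCast_eq_zero_iff _ _).1 h)⟩
  have hroot : (Polynomial.cyclotomic e (ZMod ℓ)).IsRoot (q : ZMod ℓ) := by
    have h1 := Polynomial.eval_intCast_map (Int.castRingHom (ZMod ℓ)) (Polynomial.cyclotomic e ℤ) (q : ℤ)
    rw [Polynomial.map_cyclotomic] at h1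
    rw [Polynomial.IsRoot.def]
    simpa [(ZMod.intCast_zmod_eq_zero_iff_dvd _ ℓ).2 hℓN] using h1
  have hprimq : IsPrimitiveRoot (q : ZMod ℓ) e := Polynomial.isRoot_cyclotomic_iff.1 hroot
  have hQ1 : (Nat.card K : ZMod ℓ) = 1 := by
    rw [hQK, Nat.cast_pow]
    exact hprimq.pow_eq_one
  -- an element of order ℓ
  haveI : Finite ↥(D.group F) := inferInstance
  obtain ⟨X, hX⟩ := exists_prime_orderOf_dvd_card' ℓ hℓG
  have hinjf : Function.Injective (Matrix.GeneralLinearGroup.map (n := D.Idx) f) := fun a b h =>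
    Units.ext (Matrix.map_injective f.injective (congrArg Units.val h :))
  have hfix : ∀ y : GL D.Idx F,
      Matrix.GeneralLinearGroup.map σ.toRingHom (Matrix.GeneralLinearGroup.map f y) =
        Matrix.GeneralLinearGroup.map f y := fun y => by
    conv_rhs => rw [← hσf, Matrix.GeneralLinearGroup.map_comp]
    rfl
  let ι : ↥(D.group F) →* GL D.Idx K :=
    (Matrix.GeneralLinearGroup.map f).comp (D.group F).subtype
  have hιinj : Function.Injective ι := fun a b h => Subtype.ext (hinjf h)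
  have hxG : ι X ∈ D.group K := Φ.map_mem_group f X.2
  have hxl : ι X ^ ℓ = 1 := by rw [← map_pow, ← hX, pow_orderOf_eq_one, map_one]
  obtain ⟨g, hg, c, hgc⟩ := exists_conj_torus Φ hQ1 hW hxG hxl
  have hcl : c ^ ℓ = 1 := by
    refine Φ.torus_injective ?_
    rw [map_pow, map_one, show Φ.toAlg.torus c = g⁻¹ * ι X * g⁻¹⁻¹ by rw [hgc]; group, conj_pow, hxl]
    group
  obtain ⟨i0, hi0⟩ : ∃ i, c i ≠ 1 := by
    by_contra! h
    have h1 : ι X = 1 := by rw [hgc, show c = 1 from funext h, map_one, mul_one, mul_inv_cancel]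
    rw [show X = 1 from hιinj (by rw [h1, map_one]), orderOf_one] at hX
    exact (Fact.out : ℓ.Prime).one_lt.ne hX
  set ζ := c i0 with hζd
  have hoζ : orderOf ζ = ℓ := orderOf_eq_prime (congrFun hcl i0) hi0
  have hprim : IsPrimitiveRoot ζ ℓ := IsPrimitiveRoot.iff_orderOf.2 hoζ
  haveI : NeZero ℓ := ⟨(Fact.out : ℓ.Prime).ne_zero⟩
  have hmem : ∀ k, ∃ z : ℤ, ζ ^ z = c k := fun k => by
    have : c k ∈ Subgroup.zpowers ζ := by
      rw [hprim.zpowers_eq, mem_rootsOfUnity]
      exact congrFun hcl k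
    exact Subgroup.mem_zpowers_iff.1 this
  choose n hn using hmem
  set v : Fin D.rank → ZMod ℓ := fun k => (n k : ZMod ℓ) with hv
  have hzeq : ∀ a b : ℤ, ζ ^ a = ζ ^ b ↔ (a : ZMod ℓ) = b := fun a b => by
    rw [zpow_eq_zpow_iff_modEq, hoζ, ZMod.intCast_eq_intCast_iff]
  have hchi : ∀ r, ∃ z : ℤ, Φ.toSys.chi c r = ζ ^ z ∧ (z : ZMod ℓ) = lam Φ v r := fun r => by
    refine ⟨∑ i, n i * Φ.V r i, ?_, by simp [lam, hv, mul_comm]⟩
    simp only [Sys.chi, ← hn, ← _root_.zpow_mul]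
    induction (Finset.univ : Finset (Fin D.rank)) using Finset.induction_on with
    | empty => simp
    | insert k s hk ih => rw [Finset.prod_insert hk, Finset.sum_insert hk, _root_.zpow_add, ih]
  have hchi_iff : ∀ r s (m : ℕ), Φ.toSys.chi c r = Φ.toSys.chi c s ^ m ↔
      lam Φ v r = m * lam Φ v s := fun r s m => by
    obtain ⟨a, ha, ha'⟩ := hchi r
    obtain ⟨b, hb, hb'⟩ := hchi s
    rw [ha, hb, ← zpow_natCast, ← _root_.zpow_mul, hzeq, ← ha', ← hb']
    push_cast
    rw [mul_comm (b : ZMod ℓ)]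
  have hv0 : v ≠ 0 := fun h => hi0 <| by
    have : ζ ^ n i0 = ζ ^ (0 : ℤ) := (hzeq _ _).2 (by simpa [hv] using congrFun h i0)
    rwa [hn, _root_.zpow_zero] at this
  -- the twisting element
  set a := g⁻¹ * Matrix.GeneralLinearGroup.map σ.toRingHom g with had
  have haG : a ∈ D.group K := mul_mem (inv_mem hg) (Φ.map_mem_group _ hg)
  have hmapT : ∀ d : Fin D.rank → Kˣ, Matrix.GeneralLinearGroup.map σ.toRingHom (Φ.toAlg.torus d) =
      Φ.toAlg.torus (d ^ q) := fun d => by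
    rw [map_torus]
    congr 1
    funext i
    exact Units.ext (by simpa using hσq (d i))
  have hconjfix : ∀ d : Fin D.rank → Kˣ,
      Matrix.GeneralLinearGroup.map σ.toRingHom (g * Φ.toAlg.torus d * g⁻¹) = g * Φ.toAlg.torus d * g⁻¹ ↔
        a * Φ.toAlg.torus (d ^ q) * a⁻¹ = Φ.toAlg.torus d := fun d => by
    rw [map_mul, map_mul, map_inv, hmapT,
      show Matrix.GeneralLinearGroup.map σ.toRingHom g = g * a by rw [had]; group]
    constructor
    · intro h
      calc a * Φ.toAlg.torus (d ^ q) * a⁻¹ = g⁻¹ * (g * a * Φ.toAlg.torus (d ^ q) * (g * a)⁻¹) * g := by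
            group
        _ = _ := by rw [h]; group
    · intro h
      calc g * a * Φ.toAlg.torus (d ^ q) * (g * a)⁻¹ = g * (a * Φ.toAlg.torus (d ^ q) * a⁻¹) * g⁻¹ := by
            group
        _ = _ := by rw [h]
  have hac : a * Φ.toAlg.torus (c ^ q) * a⁻¹ = Φ.toAlg.torus c :=
    (hconjfix c).1 (by rw [← hgc]; exact hfix X)
  obtain ⟨w, hw, π, hπ, hm, hπc, hcomm⟩ := twist_parts Φ hs haG (mul_inv_eq_iff_eq_mul.1 hac).symm
  have hlamπ : ∀ r, lam Φ v (π r) = (q : ZMod ℓ) * lam Φ v r := fun r =>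
    (hchi_iff _ _ q).1 ((hπc r).trans (chi_pow Φ c q r))
  set P := Pm Φ π with hPdef
  have hPv : P.map (Int.castRingHom (ZMod ℓ)) *ᵥ v = (q : ZMod ℓ) • v := funext fun k => by
    rw [Pi.smul_apply, smul_eq_mul, ← lam_p Φ v k, ← hlamπ]
    rfl
  have hPm : P ^ Nat.card Φ.WL = 1 := by
    rw [hPdef, ← Pm_pow Φ hπ,
      show π ^ Nat.card Φ.WL = 1 from congrArg Subtype.val (pow_card_eq_one' (x := (⟨π, hπ⟩ : Φ.WL))),
      Pm_one]
  have hcp : P.charpoly = Polynomial.cyclotomic e ℤ :=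
    charpoly_eq_cyclotomic (by omega) hr P Nat.card_pos hPm hW hprimq hv0 hPv
  have hreg := regular_of_eigen Φ (by omega) hr hπ hcp hv0 hlamπ htop h2 hℓth
  have hcent : ∀ y ∈ D.group K, Commute (Φ.toAlg.torus c) y → y ∈ D.diagonalSubgroup K := by
    intro y hy hyc
    refine mem_H_of_regular Φ hs (fun r h => hreg r ?_) (fun π' hπ' hfx => ?_) hy hyc
    · obtain ⟨z, hz, hz'⟩ := hchi r
      rw [← hz', (hzeq z 0).1 (by rw [← hz, h, _root_.zpow_zero]), Int.cast_zero]
    · refine stab_trivial Φ hreg hπ' (fun hd => hW (hd.trans (Subgroup.orderOf_dvd_natCard _ hπ')))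
        fun r => ?_
      simpa using (hchi_iff _ r 1).1 (by rw [pow_one]; exact hfx r)
  obtain ⟨dh, hdh⟩ := Φ.exists_torus_of_mem_H
    (hcent _ (mul_mem haG (inv_mem (Φ.N_le_group hw))) hcomm)
  have haN : a ∈ D.monomialSubgroup K := by
    rw [mul_inv_eq_iff_eq_mul.1 hdh]
    exact mul_mem (H_le_N (torus_mem_H Φ hs dh)) hw
  have haM : Φ.Mono a π := by
    rw [mul_inv_eq_iff_eq_mul.1 hdh]
    have h := Chev.Mono.mul Φ (Φ.mono_torus dh) hm
    rwa [one_mul] at h
  set T := Matrix.scalar (Fin D.rank) (q : ℤ) - P with hTdef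
  have hker : ∀ d : Fin D.rank → Kˣ, d ∈ (expM (A := Kˣ) T).ker ↔
      Matrix.GeneralLinearGroup.map σ.toRingHom (g * Φ.toAlg.torus d * g⁻¹) =
        g * Φ.toAlg.torus d * g⁻¹ := fun d => by
    rw [hconjfix, conj_torus_iff Φ hs haN haM, MonoidHom.mem_ker]
    constructor
    · intro h r
      rw [chi_map Φ hπ]
      refine Finset.prod_congr rfl fun k _ => ?_
      have hk := congrFun h k
      rw [hTdef, expM_scalar_sub, Pi.one_apply, mul_inv_eq_one] at hk
      exact congrArg (· ^ Φ.V r k) hk.symm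
    · intro h
      funext k
      rw [hTdef, expM_scalar_sub, Pi.one_apply, mul_inv_eq_one]
      have hk := h (Φ.p k)
      rw [Φ.toSys.chi_simple] at hk
      exact hk.symm
  -- the subgroup
  let ψ : (Fin D.rank → Kˣ) →* GL D.Idx K :=
    (MulAut.conj g).toMonoidHom.comp Φ.toAlg.torus
  have hψ : ∀ d, ψ d = g * Φ.toAlg.torus d * g⁻¹ := fun d => rfl
  have hψinj : Function.Injective ψ := (MulAut.conj g).injective.comp Φ.torus_injective
  set C : Subgroup ↥(D.group F) := Subgroup.centralizer {X} with hC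
  have hIJ : C.map ι = (expM (A := Kˣ) T).ker.map ψ := by
    ext z
    constructor
    · rintro ⟨y, hy, rfl⟩
      have hyx : Commute (ι X) (ι y) :=
        Commute.map (show Commute X y from (Subgroup.mem_centralizer_singleton_iff.1 hy).symm) ι
      have hyc : Commute (Φ.toAlg.torus c) (g⁻¹ * ι y * g) := by
        have := hyx.eq
        rw [hgc] at this
        show Φ.toAlg.torus c * (g⁻¹ * ι y * g) = g⁻¹ * ι y * g * Φ.toAlg.torus c
        calc Φ.toAlg.torus c * (g⁻¹ * ι y * g)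
            = g⁻¹ * (g * Φ.toAlg.torus c * g⁻¹ * ι y) * g := by group
          _ = _ := by rw [this]; group
      obtain ⟨d, hd⟩ := Φ.exists_torus_of_mem_H
        (hcent _ (mul_mem (mul_mem (inv_mem hg) (Φ.map_mem_group f y.2)) hg) hyc)
      have hyd : ι y = g * Φ.toAlg.torus d * g⁻¹ := by
        rw [← hd, show Matrix.GeneralLinearGroup.map f (y : GL D.Idx F) = ι y from rfl]
        group
      refine ⟨d, (hker d).2 ?_, (hψ d).trans hyd.symm⟩
      rw [← hyd]
      exact hfix y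
    · rintro ⟨d, hd, rfl⟩
      have hz : ψ d ∈ D.group K := by
        rw [hψ]
        exact mul_mem (mul_mem hg (Φ.B_le_group (H_le_B (torus_mem_H Φ hs d)))) (inv_mem hg)
      obtain ⟨y, hy, hyz⟩ := Φ.exists_of_fixed σ f hσ hsF hz ((hψ d).symm ▸ (hker d).1 hd)
      refine ⟨⟨y, hy⟩, Subgroup.mem_centralizer_singleton_iff.2 (hιinj ?_), hyz⟩
      rw [map_mul, map_mul, show ι ⟨y, hy⟩ = ψ d from hyz, hgc, ← hψ, ← map_mul ψ, ← map_mul ψ, mul_comm d c]
  let eC : C ≃* (expM (A := Kˣ) T).ker :=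
    ((C.equivMapOfInjective ι hιinj).trans (MulEquiv.subgroupCongr hIJ)).trans
      ((expM (A := Kˣ) T).ker.equivMapOfInjective ψ hψinj).symm
  have hdet : T.det = (Polynomial.cyclotomic e ℤ).eval (q : ℤ) := by
    rw [hTdef, ← Matrix.eval_charpoly, hcp]
  have hdet0 : T.det ≠ 0 := by rw [hdet]; exact (Polynomial.cyclotomic_pos he _).ne'
  haveI : Finite Kˣ := inferInstance
  have hcardU : Nat.card Kˣ = q ^ e - 1 := by rw [Nat.card_units, hQK]
  have hdvd : T.det.natAbs ∣ Nat.card Kˣ := by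
    rw [hdet, hcardU, ← Int.natCast_dvd_natCast, Int.natAbs_dvd, Nat.cast_sub (Nat.one_le_pow _ _ Nat.card_pos)]
    have h1 := Polynomial.eval_dvd (x := (q : ℤ)) (Polynomial.cyclotomic.dvd_X_pow_sub_one e ℤ)
    simpa using h1
  have hcard := card_ker_expM_det (A := Kˣ) T hdet0 hdvd
  rw [hdet] at hcard
  refine ⟨C, ?_, (Nat.card_congr eC.toEquiv).trans hcard, le_antisymm ?_ ?_⟩
  · haveI : IsCyclic (expM (A := Kˣ) T).ker := isCyclic_of_prime_card_le fun p hp => by
      haveI : Fact p.Prime := ⟨hp⟩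
      set S := (powMonoidHom p : (expM (A := Kˣ) T).ker →* _).ker with hS
      have hSp : IsPGroup p S := fun x => ⟨1, Subtype.ext ((congrArg (fun m => x.1 ^ m) (pow_one p)).trans x.2)⟩
      obtain ⟨k, hk⟩ := IsPGroup.iff_card.1 hSp
      have hkN : p ^ k ∣ ((Polynomial.cyclotomic e ℤ).eval (q : ℤ)).natAbs :=
        hk ▸ hcard ▸ Subgroup.card_subgroup_dvd_card S
      by_cases hk1 : k ≤ 1
      · rw [hk]
        exact (Nat.pow_le_pow_right hp.pos hk1).trans (le_of_eq (pow_one p))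
      · have hp2 : p ^ 2 ∣ ((Polynomial.cyclotomic e ℤ).eval (q : ℤ)).natAbs :=
          (pow_dvd_pow p (by omega)).trans hkN
        have hp1 := (dvd_pow_self p two_ne_zero).trans hp2
        exact card_torsion_le ((hmult p hp hp1).resolve_right (not_not.2 hp2)) P hcp (q : ℤ)
          (hp1.trans (hdet ▸ hdvd))
    exact isCyclic_of_surjective eC.symm eC.symm.surjective
  · intro y hy
    refine Subgroup.mem_centralizer_singleton_iff.2 ?_
    exact (Subgroup.mem_centralizer_iff.1 hy X (Subgroup.mem_centralizer_singleton_iff.2 rfl)).symm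
  · intro y hy z hz
    have := congrArg Subtype.val (eC.symm.injective.eq_iff.2 (mul_comm (eC ⟨z, hz⟩) (eC ⟨y, hy⟩)))
    simpa [← map_mul] using this

end CfsgLib.CoxTorus
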