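import Cfsg.Agent.Lib.Chev.SteinbergData
import Cfsg.Agent.Lib.Chev.FieldFixed
import Cfsg.Agent.Lib.CoxTorus.Alcove

/-!
The diagonal subgroup of the presented group as a module for the Weyl group, and functoriality of the
presented group in the field.
-/

set_option autoImplicit false
set_option linter.dupNamespace false
set_option linter.unusedSectionVars false
set_option maxRecDepth 100000

namespace CfsgLib.CoxTorus

open Cfsg.Lie Matrix CfsgLib.Chev CfsgLib.Chev.Chev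

variable {D : ChevalleyDatum} (Φ : Chev D) {F K : Type*} [Field F] [Field K]

theorem stH_eq_gh (r : Fin D.nroots) (t : Kˣ) :
    PresentedGroup.mk (D.steinbergRels K) (D.stH r.val (t : K)) = Φ.gh r t := by
  have hn : D.neg r.val = r.rev.val := Φ.negIdx_eq _
  simp only [ChevalleyDatum.stH, ChevalleyDatum.hWord, ChevalleyDatum.nWord, ChevalleyDatum.stWord,
    hn, List.cons_append, List.nil_append, List.map_cons, List.map_nil, List.prod_cons,
    List.prod_nil, mul_one, map_mul, gh, gn, gx, ChevalleyDatum.stGen, Units.val_neg, Units.val_one, mul_assoc]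

theorem gh_mul (r : Fin D.nroots) (a b : Kˣ) : Φ.gh r a * Φ.gh r b = Φ.gh r (a * b) := by
  have h : PresentedGroup.mk (D.steinbergRels K)
      (D.stH r.val (a : K) * D.stH r.val (b : K) * (D.stH r.val ((a : K) * b))⁻¹) = 1 :=
    PresentedGroup.one_of_mem (Or.inr ⟨r.val, a, b, r.isLt, a.ne_zero, b.ne_zero, rfl⟩)
  rw [map_mul, map_mul, map_inv, mul_inv_eq_one] at h
  rw [← stH_eq_gh, ← stH_eq_gh, ← stH_eq_gh, Units.val_mul]
  exact h

theorem gh_one (r : Fin D.nroots) : Φ.gh r (1 : Kˣ) = 1 :=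
  mul_left_cancel (a := Φ.gh r 1) (by rw [gh_mul, one_mul, mul_one])

/-- The homomorphism `t ↦ h̄_r(t)`. -/
def ghHom (r : Fin D.nroots) : Kˣ →* D.SteinbergGroup K where
  toFun := Φ.gh r
  map_one' := gh_one Φ r
  map_mul' a b := (gh_mul Φ r a b).symm

theorem gn_mul_gn (r : Fin D.nroots) (u b : Kˣ) :
    Φ.gn r (u * b) * Φ.gn r (-u) = Φ.gh r b := by
  have e : Φ.gn r (u * b) * Φ.gn r (-u) = Φ.gh r (u * b) * (Φ.gh r u)⁻¹ := by
    simp only [gh, _root_.mul_inv_rev, ← Φ.gn_neg, neg_neg, mul_assoc]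
    rw [← mul_assoc (Φ.gn r (-1)), Φ.gn_neg r 1, inv_mul_cancel, one_mul]
  rw [e, mul_inv_eq_iff_eq_mul, gh_mul, mul_comm b u]

theorem gh_comm (hadj : Φ.Adj) (i j : Fin D.rank) (a b : Kˣ) :
    Commute (Φ.gh (Φ.p i) a) (Φ.gh (Φ.p j) b) := by
  set h := Φ.gh (Φ.p i) a
  have hh : Φ.Nice h := Φ.nice_of_gN hadj (Φ.gH_le_gN (Φ.gh_mem_gH i a))
  have hp : Φ.proj K h = Φ.toAlg.torus (Φ.coChar (Φ.p i) a) := by rw [Φ.proj_gh, Φ.hw_eq]
  set c : Kˣ := Φ.toSys.chi (Φ.coChar (Φ.p i) a) (Φ.p j)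
  have e : ∀ t : Kˣ, h * Φ.gn (Φ.p j) t * h⁻¹ = Φ.gn (Φ.p j) (c * t) := by
    intro t
    refine Nice.conj_gn Φ hh ?_ ?_
    · rw [hp, Φ.toAlg.torus_xg, mul_inv_cancel_right, Units.val_mul]
    · rw [hp, Φ.toAlg.torus_xg, mul_inv_cancel_right, Φ.toSys.chi_neg]
      congr 1
      simp [c, Units.val_inv_eq_inv_val, mul_comm]
  show h * Φ.gh (Φ.p j) b = Φ.gh (Φ.p j) b * h
  rw [← mul_inv_eq_iff_eq_mul,
    show h * Φ.gh (Φ.p j) b * h⁻¹ = (h * Φ.gn (Φ.p j) b * h⁻¹) * (h * Φ.gn (Φ.p j) (-1) * h⁻¹) by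
      rw [gh]; group, e, e, mul_neg, mul_one, gn_mul_gn]

/-- The diagonal element with the given coordinates. -/
def wSt (c : Fin D.rank → Kˣ) : D.SteinbergGroup K :=
  ((List.finRange D.rank).map fun k => Φ.gh (Φ.p k) (c k)).prod

theorem wSt_mul (hadj : Φ.Adj) (a b : Fin D.rank → Kˣ) : wSt Φ (a * b) = wSt Φ a * wSt Φ b := by
  unfold wSt
  induction List.finRange D.rank with
  | nil => simp
  | cons k L ih =>
    simp only [List.map_cons, List.prod_cons, Pi.mul_apply] at ih ⊢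
    rw [← gh_mul, ih]
    have hc : Commute (L.map fun k => Φ.gh (Φ.p k) (a k)).prod (Φ.gh (Φ.p k) (b k)) :=
      Commute.list_prod_left _ _ fun x hx => by
        obtain ⟨l, _, rfl⟩ := List.mem_map.mp hx
        exact gh_comm Φ hadj l k _ _
    simp only [mul_assoc]
    rw [← mul_assoc (List.prod _), hc.eq]
    simp only [mul_assoc]

/-- The homomorphism onto the diagonal subgroup of the presented group. -/
def wHom (hadj : Φ.Adj) : (Fin D.rank → Kˣ) →* D.SteinbergGroup K :=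
  MonoidHom.mk' (wSt Φ) (wSt_mul Φ hadj)

theorem wHom_apply (hadj : Φ.Adj) (c : Fin D.rank → Kˣ) : wHom Φ hadj c = wSt Φ c := rfl

theorem wSt_single (hadj : Φ.Adj) (i : Fin D.rank) (t : Kˣ) : wSt Φ (Pi.mulSingle i t) = Φ.gh (Φ.p i) t := by
  have key : ∀ L : List (Fin D.rank), L.Nodup →
      (L.map fun k => Φ.gh (Φ.p k) ((Pi.mulSingle i t : Fin D.rank → Kˣ) k)).prod =
        if i ∈ L then Φ.gh (Φ.p i) t else 1 := by
    intro L
    induction L with
    | nil => simp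
    | cons a L ih =>
      intro hnd
      rw [List.nodup_cons] at hnd
      rw [List.map_cons, List.prod_cons, ih hnd.2]
      by_cases ha : a = i
      · subst ha; rw [Pi.mulSingle_eq_same, if_neg hnd.1, mul_one, if_pos List.mem_cons_self]
      · rw [Pi.mulSingle_eq_of_ne ha, gh_one, one_mul]
        simp [Ne.symm ha]
  unfold wSt
  rw [key _ (List.nodup_finRange _), if_pos (List.mem_finRange i)]

theorem proj_wSt (c : Fin D.rank → Kˣ) : Φ.proj K (wSt Φ c) = Φ.toAlg.torus (Φ.coHom K c) := by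
  rw [Φ.coHom_mem, wSt, map_list_prod, List.map_map]
  congr 1
  exact List.map_congr_left fun k _ => Φ.proj_gh _ _

theorem exists_wSt {g : D.SteinbergGroup K} (hadj : Φ.Adj) {c : Fin D.rank → Kˣ}
    (hc : Φ.toAlg.torus c ∈ D.diagonalSubgroup K) (hg : Φ.proj K g = Φ.toAlg.torus c) :
    ∃ s, g = wSt Φ s ∧ Φ.coHom K s = c := by
  rw [Φ.diagonalSubgroup_eq] at hc
  obtain ⟨d, hd⟩ := hc
  rw [MonoidHom.comp_apply] at hd
  have hcd : Φ.coHom K d = c := Φ.torus_injective hd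
  have hker : g * (wSt Φ d)⁻¹ ∈ Φ.gH K := Φ.ker_le_gH hadj (by
    rw [map_mul, map_inv, proj_wSt, hcd, hg, mul_inv_cancel])
  obtain ⟨e, he⟩ := Φ.mem_gH_form hadj hker
  refine ⟨e * d, ?_, ?_⟩
  · rw [wSt_mul Φ hadj, show wSt Φ e = _ from he.symm, inv_mul_cancel_right]
  · refine Φ.torus_injective ?_
    rw [← proj_wSt, wSt_mul Φ hadj, show wSt Φ e = _ from he.symm, inv_mul_cancel_right, hg]

theorem gn_conj_gh (hadj : Φ.Adj) (i j : Fin D.rank) (t : Kˣ) :
    Φ.gn (Φ.p i) 1 * Φ.gh (Φ.p j) t * (Φ.gn (Φ.p i) (1 : Kˣ))⁻¹ =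
      Φ.gh (Φ.p j) t * Φ.gh (Φ.p i) (t ^ (-Φ.A j (Φ.p i))) := by
  set n := Φ.gn (Φ.p i) (1 : Kˣ) with hndef
  set h := Φ.gh (Φ.p j) t
  have hh : Φ.Nice h⁻¹ := Φ.nice_of_gN hadj (inv_mem (Φ.gH_le_gN (Φ.gh_mem_gH j t)))
  have hp : Φ.proj K h⁻¹ = Φ.toAlg.torus (Φ.coChar (Φ.p j) t⁻¹) := by
    rw [map_inv, Φ.proj_gh, Φ.hw_eq, ← map_inv]
    congr 1
    funext k; simp [coChar]
  set c : Kˣ := Φ.toSys.chi (Φ.coChar (Φ.p j) t⁻¹) (Φ.p i) with hcdef
  have hct : c = t ^ (-Φ.A j (Φ.p i)) := by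
    rw [hcdef, Φ.coChar_p, Φ.toAlg.chi_cartanChar, _root_.inv_zpow, _root_.zpow_neg]
  have e : h⁻¹ * n * h⁻¹⁻¹ = Φ.gn (Φ.p i) c := by
    refine Nice.conj_gn Φ hh ?_ ?_
    · rw [hp, Φ.toAlg.torus_xg, mul_inv_cancel_right]; simp [c]
    · rw [hp, Φ.toAlg.torus_xg, mul_inv_cancel_right, Φ.toSys.chi_neg]
      simp [c, Units.val_inv_eq_inv_val]
  rw [← hct, gh, ← e, hndef, Φ.gn_neg]
  group

theorem gn_conj_wSt (hadj : Φ.Adj) (hsym : ∀ a b, Φ.A a (Φ.p b) = Φ.A b (Φ.p a)) (i : Fin D.rank)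
    (c : Fin D.rank → Kˣ) :
    Φ.gn (Φ.p i) 1 * wSt Φ c * (Φ.gn (Φ.p i) (1 : Kˣ))⁻¹ = wSt Φ (expM (Pm Φ (Φ.reflPerm i))ᵀ c) := by
  let f1 : (Fin D.rank → Kˣ) →* D.SteinbergGroup K :=
    (MulAut.conj (Φ.gn (Φ.p i) (1 : Kˣ))).toMonoidHom.comp (wHom Φ hadj)
  let f2 : (Fin D.rank → Kˣ) →* D.SteinbergGroup K := (wHom Φ hadj).comp (expM (Pm Φ (Φ.reflPerm i))ᵀ)
  suffices H : ∀ (j : Fin D.rank) (t : Kˣ), f1 (Pi.mulSingle j t) = f2 (Pi.mulSingle j t) from
    Subgroup.pi_mem_of_mulSingle_mem (H := MonoidHom.eqLocus f1 f2) c fun j => H j (c j)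
  intro j t
  show Φ.gn (Φ.p i) 1 * wSt Φ (Pi.mulSingle j t) * (Φ.gn (Φ.p i) (1 : Kˣ))⁻¹ =
    wSt Φ (expM (Pm Φ (Φ.reflPerm i))ᵀ (Pi.mulSingle j t))
  rw [wSt_single Φ hadj, gn_conj_gh Φ hadj, ← wSt_single Φ hadj, ← wSt_single Φ hadj, ← wSt_mul Φ hadj]
  congr 1
  funext k
  rw [expM_apply, Finset.prod_eq_single j (fun l _ hl => by rw [Pi.mulSingle_eq_of_ne hl, _root_.one_zpow]) (by simp),
    Pi.mulSingle_eq_same, Matrix.transpose_apply, Pm, Matrix.of_apply]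
  show _ = t ^ Φ.V (Φ.refl i (Φ.p j)) k
  rw [Φ.V_refl, Φ.V_p, _root_.zpow_sub, Pi.mul_apply]
  congr 1
  · by_cases h : k = j
    · subst h; simp
    · rw [Pi.mulSingle_eq_of_ne h, if_neg (Ne.symm h), zpow_zero]
  · by_cases h : k = i
    · subst h; rw [Pi.mulSingle_eq_same, if_pos rfl, ← hsym, _root_.zpow_neg]
    · rw [Pi.mulSingle_eq_of_ne h, if_neg h, zpow_zero, _root_.inv_one]

theorem lperm_cons (i : Fin D.rank) (l : List (Fin D.rank)) : Φ.lperm (i :: l) = Φ.reflPerm i * Φ.lperm l := rfl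

theorem lperm_mem : ∀ l : List (Fin D.rank), Φ.lperm l ∈ Φ.WL
  | [] => one_mem _
  | i :: l => mul_mem (Φ.reflPerm_mem_WL i) (lperm_mem l)

theorem gword_conj_wSt (hadj : Φ.Adj) (hsym : ∀ a b, Φ.A a (Φ.p b) = Φ.A b (Φ.p a)) :
    ∀ (l : List (Fin D.rank)) (c : Fin D.rank → Kˣ),
      Φ.gword K l * wSt Φ c * (Φ.gword K l)⁻¹ = wSt Φ (expM (Pm Φ (Φ.lperm l))ᵀ c)
  | [], c => by
    rw [show Φ.lperm ([] : List (Fin D.rank)) = 1 from rfl, Pm_one, Matrix.transpose_one, expM_one]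
    simp [gword]
  | i :: l, c => by
    rw [lperm_cons, Pm_mul Φ (Φ.reflPerm_mem_WL i), Matrix.transpose_mul, expM_mul, ← gn_conj_wSt Φ hadj hsym,
      ← gword_conj_wSt hadj hsym l c]
    simp only [gword, List.map_cons, List.prod_cons]
    group

theorem exists_lperm {π : Equiv.Perm (Fin D.nroots)} (hπ : π ∈ Φ.WL) : ∃ l, Φ.lperm l = π := by
  induction hπ using Subgroup.closure_induction with
  | mem x hx => obtain ⟨i, -, rfl⟩ := hx; exact ⟨[i], by simp [lperm]⟩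
  | one => exact ⟨[], rfl⟩
  | mul x y _ _ hx hy =>
    obtain ⟨a, rfl⟩ := hx
    obtain ⟨b, rfl⟩ := hy
    exact ⟨a ++ b, by simp [lperm]⟩
  | inv x _ hx =>
    obtain ⟨a, rfl⟩ := hx
    refine ⟨a.reverse, ?_⟩
    simp only [lperm, List.prod_inv_reverse, List.map_map, List.map_reverse, List.reverse_reverse]
    exact congrArg _ (congrArg _ (List.map_congr_left fun i _ => (Φ.reflPerm_inv i).symm))

theorem mono_gword : ∀ l : List (Fin D.rank), Φ.Mono (Φ.proj K (Φ.gword K l)) (Φ.lperm l)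
  | [] => by simp [gword, lperm]; exact Mono.one Φ
  | i :: l => by
    have ih := mono_gword l
    simp only [gword, lperm, List.map_cons, List.prod_cons, map_mul] at ih ⊢
    exact Mono.mul Φ (by rw [Φ.proj_gn]; exact Φ.nw_one_mono i) ih

include Φ in
theorem exists_lift {g : GL D.Idx K} (hg : g ∈ D.group K) : ∃ y, Φ.proj K y = g := by
  have hle : D.group K ≤ (Φ.proj K).range := by
    rw [Φ.toAlg.group_eq, Subgroup.closure_le]
    rintro _ ⟨r, t, rfl⟩
    exact ⟨_, Φ.proj_gx r t⟩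
  exact hle hg

include Φ in
/-- The presented group is functorial in the field. -/
theorem exists_mapSt (f : F →+* K) : ∃ φ : D.SteinbergGroup F →* D.SteinbergGroup K,
    (∀ r t, φ (Φ.gx r t) = Φ.gx r (f t)) ∧
      ∀ x, Φ.proj K (φ x) = Matrix.GeneralLinearGroup.map f (Φ.proj F x) := by
  let g : Fin D.nroots × F → D.SteinbergGroup K := fun p => D.stGen K p.1.val (f p.2)
  have hX : ∀ r t, FreeGroup.lift g (D.stX r t) =
      PresentedGroup.mk (D.steinbergRels K) (D.stX r (f t)) := fun r t => by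
    by_cases hr : r < D.nroots
    · rw [ChevalleyDatum.stX, dif_pos hr, FreeGroup.lift_apply_of]
      rfl
    · rw [ChevalleyDatum.stX, dif_neg hr, map_one, ChevalleyDatum.stX, dif_neg hr, map_one]
  have hW : ∀ w : List (ℕ × F), FreeGroup.lift g (D.stWord w) =
      PresentedGroup.mk (D.steinbergRels K) (D.stWord (w.map fun p => (p.1, f p.2))) := fun w => by
    induction w with
    | nil => simp [ChevalleyDatum.stWord]
    | cons p w ih =>
      simp only [ChevalleyDatum.stWord, List.map_cons, List.prod_cons, map_mul] at ih ⊢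
      rw [ih, hX]
  have hH : ∀ r t, FreeGroup.lift g (D.stH r t) = PresentedGroup.mk (D.steinbergRels K) (D.stH r (f t)) := by
    intro r t
    rw [ChevalleyDatum.stH, hW]
    simp [ChevalleyDatum.stH, ChevalleyDatum.hWord, ChevalleyDatum.nWord, map_inv₀]
  have hrels : ∀ w ∈ D.steinbergRels F, FreeGroup.lift g w = 1 := by
    rintro w ((⟨r, a, b, hr, rfl⟩ | ⟨r, s, t, u, hr, hs, h1, h2, rfl⟩) | ⟨r, a, b, hr, ha, hb, rfl⟩)
    · rw [map_mul, map_mul, map_inv, hX, hX, hX, ← map_inv, ← map_mul, ← map_mul, map_add]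
      exact PresentedGroup.one_of_mem (Or.inl (Or.inl ⟨r, _, _, hr, rfl⟩))
    · rw [map_mul, map_mul, map_mul, map_mul, map_inv, map_inv, map_inv, hX, hX, hW]
      simp only [← map_inv, ← map_mul]
      refine PresentedGroup.one_of_mem (Or.inl (Or.inr ⟨r, s, f t, f u, hr, hs, h1, h2, ?_⟩))
      have e : (D.commWord F r s t u).map (fun p => (p.1, f p.2)) = D.commWord K r s (f t) (f u) := by
        simp [ChevalleyDatum.commWord, Function.comp_def]
      rw [e]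
    · rw [map_mul, map_mul, map_inv, hH, hH, hH, ← map_inv, ← map_mul, ← map_mul, map_mul f]
      exact PresentedGroup.one_of_mem (Or.inr ⟨r, f a, f b, hr, by simpa using ha, by simpa using hb, rfl⟩)
  have key : ∀ (r : Fin D.nroots) (t : F), PresentedGroup.toGroup hrels (Φ.gx r t) = Φ.gx r (f t) := fun r t =>
    hX r.val t
  refine ⟨PresentedGroup.toGroup hrels, key, fun x => ?_⟩
  refine Φ.gen_induction (Q := fun x => Φ.proj K (PresentedGroup.toGroup hrels x) =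
    Matrix.GeneralLinearGroup.map f (Φ.proj F x)) (by simp) (fun r t y hy => ?_) x
  simp only [map_mul, key, hy, Φ.proj_gx, map_root_xg]

theorem mapSt_wSt (φ : D.SteinbergGroup F →* D.SteinbergGroup K) (f : F →+* K)
    (hφ : ∀ r t, φ (Φ.gx r t) = Φ.gx r (f t)) (c : Fin D.rank → Fˣ) :
    φ (wSt Φ c) = wSt Φ fun k => Units.map f.toMonoidHom (c k) := by
  rw [wSt, wSt, map_list_prod, List.map_map]
  congr 1
  refine List.map_congr_left fun k _ => ?_
  simp [gh, gn, hφ, map_inv₀]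

end CfsgLib.CoxTorus
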