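import Mathlib.RingTheory.Polynomial.Cyclotomic.Roots
import Mathlib.RingTheory.Polynomial.Cyclotomic.Eval
import Mathlib.NumberTheory.Padics.PadicVal.Basic
import Mathlib.FieldTheory.Finite.Basic
import Mathlib.GroupTheory.FiniteAbelian.Basic
import Mathlib.Data.Nat.Factorization.Basic

/-!
The `r`-parts of the numbers `q ^ k - 1`, and homocyclic groups from their order, exponent and rank.
-/

set_option autoImplicit false
set_option linter.dupNamespace false

namespace CfsgLib.CoxTorus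

open Polynomial

variable {r q : ℕ} [Fact r.Prime]

theorem natCast_ne_zero_of_not_dvd (hrq : ¬ r ∣ q) : (q : ZMod r) ≠ 0 := fun h =>
  hrq ((ZMod.natCast_eq_zero_iff _ _).1 h)

theorem orderOf_pos_of_not_dvd (hrq : ¬ r ∣ q) : 0 < orderOf (q : ZMod r) :=
  orderOf_pos_iff.2 (isOfFinOrder_iff_pow_eq_one.2 ⟨r - 1, Nat.sub_pos_of_lt (Fact.out : r.Prime).one_lt,
    ZMod.pow_card_sub_one_eq_one (natCast_ne_zero_of_not_dvd hrq)⟩)

theorem not_dvd_orderOf (hrq : ¬ r ∣ q) : ¬ r ∣ orderOf (q : ZMod r) := by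
  intro h
  have h1 : orderOf (q : ZMod r) ∣ r - 1 :=
    orderOf_dvd_of_pow_eq_one (ZMod.pow_card_sub_one_eq_one (natCast_ne_zero_of_not_dvd hrq))
  have h2 := Nat.le_of_dvd (Nat.sub_pos_of_lt (Fact.out : r.Prime).one_lt) (h.trans h1)
  have := (Fact.out : r.Prime).one_lt
  omega

theorem dvd_pow_sub_one_iff (hq : 1 ≤ q) (k : ℕ) : r ∣ q ^ k - 1 ↔ orderOf (q : ZMod r) ∣ k := by
  rw [← ZMod.natCast_eq_zero_iff, Nat.cast_sub (Nat.one_le_pow _ _ hq), Nat.cast_pow, Nat.cast_one,
    sub_eq_zero, orderOf_dvd_iff_pow_eq_one]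

theorem padic_pow_sub_one_of_dvd (hq : 2 ≤ q) {k : ℕ} (hk : ¬ r ∣ k) (hdk : orderOf (q : ZMod r) ∣ k) :
    padicValNat r (q ^ k - 1) = padicValNat r (q ^ orderOf (q : ZMod r) - 1) := by
  obtain ⟨j, hj⟩ := hdk
  set d := orderOf (q : ZMod r) with hd
  have hj0 : ¬ r ∣ j := fun h => hk (hj ▸ h.mul_left d)
  have hd0 : d ≠ 0 := fun h => hk (by rw [hj, h, zero_mul]; exact dvd_zero r)
  have hQ : 1 ≤ q ^ d := Nat.one_le_pow _ _ (by omega)
  have hQ1 : q ^ d - 1 ≠ 0 := Nat.sub_ne_zero_of_lt (Nat.one_lt_pow hd0 (by omega))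
  have hgeom : q ^ k - 1 = (q ^ d - 1) * ∑ i ∈ Finset.range j, (q ^ d) ^ i := by
    rw [hj, pow_mul, mul_comm, ← geom_sum_mul_of_one_le hQ j]
  have hsum : ¬ r ∣ ∑ i ∈ Finset.range j, (q ^ d) ^ i := by
    rw [← ZMod.natCast_eq_zero_iff]
    push_cast
    simp only [hd, pow_orderOf_eq_one, one_pow, Finset.sum_const, Finset.card_range, nsmul_eq_mul, mul_one]
    exact fun h => hj0 ((ZMod.natCast_eq_zero_iff _ _).1 h)
  rw [hgeom, padicValNat.mul hQ1 (fun h => hsum (by rw [h]; exact dvd_zero r)),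
    padicValNat.eq_zero_of_not_dvd hsum, add_zero]

theorem padic_cyclotomic (hq : 2 ≤ q) (hrq : ¬ r ∣ q) :
    padicValNat r ((cyclotomic (orderOf (q : ZMod r)) ℤ).eval (q : ℤ)).natAbs =
      padicValNat r (q ^ orderOf (q : ZMod r) - 1) := by
  classical
  set d := orderOf (q : ZMod r) with hd
  have hd0 : 0 < d := orderOf_pos_of_not_dvd hrq
  set R : ℤ := ∏ k ∈ d.divisors.erase d, (cyclotomic k ℤ).eval (q : ℤ) with hR
  have hprod : (cyclotomic d ℤ).eval (q : ℤ) * R = (q : ℤ) ^ d - 1 := by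
    rw [hR, ← eval_prod, ← eval_mul,
      Finset.mul_prod_erase _ (fun k => cyclotomic k ℤ) (Nat.mem_divisors_self d hd0.ne'),
      prod_cyclotomic_eq_X_pow_sub_one hd0]
    simp
  have hnat : ((cyclotomic d ℤ).eval (q : ℤ)).natAbs * R.natAbs = q ^ d - 1 := by
    rw [← Int.natAbs_mul, hprod, show ((q : ℤ) ^ d - 1) = ((q ^ d - 1 : ℕ) : ℤ) by
      rw [Nat.cast_sub (Nat.one_le_pow _ _ (by omega))]; push_cast; rfl, Int.natAbs_natCast]
  have hne : q ^ d - 1 ≠ 0 := Nat.sub_ne_zero_of_lt (Nat.one_lt_pow hd0.ne' (by omega))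
  obtain ⟨h1, h2⟩ := mul_ne_zero_iff.1 (hnat ▸ hne)
  have hRr : ¬ r ∣ R.natAbs := by
    rw [← Int.natCast_dvd, hR, (Nat.prime_iff_prime_int.1 (Fact.out : r.Prime)).dvd_finsetProd_iff]
    rintro ⟨k, hk, hkd⟩
    obtain ⟨hkne, hk⟩ := Finset.mem_erase.1 hk
    obtain ⟨hkdvd, -⟩ := Nat.mem_divisors.1 hk
    have hk1 : (r : ℤ) ∣ (q : ℤ) ^ k - 1 := hkd.trans (by
      simpa using eval_dvd (x := (q : ℤ)) (cyclotomic.dvd_X_pow_sub_one k ℤ))
    have h3 : r ∣ q ^ k - 1 := by
      rw [← Int.natCast_dvd_natCast, Nat.cast_sub (Nat.one_le_pow _ _ (by omega))]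
      push_cast
      exact hk1
    exact hkne (Nat.dvd_antisymm hkdvd ((dvd_pow_sub_one_iff (by omega) k).1 h3))
  rw [← hnat, padicValNat.mul h1 h2, padicValNat.eq_zero_of_not_dvd hRr, add_zero]

/-- The `r`-part of the product of the numbers `q ^ k - 1`. -/
theorem padic_degree_prod (hq : 2 ≤ q) :
    ∀ degs : List ℕ, ¬ r ∣ degs.prod →
      (degs.map fun k => q ^ k - 1).prod ≠ 0 ∧
      padicValNat r (degs.map fun k => q ^ k - 1).prod =
        (degs.filter fun k => orderOf (q : ZMod r) ∣ k).length *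
          padicValNat r (q ^ orderOf (q : ZMod r) - 1) := by
  intro degs
  induction degs with
  | nil => intro _; simp
  | cons k l ih =>
    intro h
    rw [List.prod_cons] at h
    obtain ⟨ih1, ih2⟩ := ih fun hl => h (hl.mul_left k)
    have hk : ¬ r ∣ k := fun hk => h (hk.mul_right _)
    have hk0 : k ≠ 0 := fun e => hk (e ▸ dvd_zero r)
    have hne : q ^ k - 1 ≠ 0 := Nat.sub_ne_zero_of_lt (Nat.one_lt_pow hk0 (by omega))
    rw [List.map_cons, List.prod_cons]
    refine ⟨mul_ne_zero hne ih1, ?_⟩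
    rw [padicValNat.mul hne ih1, ih2]
    by_cases hd : orderOf (q : ZMod r) ∣ k
    · rw [List.filter_cons_of_pos (by simpa using hd), List.length_cons, padic_pow_sub_one_of_dvd hq hk hd]
      ring
    · rw [List.filter_cons_of_neg (by simpa using hd),
        padicValNat.eq_zero_of_not_dvd (fun h' => hd ((dvd_pow_sub_one_iff (by omega) k).1 h')), zero_add]

/-- An abelian group of order `r ^ (e * a)`, exponent dividing `r ^ e` and rank at most `a` is homocyclic. -/
theorem homocyclic_of_card {G : Type*} [CommGroup G] [Finite G] {e a : ℕ} (he : 0 < e)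
    (hexp : ∀ x : G, x ^ r ^ e = 1) (hcard : Nat.card G = r ^ (e * a))
    (hrank : Nat.card (powMonoidHom r : G →* G).ker ≤ r ^ a) :
    Nonempty (G ≃* (Fin a → Multiplicative (ZMod (r ^ e)))) := by
  classical
  have hp := (Fact.out : r.Prime)
  obtain ⟨ι, hι, n, hn1, ⟨φ⟩⟩ := CommGroup.equiv_prod_multiplicative_zmod_of_finite G
  have hdvd : ∀ i, n i ∣ r ^ e := fun i => by
    have h := hexp (φ.symm (Pi.mulSingle i (Multiplicative.ofAdd 1)))
    rw [← map_pow, map_eq_one_iff φ.symm φ.symm.injective, ← Pi.mulSingle_pow, Pi.mulSingle_eq_one_iff,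
      ← orderOf_dvd_iff_pow_eq_one, orderOf_ofAdd_eq_addOrderOf, ZMod.addOrderOf_one] at h
    exact h
  choose k hk hnk using fun i => (Nat.dvd_prime_pow hp).1 (hdvd i)
  haveI : ∀ i, NeZero (n i) := fun i => ⟨by have := hn1 i; omega⟩
  have hsum : ∑ i, k i = e * a := by
    refine Nat.pow_right_injective hp.two_le ?_
    simp only
    rw [← hcard, Nat.card_congr φ.toEquiv, Nat.card_pi, ← Finset.prod_pow_eq_pow_sum]
    exact Finset.prod_congr rfl fun i _ => by rw [Nat.card_congr Multiplicative.toAdd, Nat.card_zmod, hnk]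
  have hkpos : ∀ i, 0 < k i := fun i => by
    rcases Nat.eq_zero_or_pos (k i) with h0 | h0
    · have := hn1 i
      rw [hnk, h0, pow_zero] at this
      omega
    · exact h0
  have hι' : Fintype.card ι ≤ a := by
    refine (Nat.pow_le_pow_iff_right hp.one_lt).1 (le_trans ?_ hrank)
    let emb : (∀ i, (powMonoidHom r : Multiplicative (ZMod (n i)) →* _).ker) → (powMonoidHom r : G →* G).ker :=
      fun y => ⟨φ.symm fun i => (y i).1, by
        rw [MonoidHom.mem_ker, powMonoidHom_apply, ← map_pow]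
        exact (congrArg φ.symm (funext fun i => (y i).2)).trans (map_one _)⟩
    have hinj : Function.Injective emb := fun y y' h => funext fun i =>
      Subtype.ext (congrFun (φ.symm.injective (congrArg Subtype.val h)) i)
    refine le_trans (le_of_eq ?_) (Nat.card_le_card_of_injective emb hinj)
    rw [Nat.card_pi, ← Finset.card_univ, ← Finset.prod_const]
    refine Finset.prod_congr rfl fun i _ => ?_
    rw [IsCyclic.card_powMonoidHom_ker, Nat.card_congr Multiplicative.toAdd, Nat.card_zmod,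
      Nat.gcd_eq_right (hnk i ▸ dvd_pow_self r (hkpos i).ne')]
  have hkle : ∀ i, k i ≤ e := hk
  have hall : ∀ i, k i = e := by
    by_contra! h
    obtain ⟨i, hi⟩ := h
    have : ∑ i, k i < ∑ _i : ι, e :=
      Finset.sum_lt_sum (fun j _ => hkle j) ⟨i, Finset.mem_univ i, lt_of_le_of_ne (hkle i) hi⟩
    rw [hsum, Finset.sum_const, Finset.card_univ, smul_eq_mul] at this
    have := Nat.mul_le_mul_right e hι'
    rw [mul_comm a e] at this
    omega
  have hcι : Fintype.card ι = a := by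
    rw [Finset.sum_congr rfl (fun i _ => hall i), Finset.sum_const, Finset.card_univ, smul_eq_mul,
      mul_comm] at hsum
    exact Nat.eq_of_mul_eq_mul_left he hsum
  have hne : ∀ i, n i = r ^ e := fun i => by rw [hnk, hall]
  exact ⟨φ.trans ((MulEquiv.piCongrRight fun i => AddEquiv.toMultiplicative
    (ZMod.ringEquivCongr (hne i)).toAddEquiv).trans
      (MulEquiv.arrowCongr (Fintype.equivFinOfCardEq hcι) (MulEquiv.refl _)))⟩

end CfsgLib.CoxTorus
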